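import Mathlib
import Cfsg.Prelude.Def_Transfer
import Cfsg.Agent.Lib.Elem69.PGroupSmall
import Cfsg.Agent.Lib.PSolvable.Core

/-!
# Blocks from a normal elementary abelian subgroup of order `p ^ 2`
-/

namespace Cfsg.Agent.Lib.Elem69

/-- A faithful irreducible `p`-group with a normal elementary abelian subgroup of order `p ^ 2`
permutes `p` subspaces cyclically, with nonfaithful actions of their stabiliser. -/
theorem exists_blocks (q : ℕ) [Fact q.Prime] {V : Type*} [AddCommGroup V] [Module (ZMod q) V] [Finite V] [Nontrivial V]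
    {G : Type*} [Group G] [Finite G] (p : ℕ) [Fact p.Prime] (hG : IsPGroup p G)
    (ρ : G →* (V ≃ₗ[ZMod q] V)) (hρ : Function.Injective ρ)
    (hirr : ∀ W : Submodule (ZMod q) V, (∀ g : G, ∀ w ∈ W, ρ g w ∈ W) → W = ⊥ ∨ W = ⊤)
    (E : Subgroup G) (hEn : E.Normal) (hE : Cfsg.IsElementaryAbelian p E) (hEc : Nat.card E = p ^ 2) :
    ∃ (H : Subgroup G) (W : Fin p → Submodule (ZMod q) V), H.index = p ∧
      iSup W = ⊤ ∧ iSupIndep W ∧
      (∀ h ∈ H, ∀ i, ∀ w ∈ W i, ρ h w ∈ W i) ∧
      (∀ i, ∃ h ∈ H, h ≠ 1 ∧ ∀ w ∈ W i, ρ h w = w) ∧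
      ∀ g : G, g ∉ H → ∃ σ : Equiv.Perm (Fin p), orderOf σ = p ∧ ∀ i, (W i).map (ρ g : V →ₗ[ZMod q] V) = W (σ i) := by
  classical
  have hpp := Fact.out (p := p.Prime)
  have hqq := Fact.out (p := q.Prime)
  have hnt : ¬ IsCyclic G := fun hc => by
    haveI := hc
    haveI : IsCyclic E := Subgroup.isCyclic E
    have h1 : Monoid.exponent E ∣ p :=
      Monoid.exponent_dvd_of_forall_pow_eq_one fun x => Subtype.ext (hE.2 _ x.2)
    rw [IsCyclic.exponent_eq_card, hEc] at h1
    exact absurd (Nat.le_of_dvd hpp.pos h1) (by nlinarith [hpp.one_lt])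
  have hρm : ∀ g h : G, ∀ v : V, ρ (g * h) v = ρ g (ρ h v) := fun g h v => by rw [map_mul]; rfl
  let Fix : G → Submodule (ZMod q) V := fun g =>
    LinearMap.eqLocus (ρ g : V →ₗ[ZMod q] V) LinearMap.id
  have hFix : ∀ g v, v ∈ Fix g ↔ ρ g v = v := fun g v => Iff.rfl
  have hqp : p ≠ q := by
    rintro rfl
    -- a `p`-group fixes a nonzero vector
    letI : MulAction G V :=
      { smul := fun g v => ρ g v
        one_smul := fun v => by show ρ 1 v = v; rw [map_one]; rfl
        mul_smul := hρm }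
    let W : Submodule (ZMod p) V := ⨅ g : G, Fix g
    have hWinv : ∀ g : G, ∀ w ∈ W, ρ g w ∈ W := fun g w hw => by
      rwa [(hFix g w).mp ((Submodule.mem_iInf _).mp hw g)]
    rcases hirr W hWinv with h | h
    · have h1 := hG.card_modEq_card_fixedPoints V
      have hpV : p ∣ Nat.card V := by
        obtain ⟨v, hv⟩ := exists_ne (0 : V)
        rw [Module.natCard_eq_pow_finrank (K := ZMod p), Nat.card_zmod]
        exact dvd_pow_self p Module.finrank_pos.ne'
      have hfp : MulAction.fixedPoints G V = {0} := by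
        ext v
        constructor
        · intro hv
          have : v ∈ W := (Submodule.mem_iInf _).mpr fun g => hv g
          rw [h] at this
          exact this
        · rintro rfl g
          exact map_zero (ρ g)
      rw [hfp, Nat.card_coe_set_eq, Set.ncard_singleton] at h1
      exact hpp.one_lt.ne' (Nat.dvd_one.mp ((Nat.ModEq.dvd_iff h1 dvd_rfl).mp hpV))
    · apply hnt
      haveI : Subsingleton G := ⟨fun a b => hρ (LinearEquiv.ext fun v => by
        have hv : v ∈ W := h ▸ Submodule.mem_top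
        rw [(hFix a v).mp ((Submodule.mem_iInf _).mp hv a), (hFix b v).mp ((Submodule.mem_iInf _).mp hv b)])⟩
      infer_instance
  have hpu : (p : ZMod q) ≠ 0 := by
    rw [ne_eq, ZMod.natCast_eq_zero_iff]
    exact fun h => hqp ((Nat.prime_dvd_prime_iff_eq hqq hpp).mp h).symm
  have hEne : E ≠ ⊥ := fun h => by
    rw [h, Subgroup.card_bot] at hEc
    exact (Nat.one_lt_pow two_ne_zero hpp.one_lt).ne hEc
  obtain ⟨z, hzE, hzc, hzo⟩ := exists_central_order_p hG E hEne
  have hzn := normal_zpowers_of_mem_center hzc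
  -- elements of `⟨z⟩` are fixed-point-free
  have hzfpf : ∀ y ∈ Subgroup.zpowers z, y ≠ 1 → ∀ v, ρ y v = v → v = 0 := by
    intro y hy hy1 v hv
    rcases hirr (Fix y) (fun g w hw => by
      rw [hFix] at hw ⊢
      rw [← hρm, ← Subgroup.mem_center_iff.mp (Subgroup.zpowers_le.mpr hzc hy) g, hρm, hw]) with h | h
    · have : v ∈ Fix y := hv
      rwa [h, Submodule.mem_bot] at this
    · exact absurd (hρ (a₂ := (1 : G)) (LinearEquiv.ext fun w => by
        have hw : w ∈ Fix y := h ▸ Submodule.mem_top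
        rw [(hFix y w).mp hw, map_one]; rfl)) hy1
  obtain ⟨e, heE, hez⟩ : ∃ e ∈ E, e ∉ Subgroup.zpowers z := by
    by_contra hcon
    push Not at hcon
    have := Subgroup.card_le_of_le (show E ≤ Subgroup.zpowers z from hcon)
    rw [hEc, Nat.card_zpowers, hzo, pow_two] at this
    nlinarith [hpp.one_lt]
  have hzp : z ^ p = 1 := hzo ▸ pow_orderOf_eq_one z
  have hep : e ^ p = 1 := hE.2 e heE
  -- conjugation moves `e` inside its coset
  have hκ : ∀ g : G, g * e * g⁻¹ * e⁻¹ ∈ Subgroup.zpowers z := by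
    intro g
    let π := QuotientGroup.mk' (Subgroup.zpowers z)
    have hc : Nat.card (E.map π) = p := by
      have h1 : Nat.card E = Nat.card (Subgroup.zpowers z) * Nat.card (E.map π) := by
        rw [← PSolvable.card_comap_mk', Subgroup.comap_map_eq_self]
        rw [QuotientGroup.ker_mk']
        exact Subgroup.zpowers_le.mpr hzE
      rw [hEc, Nat.card_zpowers, hzo, pow_two] at h1
      exact (Nat.eq_of_mul_eq_mul_left hpp.pos h1).symm
    have hn : (E.map π).Normal := hEn.map π (QuotientGroup.mk'_surjective _)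
    obtain ⟨v, hv, hvc, hvo⟩ := exists_central_order_p (hG.to_quotient _) (E.map π) (fun h => by
      rw [h, Subgroup.card_bot] at hc; exact hpp.one_lt.ne hc)
    have hEv : E.map π = Subgroup.zpowers v := (Subgroup.eq_of_le_of_card_ge
      (Subgroup.zpowers_le.mpr hv) (by rw [hc, Nat.card_zpowers, hvo])).symm
    have hec : (e : G ⧸ Subgroup.zpowers z) ∈ Subgroup.center (G ⧸ Subgroup.zpowers z) := by
      have h1 : (e : G ⧸ Subgroup.zpowers z) ∈ E.map π := ⟨e, heE, rfl⟩
      rw [hEv] at h1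
      exact Subgroup.zpowers_le.mpr hvc h1
    rw [← QuotientGroup.eq_one_iff]
    simp only [QuotientGroup.mk_mul, QuotientGroup.mk_inv]
    rw [Subgroup.mem_center_iff.mp hec, mul_inv_cancel_right, mul_inv_cancel]
  have hcz : ∀ w ∈ Subgroup.zpowers z, ∀ g : G, g * w * g⁻¹ = w := fun w hw g => by
    rw [Subgroup.mem_center_iff.mp (Subgroup.zpowers_le.mpr hzc hw) g, mul_inv_cancel_right]
  let κ : G →* Subgroup.zpowers z :=
    { toFun := fun g => ⟨g * e * g⁻¹ * e⁻¹, hκ g⟩
      map_one' := Subtype.ext (by simp)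
      map_mul' := fun g h => Subtype.ext (by
        show g * h * e * (g * h)⁻¹ * e⁻¹ = (g * e * g⁻¹ * e⁻¹) * (h * e * h⁻¹ * e⁻¹)
        have h1 := hcz _ (hκ h) g
        have h2 := Subgroup.mem_center_iff.mp (Subgroup.zpowers_le.mpr hzc (hκ h)) (g * e * g⁻¹ * e⁻¹)
        rw [h2]
        calc g * h * e * (g * h)⁻¹ * e⁻¹ = (g * (h * e * h⁻¹ * e⁻¹) * g⁻¹) * (g * e * g⁻¹ * e⁻¹) := by group
          _ = (h * e * h⁻¹ * e⁻¹) * (g * e * g⁻¹ * e⁻¹) := by rw [h1]) }
  haveI : NeZero p := ⟨hpp.ne_zero⟩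
  let ei : Fin p → G := fun i => e * z ^ (i : ℕ)
  have hcomm : Commute e z := Subgroup.mem_center_iff.mp hzc e
  have hei1 : ∀ i, ei i ≠ 1 := fun i h => hez (by
    rw [eq_inv_of_mul_eq_one_left h]; exact inv_mem (pow_mem (Subgroup.mem_zpowers z) _))
  have heip : ∀ i, ei i ^ p = 1 := fun i => by
    show (e * z ^ (i : ℕ)) ^ p = 1
    rw [(hcomm.pow_right _).mul_pow, hep, ← pow_mul, mul_comm, pow_mul, hzp, one_pow, one_mul]
  let S : Fin p → (V →ₗ[ZMod q] V) := fun i => ∑ j ∈ Finset.range p, (ρ (ei i ^ j) : V →ₗ[ZMod q] V)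
  have hSapp : ∀ i v, S i v = ∑ j ∈ Finset.range p, ρ (ei i ^ j) v := fun i v => by simp [S]
  have hShift : ∀ (y : G), y ^ p = 1 → ∀ v : V,
      ρ y (∑ j ∈ Finset.range p, ρ (y ^ j) v) = ∑ j ∈ Finset.range p, ρ (y ^ j) v := by
    intro y hy v
    rw [map_sum]
    simp only [← hρm, ← pow_succ']
    have h1 := Finset.sum_range_succ (fun j => ρ (y ^ j) v) p
    rw [Finset.sum_range_succ' (fun j => ρ (y ^ j) v) p, hy, pow_zero] at h1
    exact add_right_cancel h1
  have hSmem : ∀ i v, S i v ∈ Fix (ei i) := fun i v => by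
    rw [hFix, hSapp]; exact hShift _ (heip i) v
  have hsum : ∀ v, ∑ i, S i v = (p : ZMod q) • v := by
    intro v
    simp only [hSapp]
    rw [Finset.sum_comm, Nat.cast_smul_eq_nsmul, ← Finset.sum_erase_add _ _ (Finset.mem_range.mpr hpp.pos)]
    rw [Finset.sum_eq_zero (s := (Finset.range p).erase 0)]
    · simp
    intro j hj
    obtain ⟨hj0, hjp⟩ := Finset.mem_erase.mp hj
    rw [Finset.mem_range] at hjp
    have hi : ∀ i : Fin p, ρ (ei i ^ j) v = ρ (e ^ j) (ρ ((z ^ j) ^ (i : ℕ)) v) := fun i => by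
      rw [← hρm]; show ρ ((e * z ^ (i : ℕ)) ^ j) v = _
      rw [(hcomm.pow_right _).mul_pow, ← pow_mul, ← pow_mul, mul_comm (i : ℕ)]
    rw [Finset.sum_congr rfl (fun i _ => hi i), ← map_sum]
    have hzj : z ^ j ≠ 1 := fun h => by
      have := orderOf_dvd_of_pow_eq_one h
      rw [hzo] at this
      exact absurd (Nat.le_of_dvd (Nat.pos_of_ne_zero hj0) this) (not_le.mpr hjp)
    have h0 : ∑ i : Fin p, ρ ((z ^ j) ^ (i : ℕ)) v = 0 := by
      refine hzfpf _ (pow_mem (Subgroup.mem_zpowers z) j) hzj _ ?_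
      rw [Fin.sum_univ_eq_sum_range (fun i => ρ ((z ^ j) ^ i) v)]
      exact hShift _ (by rw [← pow_mul, mul_comm, pow_mul, hzp, one_pow]) v
    rw [h0, map_zero]
  have hfix2 : ∀ i k : Fin p, i ≠ k → ∀ v, v ∈ Fix (ei i) → v ∈ Fix (ei k) → v = 0 := by
    intro i k hik v hi hk
    rw [hFix] at hi hk
    have h1 : ρ ((ei i)⁻¹ * ei k) v = v := by
      rw [hρm, hk]
      conv_lhs => rw [← hi]
      rw [← hρm, inv_mul_cancel, map_one]; rfl
    have h2 : (ei i)⁻¹ * ei k = (z ^ (i : ℕ))⁻¹ * z ^ (k : ℕ) := by simp only [ei]; group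
    rw [h2] at h1
    refine hzfpf _ (mul_mem (inv_mem (pow_mem (Subgroup.mem_zpowers z) _)) (pow_mem (Subgroup.mem_zpowers z) _)) (fun h3 => hik ?_) v h1
    rw [inv_mul_eq_one, pow_eq_pow_iff_modEq, hzo] at h3
    exact Fin.ext (by rw [← Nat.mod_eq_of_lt i.2, ← Nat.mod_eq_of_lt k.2]; exact h3)
  have hcee : ∀ i k, Commute (ei i) (ei k) := fun i k =>
    ((Commute.refl e).mul_right (hcomm.pow_right _)).mul_left
      ((hcomm.symm.pow_left _).mul_right ((Commute.refl z).pow_pow _ _))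
  have hSk : ∀ i k : Fin p, i ≠ k → ∀ u ∈ Fix (ei i), S k u = 0 := by
    intro i k hik u hu
    refine hfix2 i k hik _ ?_ (hSmem k u)
    rw [hFix] at hu ⊢
    rw [hSapp, map_sum]
    refine Finset.sum_congr rfl fun j _ => ?_
    rw [← hρm, ((hcee i k).pow_right j).eq, hρm, hu]
  have hSkk : ∀ k, ∀ u ∈ Fix (ei k), S k u = (p : ZMod q) • u := by
    intro k u hu
    have hj : ∀ j : ℕ, ρ (ei k ^ j) u = u := fun j => by
      induction j with
      | zero => rw [pow_zero, map_one]; rfl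
      | succ j ih => rw [pow_succ, hρm, (hFix _ _).mp hu, ih]
    rw [hSapp, Finset.sum_congr rfl fun j _ => hj j, Finset.sum_const, Finset.card_range, Nat.cast_smul_eq_nsmul]
  have hκne : ∃ g, κ g ≠ 1 := by
    by_contra hcon
    push Not at hcon
    -- then every `ei i` would be central, hence fixed-point-free
    obtain ⟨v, hv⟩ := exists_ne (0 : V)
    refine hv ?_
    have h0 : ∀ i, S i v = 0 := by
      intro i
      have hcen : ei i ∈ Subgroup.center G := by
        refine mul_mem (Subgroup.mem_center_iff.mpr fun g => ?_) (pow_mem hzc _)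
        have h1 : g * e * g⁻¹ * e⁻¹ = 1 := congrArg Subtype.val (hcon g)
        exact mul_inv_eq_iff_eq_mul.mp (mul_inv_eq_one.mp h1)
      rcases hirr (Fix (ei i)) (fun g w hw => by
        rw [hFix] at hw ⊢
        rw [← hρm, ← Subgroup.mem_center_iff.mp hcen g, hρm, hw]) with h | h
      · have := hSmem i v
        rwa [h, Submodule.mem_bot] at this
      · exact absurd (hρ (a₂ := (1 : G)) (LinearEquiv.ext fun w => by
          have hw : w ∈ Fix (ei i) := h ▸ Submodule.mem_top
          rw [(hFix _ w).mp hw, map_one]; rfl)) (hei1 i)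
    have h1 := hsum v
    rw [Finset.sum_eq_zero fun i _ => h0 i] at h1
    exact (smul_eq_zero.mp h1.symm).resolve_left hpu
  have hκs : Function.Surjective κ := by
    rw [← MonoidHom.range_eq_top]
    haveI : Fact (Nat.Prime (Nat.card (Subgroup.zpowers z))) := ⟨by rw [Nat.card_zpowers, hzo]; exact hpp⟩
    refine (κ.range.eq_bot_or_eq_top_of_prime_card).resolve_left fun h => ?_
    obtain ⟨g, hg⟩ := hκne
    exact hg (Subgroup.mem_bot.mp (h ▸ ⟨g, rfl⟩))
  refine ⟨κ.ker, fun i => Fix (ei i), ?_, ?_, ?_, ?_, ?_, ?_⟩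
  · rw [Subgroup.index_ker, MonoidHom.range_eq_top.mpr hκs, Subgroup.card_top, Nat.card_zpowers, hzo]
  · rw [eq_top_iff]
    intro v _
    have h1 : v = (p : ZMod q)⁻¹ • ∑ i, S i v := by rw [hsum, smul_smul, inv_mul_cancel₀ hpu, one_smul]
    rw [h1]
    exact Submodule.smul_mem _ _ (Submodule.sum_mem _ fun i _ => Submodule.mem_iSup_of_mem i (hSmem i v))
  · rw [iSupIndep_def]
    intro k
    rw [Submodule.disjoint_def]
    intro u hu hu'
    have h1 : S k u = 0 := by
      have hle : (⨆ (j) (_ : j ≠ k), Fix (ei j)) ≤ LinearMap.ker (S k) :=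
        iSup₂_le fun j hj w hw => hSk j k hj w hw
      exact hle hu'
    rw [hSkk k u hu] at h1
    exact (smul_eq_zero.mp h1).resolve_left hpu
  · intro h hh i w hw
    have hcm : h * ei i = ei i * h := by
      have h1 : h * e * h⁻¹ * e⁻¹ = 1 := congrArg Subtype.val hh
      have h2 : Commute h e := mul_inv_eq_iff_eq_mul.mp (mul_inv_eq_one.mp h1)
      exact (h2.mul_right ((show Commute h z from Subgroup.mem_center_iff.mp hzc h).pow_right _)).eq
    rw [hFix] at hw ⊢
    rw [← hρm, ← hcm, hρm, hw]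
  · intro i
    refine ⟨ei i, ?_, hei1 i, fun w hw => hw⟩
    rw [MonoidHom.mem_ker]
    apply Subtype.ext
    show ei i * e * (ei i)⁻¹ * e⁻¹ = 1
    rw [show ei i * e = e * ei i from (((Commute.refl e).mul_left (hcomm.symm.pow_left _))).eq, mul_inv_cancel_right,
      mul_inv_cancel]
  · intro g hg
    obtain ⟨c, hc, hge⟩ : ∃ c < p, g * e * g⁻¹ = e * z ^ c := by
      obtain ⟨k, hk⟩ := (isOfFinOrder_of_finite z).mem_powers_iff_mem_zpowers.mpr (hκ g)
      refine ⟨k % p, Nat.mod_lt _ hpp.pos, ?_⟩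
      rw [← hzo, pow_mod_orderOf, (hcomm.pow_right k).eq]
      exact (eq_mul_inv_iff_mul_eq.mp hk).symm
    let cc : Fin p := ⟨c, hc⟩
    refine ⟨Equiv.addRight cc, ?_, fun i => ?_⟩
    · refine orderOf_eq_prime ?_ fun h => hg ?_
      · have hpw : ∀ (j : ℕ) (a : Fin p), ((Equiv.addRight cc) ^ j) a = a + j • cc := fun j => by
          induction j with
          | zero => intro a; simp
          | succ j ih => intro a; rw [pow_succ', Equiv.Perm.mul_apply, ih, succ_nsmul, ← add_assoc]; rfl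
        have hz0 : p • cc = 0 := by
          have := card_nsmul_eq_zero (x := cc)
          rwa [Fintype.card_fin] at this
        refine Equiv.ext fun a => ?_
        rw [hpw, hz0, add_zero]; rfl
      · have h0 : cc = 0 := by simpa using Equiv.congr_fun h 0
        have hc0 : c = 0 := congrArg Fin.val h0
        subst hc0
        rw [pow_zero, mul_one] at hge
        exact Subtype.ext (mul_inv_eq_one.mpr hge)
    · have hconj : ei (Equiv.addRight cc i) = g * ei i * g⁻¹ := by
        show e * z ^ (((i + cc : Fin p)) : ℕ) = g * (e * z ^ (i : ℕ)) * g⁻¹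
        rw [Fin.val_add, show ∀ n, z ^ (n % p) = z ^ n from fun n => hzo ▸ pow_mod_orderOf z n, show g * (e * z ^ (i : ℕ)) * g⁻¹ = (g * e * g⁻¹) * (g * z ^ (i : ℕ) * g⁻¹) by group,
          hge, hcz _ (pow_mem (Subgroup.mem_zpowers z) _) g, mul_assoc, ← pow_add, add_comm]
      ext v
      rw [Submodule.mem_map]
      constructor
      · rintro ⟨w, hw, rfl⟩
        rw [hFix] at hw ⊢
        show ρ (ei _) (ρ g w) = ρ g w
        rw [hconj, ← hρm, inv_mul_cancel_right, hρm, hw]
      · intro hv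
        refine ⟨ρ g⁻¹ v, ?_, ?_⟩
        · rw [hFix] at hv ⊢
          rw [← hρm, show ei i * g⁻¹ = g⁻¹ * ei (Equiv.addRight cc i) by rw [hconj]; group, hρm, hv]
        · show ρ g (ρ g⁻¹ v) = v
          rw [← hρm, mul_inv_cancel, map_one]; rfl


end Cfsg.Agent.Lib.Elem69
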