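import Mathlib
import Cfsg.Prelude.Def_CaseTheorems
import Cfsg.Prelude.Def_Transfer
import Cfsg.Agent.Lib.Elem69.PGroupSmall
import Cfsg.Agent.Lib.TwoGroup.Recognition
import Cfsg.Agent.Lib.PUnique.Basic

/-!
# 2-groups without normal four-groups
-/

namespace Cfsg.Agent.Lib.Elem69

universe u

variable {G : Type u} [Group G] [Finite G]

omit [Finite G] in
theorem conj_zpow_eq {g a : G} {r : ℤ} (h : g * a * g⁻¹ = a ^ r) (i : ℤ) :
    g * a ^ i * g⁻¹ = a ^ (r * i) := by rw [← conj_zpow, h, zpow_mul]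

omit [Finite G] in
theorem sq_conj_eq {g a : G} {r : ℤ} (h : g * a * g⁻¹ = a ^ r) :
    g * g * a * (g * g)⁻¹ = a ^ (r * r) := by
  calc g * g * a * (g * g)⁻¹ = g * (g * a * g⁻¹) * g⁻¹ := by group
    _ = a ^ (r * r) := by rw [h, conj_zpow_eq h]

omit [Finite G] in
theorem zpow_eq_zpow_of_dvd {a : G} {n : ℕ} (ha : a ^ n = 1) {i j : ℤ} (h : (n : ℤ) ∣ i - j) :
    a ^ i = a ^ j := by
  obtain ⟨c, hc⟩ := h
  rw [show i = j + (n : ℤ) * c by linarith, zpow_add, zpow_mul, zpow_natCast, ha, one_zpow, mul_one]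

omit [Finite G] in
theorem dvd_of_zpow_eq_zpow {a : G} {n : ℕ} (ha : orderOf a = n) {i j : ℤ} (h : a ^ i = a ^ j) :
    (n : ℤ) ∣ i - j := by
  rw [← ha, orderOf_dvd_iff_zpow_eq_one, zpow_sub, h, mul_inv_cancel]

/-- A 2-group has a normal four-group, or is cyclic, generalized quaternion, dihedral or semidihedral. -/
theorem exists_normal_klein_or (hG : IsPGroup 2 G) :
    (∃ E : Subgroup G, E.Normal ∧ Cfsg.IsElementaryAbelian 2 E ∧ Nat.card E = 4) ∨ IsCyclic G ∨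
      (∃ m : ℕ, Nonempty (G ≃* QuaternionGroup m)) ∨ (∃ m : ℕ, Nonempty (G ≃* DihedralGroup m)) ∨
      Cfsg.IsQuasiDihedral G := by
  classical
  haveI : Fact (Nat.Prime 2) := ⟨Nat.prime_two⟩
  by_cases hK : ∃ K : Subgroup G, K.Normal ∧ (∀ y ∈ K, y ^ 2 = 1) ∧ 2 ^ 2 ≤ Nat.card K
  · obtain ⟨K, hKn, hKe, hKc⟩ := hK
    obtain ⟨N, hNn, hNK, hNc, -⟩ := exists_normal_card_sq_le hG K hKc
    exact Or.inl ⟨N, hNn, ⟨IsPGroup.isMulCommutative_of_card_eq_prime_sq hNc, fun y hy => hKe y (hNK hy)⟩, hNc⟩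
  push Not at hK
  right
  obtain ⟨A, hA⟩ := (Set.toFinite {A : Subgroup G | A.Normal ∧ IsMulCommutative A}).exists_maximal
    ⟨⊥, inferInstance, inferInstance⟩
  obtain ⟨hAn, hAc⟩ := hA.1
  -- `A` is cyclic
  have hcyc : IsCyclic A := by
    let K : Subgroup G :=
      { carrier := {y | y ∈ A ∧ y ^ 2 = 1}
        one_mem' := ⟨one_mem A, one_pow 2⟩
        mul_mem' := fun {c d} hc hd => ⟨mul_mem hc.1 hd.1, by
          rw [(show Commute c d from congrArg Subtype.val (hAc.is_comm.comm ⟨c, hc.1⟩ ⟨d, hd.1⟩)).mul_pow,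
            hc.2, hd.2, one_mul]⟩
        inv_mem' := fun {c} hc => ⟨inv_mem hc.1, by rw [inv_pow, hc.2, inv_one]⟩ }
    have hKn : K.Normal := ⟨fun y hy g => ⟨hAn.conj_mem y hy.1 g, by
      rw [conj_pow, hy.2, mul_one, mul_inv_cancel]⟩⟩
    have hlt := hK K hKn fun y hy => hy.2
    refine (Subgroup.topEquiv (G := A)).isCyclic.mp
      (PUnique.isCyclic_of_isMulCommutative (p := 2) (hG.to_subgroup A) ?_ ⊤)
    intro H H' hH hH'
    obtain ⟨c, hc⟩ := exists_prime_orderOf_dvd_card' (G := H) 2 (by rw [hH])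
    obtain ⟨c', hc'⟩ := exists_prime_orderOf_dvd_card' (G := H') 2 (by rw [hH'])
    have h1 : Subgroup.zpowers (c : A) = H := Subgroup.eq_of_le_of_card_ge (Subgroup.zpowers_le.mpr c.2)
      (by rw [Nat.card_zpowers, Subgroup.orderOf_coe, hc, hH])
    have h2 : Subgroup.zpowers (c' : A) = H' := Subgroup.eq_of_le_of_card_ge (Subgroup.zpowers_le.mpr c'.2)
      (by rw [Nat.card_zpowers, Subgroup.orderOf_coe, hc', hH'])
    by_contra hne'
    set u : G := ((c : A) : G) with hudef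
    set v : G := ((c' : A) : G) with hvdef
    have huv : u ≠ v := fun e => hne' (by rw [← h1, ← h2, (Subtype.ext e : (c : A) = (c' : A))])
    have hu2 : orderOf u = 2 := by rw [hudef, Subgroup.orderOf_coe, Subgroup.orderOf_coe, hc]
    have hv2 : orderOf v = 2 := by rw [hvdef, Subgroup.orderOf_coe, Subgroup.orderOf_coe, hc']
    have hu1 : u ≠ 1 := fun e => by rw [e, orderOf_one] at hu2; norm_num at hu2
    have hv1 : v ≠ 1 := fun e => by rw [e, orderOf_one] at hv2; norm_num at hv2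
    have hne : u * v ≠ 1 := fun e => huv (by
      have : u⁻¹ = u := inv_eq_of_mul_eq_one_right (by rw [← pow_two]; exact hu2 ▸ pow_orderOf_eq_one u)
      rw [← this]; exact inv_eq_of_mul_eq_one_right e)
    have hu' : u ∈ K := ⟨(c : A).2, hu2 ▸ pow_orderOf_eq_one u⟩
    have hv' : v ∈ K := ⟨(c' : A).2, hv2 ▸ pow_orderOf_eq_one v⟩
    have hsub : ({1, u, v, u * v} : Set G) ⊆ K := by
      rintro y (rfl | rfl | rfl | rfl)
      · exact one_mem K
      · exact hu'
      · exact hv'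
      · exact mul_mem hu' hv'
    have h4 : ({1, u, v, u * v} : Set G).ncard = 4 := by
      rw [Set.ncard_insert_of_notMem (by simp [Ne.symm hu1, Ne.symm hv1, Ne.symm hne]) (Set.toFinite _),
        Set.ncard_insert_of_notMem (by simp [huv, hv1]) (Set.toFinite _),
        Set.ncard_pair (by simp [hu1])]
    have hh : Nat.card K = (K : Set G).ncard := rfl
    have := Set.ncard_le_ncard hsub
    omega
  obtain ⟨a, ha⟩ := A.isCyclic_iff_exists_zpowers_eq_top.mp hcyc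
  subst ha
  obtain ⟨n, hn⟩ := IsPGroup.iff_orderOf.mp hG a
  -- self-centralising
  have hC : ∀ g, g * a * g⁻¹ = a → g ∈ Subgroup.zpowers a := by
    set A := Subgroup.zpowers a with hAdef
    set C := Subgroup.centralizer (A : Set G) with hCdef
    haveI : C.Normal := by rw [hCdef]; exact Subgroup.normal_centralizer
    have hAC : A ≤ C := fun y hy => Subgroup.mem_centralizer_iff.mpr fun w hw =>
      congrArg Subtype.val (hAc.is_comm.comm ⟨w, hw⟩ ⟨y, hy⟩)
    suffices hle : C ≤ A by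
      intro g hg
      refine hle (Subgroup.mem_centralizer_iff.mpr ?_)
      rintro _ ⟨i, rfl⟩
      exact ((show Commute g a from mul_inv_eq_iff_eq_mul.mp hg).zpow_right i).eq.symm
    by_contra hle
    set ρ := QuotientGroup.mk' A
    have hne : C.map ρ ≠ ⊥ := by
      rw [ne_eq, Subgroup.map_eq_bot_iff, QuotientGroup.ker_mk']; exact hle
    have hn' : (C.map ρ).Normal := Subgroup.Normal.map inferInstance ρ (QuotientGroup.mk'_surjective _)
    obtain ⟨w, hw, hwc, hwo⟩ := exists_central_order_p (hG.to_quotient A) (C.map ρ) hne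
    obtain ⟨x, hxC, rfl⟩ := hw
    have hB : (((Subgroup.zpowers (ρ x)).comap ρ)).Normal ∧
        IsMulCommutative ↥((Subgroup.zpowers (ρ x)).comap ρ) := by
      refine ⟨(normal_zpowers_of_mem_center hwc).comap ρ, ?_⟩
      have heq : (Subgroup.zpowers (ρ x)).comap ρ = Subgroup.closure ({x} ∪ (A : Set G)) := by
        rw [← MonoidHom.map_zpowers, Subgroup.comap_map_eq, QuotientGroup.ker_mk', Subgroup.closure_union,
          Subgroup.closure_eq, ← Subgroup.zpowers_eq_closure]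
      rw [heq]
      refine Subgroup.isMulCommutative_closure ?_
      rintro p hp q hq
      rcases hp with rfl | hp <;> rcases hq with rfl | hq
      · rfl
      · exact (Subgroup.mem_centralizer_iff.mp hxC q hq).symm
      · exact Subgroup.mem_centralizer_iff.mp hxC p hp
      · exact congrArg Subtype.val (hAc.is_comm.comm ⟨p, hp⟩ ⟨q, hq⟩)
    have hle' : A ≤ (Subgroup.zpowers (ρ x)).comap ρ := fun y hy => by
      rw [Subgroup.mem_comap, show ρ y = 1 from (QuotientGroup.eq_one_iff y).mpr hy]; exact one_mem _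
    have h1 := hA.2 hB hle'
    have hx : x ∈ A := h1 (Subgroup.mem_zpowers (ρ x))
    rw [show ρ x = 1 from (QuotientGroup.eq_one_iff x).mpr hx, orderOf_one] at hwo
    norm_num at hwo
  by_cases htop : ∀ g, g ∈ Subgroup.zpowers a
  · exact Or.inl (isCyclic_iff_exists_zpowers_eq_top.mpr ⟨a, eq_top_iff.mpr fun g _ => htop g⟩)
  push Not at htop
  right
  have hr : ∀ g : G, ∃ r : ℤ, g * a * g⁻¹ = a ^ r := fun g => by
    obtain ⟨r, hr⟩ := hAn.conj_mem a (Subgroup.mem_zpowers a) g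
    exact ⟨r, hr.symm⟩
  have ha' : a ^ 2 ^ n = 1 := hn ▸ pow_orderOf_eq_one a
  have hn2 : 2 ≤ n := by
    by_contra hcon
    obtain ⟨g, hg⟩ := htop
    apply hg
    apply hC
    obtain ⟨r, hr⟩ := hr g
    rcases (by omega : n = 0 ∨ n = 1) with rfl | rfl
    · rw [pow_zero, pow_one] at ha'; subst ha'; simp
    · rcases Int.even_or_odd r with ⟨c, hc⟩ | ⟨c, hc⟩
      · exfalso
        rw [hc, ← two_mul, zpow_mul, zpow_two, ← pow_two, ← pow_one 2, ha', one_zpow, mul_inv_eq_one, mul_eq_left] at hr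
        rw [hr, orderOf_one] at hn
        norm_num at hn
      · rw [hr, hc, zpow_add, zpow_one, zpow_mul, zpow_two, ← pow_two, ← pow_one 2, ha', one_zpow, one_mul]
  obtain ⟨m, rfl⟩ : ∃ m, n = m + 2 := ⟨n - 2, by omega⟩
  set z := a ^ (2 ^ (m + 1) : ℕ) with hz
  have hzpow : ((2 ^ (m + 2) : ℕ) : ℤ) = 2 * (2 : ℤ) ^ (m + 1) := by push_cast; ring
  -- outside `A`: the action is not `1` mod `2 ^ n`
  have hne1 : ∀ g (r : ℤ), g ∉ Subgroup.zpowers a → g * a * g⁻¹ = a ^ r → ¬ ((2 ^ (m + 2) : ℕ) : ℤ) ∣ r - 1 := by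
    intro g r hg hr hd
    apply hg
    apply hC
    rw [hr, zpow_eq_zpow_of_dvd ha' hd, zpow_one]
  have hodd : ∀ g (r : ℤ), g * a * g⁻¹ = a ^ r → Odd r := by
    intro g r hr
    rcases Int.even_or_odd r with ⟨c, hc⟩ | h
    · exfalso
      have h1 : orderOf (g * a * g⁻¹) = 2 ^ (m + 2) := by rw [← MulAut.conj_apply, MulEquiv.orderOf_eq]; exact hn
      have h2 : (g * a * g⁻¹) ^ (2 ^ (m + 1) : ℕ) = 1 := by
        rw [hr, ← zpow_natCast, ← zpow_mul, ← zpow_zero a]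
        refine zpow_eq_zpow_of_dvd ha' ⟨c, ?_⟩
        rw [hc]; push_cast; ring
      have h3 := orderOf_dvd_of_pow_eq_one h2
      rw [h1, Nat.pow_dvd_pow_iff_le_right one_lt_two] at h3
      omega
    · exact h
  -- no element acts as `1 + 2 ^ (n - 1)`
  have hnomod : 1 ≤ m → ∀ g (r : ℤ), g * a * g⁻¹ = a ^ r → ¬ ((2 ^ (m + 2) : ℕ) : ℤ) ∣ r - (1 + (2 : ℤ) ^ (m + 1)) := by
    intro hm g r hgr0 hd
    have hgr : g * a * g⁻¹ = a ^ (1 + (2 : ℤ) ^ (m + 1)) := hgr0.trans (zpow_eq_zpow_of_dvd ha' hd)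
    have hgA : g ∉ Subgroup.zpowers a := by
      rintro ⟨i, rfl⟩
      have h1 : a ^ i * a * (a ^ i)⁻¹ = a := by group
      rw [h1] at hgr
      have h2 := dvd_of_zpow_eq_zpow hn (i := 1) (j := 1 + (2 : ℤ) ^ (m + 1)) (by rw [zpow_one]; exact hgr)
      rw [hzpow] at h2
      have h3 : 2 * (2 : ℤ) ^ (m + 1) ∣ (2 : ℤ) ^ (m + 1) := by
        rw [show (1 : ℤ) - (1 + (2 : ℤ) ^ (m + 1)) = -((2 : ℤ) ^ (m + 1)) by ring, dvd_neg] at h2
        exact h2
      have := Int.le_of_dvd (by positivity) h3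
      have : (0 : ℤ) < (2 : ℤ) ^ (m + 1) := by positivity
      omega
    have hg2 : g * g ∈ Subgroup.zpowers a := by
      apply hC
      rw [sq_conj_eq hgr]
      conv_rhs => rw [← zpow_one a]
      refine zpow_eq_zpow_of_dvd ha' ⟨1 + (2 : ℤ) ^ m, ?_⟩
      rw [hzpow]; ring
    obtain ⟨i, hi : a ^ i = g * g⟩ := hg2
    have hfix : g * a ^ i * g⁻¹ = a ^ i := by rw [hi]; group
    rw [conj_zpow_eq hgr] at hfix
    obtain ⟨c, hc⟩ := dvd_of_zpow_eq_zpow hn hfix
    rw [hzpow] at hc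
    have hieven : i = 2 * c := by
      have h1 : (2 : ℤ) ^ (m + 1) * i = (2 : ℤ) ^ (m + 1) * (2 * c) := by linear_combination hc
      exact mul_left_cancel₀ (by positivity) h1
    -- choose an involution in the coset
    have hunit : IsCoprime (1 + (2 : ℤ) ^ m) ((2 : ℤ) ^ (m + 1)) := by
      refine IsCoprime.pow_right ?_
      obtain ⟨m', rfl⟩ : ∃ m', m = m' + 1 := ⟨m - 1, by omega⟩
      exact ⟨1, -(2 : ℤ) ^ m', by ring⟩
    obtain ⟨p', q', hpq⟩ := hunit
    set j : ℤ := -(c * p') with hj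
    have hb2 : (a ^ j * g) * (a ^ j * g) = 1 := by
      calc (a ^ j * g) * (a ^ j * g) = a ^ j * (g * a ^ j * g⁻¹) * (g * g) := by group
        _ = a ^ (j + (1 + (2 : ℤ) ^ (m + 1)) * j + i) := by
            rw [conj_zpow_eq hgr, ← hi, ← zpow_add, ← zpow_add]
        _ = a ^ (0 : ℤ) := by
            refine zpow_eq_zpow_of_dvd ha' ⟨c * q', ?_⟩
            rw [hzpow, hieven, hj]
            linear_combination (-2 * c) * hpq
        _ = 1 := zpow_zero a
    set b := a ^ j * g with hbdef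
    have hbr : b * a * b⁻¹ = a ^ (1 + (2 : ℤ) ^ (m + 1)) := by
      calc b * a * b⁻¹ = a ^ j * (g * a * g⁻¹) * (a ^ j)⁻¹ := by rw [hbdef]; group
        _ = a ^ (1 + (2 : ℤ) ^ (m + 1)) := by rw [hgr]; group
    have hbA : b ∉ Subgroup.zpowers a := fun h =>
      hgA (by have := mul_mem (inv_mem (Subgroup.zpow_mem_zpowers a j)) h; rwa [hbdef, inv_mul_cancel_left] at this)
    have hz2 : z * z = 1 := by rw [hz, ← pow_add, ← two_mul, ← pow_succ']; exact ha'
    have hbz : b * z * b⁻¹ = z := by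
      rw [hz, ← zpow_natCast, conj_zpow_eq hbr]
      refine zpow_eq_zpow_of_dvd ha' ⟨(2 : ℤ) ^ m, ?_⟩
      push_cast; ring
    -- the set `{1, z, b, b z}` is a normal subgroup
    have hconj : ∀ y : G, y * b * y⁻¹ = b ∨ y * b * y⁻¹ = b * z := by
      intro y
      obtain ⟨ry, hry⟩ := hr y
      have h2 : b⁻¹ * (y * b * y⁻¹) ∈ Subgroup.zpowers a := by
        apply hC
        have e1 : y * b * y⁻¹ * a * (y * b * y⁻¹)⁻¹ = b * a * b⁻¹ := by
          obtain ⟨ri, hri⟩ := hr y⁻¹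
          calc y * b * y⁻¹ * a * (y * b * y⁻¹)⁻¹ = y * (b * (y⁻¹ * a * y⁻¹⁻¹) * b⁻¹) * y⁻¹ := by group
            _ = y * (b * a ^ ri * b⁻¹) * y⁻¹ := by rw [hri]
            _ = y * a ^ (ri * (1 + (2 : ℤ) ^ (m + 1))) * y⁻¹ := by rw [conj_zpow_eq hbr, mul_comm]
            _ = (y * a ^ ri * y⁻¹) ^ (1 + (2 : ℤ) ^ (m + 1)) := by rw [conj_zpow, ← zpow_mul]
            _ = (y * (y⁻¹ * a * y⁻¹⁻¹) * y⁻¹) ^ (1 + (2 : ℤ) ^ (m + 1)) := by rw [hri]
            _ = b * a * b⁻¹ := by rw [hbr]; congr 1; group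
        calc b⁻¹ * (y * b * y⁻¹) * a * (b⁻¹ * (y * b * y⁻¹))⁻¹
            = b⁻¹ * (y * b * y⁻¹ * a * (y * b * y⁻¹)⁻¹) * b := by group
          _ = a := by rw [e1]; group
      obtain ⟨k, hk : a ^ k = _⟩ := h2
      have e2 : y * b * y⁻¹ = b * a ^ k := by rw [hk]; group
      have h3 : (b * a ^ k) * (b * a ^ k) = 1 := by
        rw [← e2, show y * b * y⁻¹ * (y * b * y⁻¹) = y * (b * b) * y⁻¹ by group, hb2]; group
      have h4 : a ^ ((1 + (2 : ℤ) ^ (m + 1)) * k + k) = a ^ (0 : ℤ) := by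
        rw [zpow_zero, zpow_add, ← conj_zpow_eq hbr]
        calc b * a ^ k * b⁻¹ * a ^ k = b * a ^ k * (b * b) * b⁻¹ * a ^ k := by rw [hb2, mul_one]
          _ = b * a ^ k * b * a ^ k := by group
          _ = 1 := by rw [mul_assoc (b * a ^ k) b]; exact h3
      obtain ⟨d, hd⟩ := dvd_of_zpow_eq_zpow hn h4
      rw [hzpow] at hd
      -- `k (1 + 2 ^ m) ≡ 0 mod 2 ^ (m+1)`
      have hk' : (2 : ℤ) ^ (m + 1) ∣ k := by
        refine IsCoprime.dvd_of_dvd_mul_left (IsCoprime.symm ⟨p', q', hpq⟩) ⟨d, ?_⟩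
        exact mul_left_cancel₀ (two_ne_zero (α := ℤ)) (by linear_combination hd)
      obtain ⟨d', rfl⟩ := hk'
      rcases Int.even_or_odd d' with ⟨d'', rfl⟩ | ⟨d'', rfl⟩
      · left
        rw [e2, zpow_eq_zpow_of_dvd ha' (j := 0) ⟨d'', by rw [hzpow]; ring⟩, zpow_zero, mul_one]
      · right
        rw [e2, hz, ← zpow_natCast]
        congr 1
        refine zpow_eq_zpow_of_dvd ha' ⟨d'', ?_⟩
        push_cast; ring
    have hzc : ∀ y, y * z * y⁻¹ = z := by
      intro y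
      obtain ⟨ry, hry⟩ := hr y
      obtain ⟨c', hc'⟩ := hodd y ry hry
      rw [hz, ← zpow_natCast, conj_zpow_eq hry]
      refine zpow_eq_zpow_of_dvd ha' ⟨c', ?_⟩
      rw [hc']; push_cast; ring
    have hbz' : z * b = b * z := (mul_inv_eq_iff_eq_mul.mp hbz).symm
    set K := Subgroup.closure ({z, b} : Set G) with hK'
    have hgen : ∀ p ∈ ({z, b} : Set G), ∀ q ∈ ({z, b} : Set G), p * q = q * p := by
      rintro p (rfl | rfl) q (rfl | rfl) <;> first | rfl | exact hbz' | exact hbz'.symm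
    haveI hKc := Subgroup.isMulCommutative_closure hgen
    have hzK : z ∈ K := Subgroup.subset_closure (Or.inl rfl)
    have hbK : b ∈ K := Subgroup.subset_closure (Or.inr rfl)
    have hKn : K.Normal := by
      refine ⟨fun w hw y => ?_⟩
      induction hw using Subgroup.closure_induction with
      | mem w hw =>
        rcases hw with rfl | rfl
        · rw [hzc]; exact hzK
        · rcases hconj y with e | e <;> rw [e]
          · exact hbK
          · exact mul_mem hbK hzK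
      | one => simp
      | mul p q _ _ h1 h2 => rw [show y * (p * q) * y⁻¹ = (y * p * y⁻¹) * (y * q * y⁻¹) by group]; exact mul_mem h1 h2
      | inv p _ h1 => rw [show y * p⁻¹ * y⁻¹ = (y * p * y⁻¹)⁻¹ by group]; exact inv_mem h1
    have hlt := hK K hKn (by
      intro w hw
      induction hw using Subgroup.closure_induction with
      | mem w hw =>
        rcases hw with rfl | rfl
        · rw [pow_two]; exact hz2
        · rw [pow_two]; exact hb2
      | one => exact one_pow 2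
      | mul p q hp hq h1 h2 =>
        rw [(show Commute p q from congrArg Subtype.val (hKc.is_comm.comm ⟨p, hp⟩ ⟨q, hq⟩)).mul_pow, h1, h2, one_mul]
      | inv p _ h1 => rw [inv_pow, h1, inv_one])
    have hz1 : z ≠ 1 := fun e => by
      have h5 := orderOf_dvd_of_pow_eq_one (hz ▸ e : a ^ (2 ^ (m + 1) : ℕ) = 1)
      rw [hn, Nat.pow_dvd_pow_iff_le_right one_lt_two] at h5
      omega
    have hzA : z ∈ Subgroup.zpowers a := pow_mem (Subgroup.mem_zpowers a) _
    have hb1 : b ≠ 1 := fun e => hbA (e ▸ one_mem _)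
    have h4 : ({1, z, b, b * z} : Set G).ncard = 4 := by
      have hbz1 : b * z ≠ 1 := fun e => hbA (by rw [eq_inv_of_mul_eq_one_left e]; exact inv_mem hzA)
      have hne2 : z ≠ b := fun e => hbA (e ▸ hzA)
      have hne3 : z ≠ b * z := fun e => hb1 (mul_eq_right.mp e.symm)
      have hne4 : b ≠ b * z := fun e => hz1 (mul_eq_left.mp e.symm)
      rw [Set.ncard_insert_of_notMem (by simp [Ne.symm hz1, Ne.symm hb1, Ne.symm hbz1]) (Set.toFinite _),
        Set.ncard_insert_of_notMem (by simp [hne2, hb1]) (Set.toFinite _), Set.ncard_pair hne4]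
    have hsub : ({1, z, b, b * z} : Set G) ⊆ K := by
      rintro w (rfl | rfl | rfl | rfl)
      · exact one_mem K
      · exact hzK
      · exact hbK
      · exact mul_mem hbK hzK
    have hh : Nat.card K = (K : Set G).ncard := rfl
    have := Set.ncard_le_ncard hsub
    omega
  -- the two kinds of action
  have hkind : ∀ g (r : ℤ), g * g ∈ Subgroup.zpowers a → g ∉ Subgroup.zpowers a → g * a * g⁻¹ = a ^ r →
      ((2 ^ (m + 2) : ℕ) : ℤ) ∣ r - (-1) ∨
        (1 ≤ m ∧ ((2 ^ (m + 2) : ℕ) : ℤ) ∣ r - (-1 + (2 : ℤ) ^ (m + 1))) := by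
    intro g r hg2 hg hr
    obtain ⟨i, hi : a ^ i = g * g⟩ := hg2
    have h1 : a ^ (r * r) = a ^ (1 : ℤ) := by
      rw [← sq_conj_eq hr, ← hi, zpow_one]; group
    obtain ⟨d, hd⟩ := dvd_of_zpow_eq_zpow hn h1
    obtain ⟨t, rfl⟩ := hodd g r hr
    rw [hzpow] at hd
    have h2 : (2 : ℤ) ^ (m + 1) ∣ (2 * t) * (t + 1) :=
      ⟨d, mul_left_cancel₀ (two_ne_zero (α := ℤ)) (by linear_combination hd)⟩
    have hsplit : (Even t ∧ (2 : ℤ) ^ (m + 1) ∣ 2 * t) ∨ (2 : ℤ) ^ (m + 1) ∣ 2 * (t + 1) := by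
      rcases Int.even_or_odd t with ht | ⟨t', rfl⟩
      · left
        obtain ⟨t', rfl⟩ := ht
        refine ⟨⟨t', rfl⟩, IsCoprime.dvd_of_dvd_mul_right ?_ h2⟩
        exact IsCoprime.pow_left ⟨-t', 1, by ring⟩
      · right
        rw [show 2 * (2 * t' + 1) * (2 * t' + 1 + 1) = (2 * t' + 1) * (2 * (2 * t' + 1 + 1)) by ring] at h2
        refine IsCoprime.dvd_of_dvd_mul_left ?_ h2
        exact IsCoprime.pow_left ⟨-t', 1, by ring⟩
    rcases hsplit with ⟨⟨t0, ht0⟩, e, he⟩ | ⟨e, he⟩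
    · exfalso
      rcases Int.even_or_odd e with ⟨e', rfl⟩ | ⟨e', rfl⟩
      · exact hne1 g _ hg hr ⟨e', by rw [hzpow]; linear_combination he⟩
      · rcases Nat.eq_zero_or_pos m with rfl | hm
        · norm_num at he; omega
        · exact hnomod hm g _ hr ⟨e', by rw [hzpow]; linear_combination he⟩
    · rcases Int.even_or_odd e with ⟨e', rfl⟩ | ⟨e', rfl⟩
      · exact Or.inl ⟨e', by rw [hzpow]; linear_combination he⟩
      · rcases Nat.eq_zero_or_pos m with rfl | hm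
        · exfalso
          refine hne1 g _ hg hr ⟨e', ?_⟩
          rw [hzpow]; linear_combination he
        · exact Or.inr ⟨hm, e', by rw [hzpow]; linear_combination he⟩
  have hsq : ∀ g, g * g ∈ Subgroup.zpowers a := by
    intro g
    by_contra hg
    obtain ⟨e, he⟩ := IsPGroup.iff_orderOf.mp hG g
    have hex : ∃ k, g ^ (2 ^ k : ℕ) ∈ Subgroup.zpowers a := ⟨e, by rw [← he, pow_orderOf_eq_one]; exact one_mem _⟩
    have hk : 2 ≤ Nat.find hex := by
      by_contra hcon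
      have hsp := Nat.find_spec hex
      rcases (by omega : Nat.find hex = 0 ∨ Nat.find hex = 1) with e0 | e0 <;> rw [e0] at hsp
      · rw [pow_zero, pow_one] at hsp; exact hg (mul_mem hsp hsp)
      · rw [pow_one, pow_two] at hsp; exact hg hsp
    obtain ⟨k, hkk⟩ : ∃ k, Nat.find hex = k + 2 := ⟨Nat.find hex - 2, by omega⟩
    set u := g ^ (2 ^ k : ℕ) with hu
    have hu2 : u * u ∉ Subgroup.zpowers a := by
      have := Nat.find_min hex (show k + 1 < Nat.find hex by omega)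
      rwa [pow_succ, pow_mul, pow_two] at this
    have hu4 : (u * u) * (u * u) ∈ Subgroup.zpowers a := by
      have := Nat.find_spec hex
      rw [hkk, pow_succ, pow_succ, pow_mul, pow_mul, pow_two, pow_two] at this
      exact this
    obtain ⟨r, hr2⟩ := hr u
    have h1 := sq_conj_eq hr2
    obtain ⟨t, rfl⟩ := hodd u r hr2
    rcases hkind _ _ hu4 hu2 h1 with ⟨c, hc⟩ | ⟨hm, c, hc⟩
    · rw [hzpow] at hc
      have : (2 : ℤ) ∣ 1 := ⟨(2 : ℤ) ^ m * c - t * t - t, mul_left_cancel₀ (two_ne_zero (α := ℤ)) (by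
        linear_combination hc)⟩
      omega
    · rw [hzpow] at hc
      obtain ⟨m', rfl⟩ : ∃ m', m = m' + 1 := ⟨m - 1, by omega⟩
      have : (2 : ℤ) ∣ 1 := ⟨2 * (2 : ℤ) ^ m' * c + (2 : ℤ) ^ m' - t * t - t,
        mul_left_cancel₀ (two_ne_zero (α := ℤ)) (by linear_combination hc)⟩
      omega
  obtain ⟨x, hx⟩ := htop
  have hall : ∀ g, g ∈ Subgroup.zpowers a ∨ x * g ∈ Subgroup.zpowers a := by
    intro g
    by_cases hg : g ∈ Subgroup.zpowers a
    · exact Or.inl hg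
    right
    by_contra hxg
    obtain ⟨r, hr1⟩ := hr x
    obtain ⟨s, hs1⟩ := hr g
    have hrs : x * g * a * (x * g)⁻¹ = a ^ (r * s) := by
      calc x * g * a * (x * g)⁻¹ = x * (g * a * g⁻¹) * x⁻¹ := by group
        _ = a ^ (r * s) := by rw [hs1, conj_zpow_eq hr1]
    have key : ((2 ^ (m + 2) : ℕ) : ℤ) ∣ r * s - 1 ∨
        (1 ≤ m ∧ ((2 ^ (m + 2) : ℕ) : ℤ) ∣ r * s - (1 + (2 : ℤ) ^ (m + 1))) := by
      rcases hkind x r (hsq x) hx hr1 with ⟨c, hc⟩ | ⟨hm, c, hc⟩ <;>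
        rcases hkind g s (hsq g) hg hs1 with ⟨d, hd⟩ | ⟨hm', d, hd⟩ <;> rw [hzpow] at hc hd ⊢
      · left
        exact ⟨-c - d + 2 * (2 : ℤ) ^ (m + 1) * c * d, by linear_combination s * hc + (-1 + 2 * (2 : ℤ) ^ (m + 1) * c) * hd⟩
      · right
        refine ⟨hm', -c - d + (2 * (2 : ℤ) ^ (m + 1) * c * d + c * (2 : ℤ) ^ (m + 1)) - 1, ?_⟩
        linear_combination s * hc + (-1 + 2 * (2 : ℤ) ^ (m + 1) * c) * hd
      · right
        refine ⟨hm, -c - d + (2 * (2 : ℤ) ^ (m + 1) * c * d + d * (2 : ℤ) ^ (m + 1)) - 1, ?_⟩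
        linear_combination s * hc + (-1 + (2 : ℤ) ^ (m + 1) + 2 * (2 : ℤ) ^ (m + 1) * c) * hd
      · left
        refine ⟨-c - d + (2 : ℤ) ^ (m + 1) * (c + d + 2 * c * d) + (2 : ℤ) ^ m - 1, ?_⟩
        linear_combination s * hc + (-1 + (2 : ℤ) ^ (m + 1) + 2 * (2 : ℤ) ^ (m + 1) * c) * hd
    rcases key with h | ⟨hm, h⟩
    · exact hne1 _ _ hxg hrs h
    · exact hnomod hm _ _ hrs h
  obtain ⟨r, hr1⟩ := hr x
  have htopx : Nat.card G = 2 ^ (m + 3) := by
    have hidx : (Subgroup.zpowers a).index = 2 := by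
      rw [Subgroup.index_eq_two_iff]
      refine ⟨x⁻¹, fun g => ?_⟩
      by_cases hg : g ∈ Subgroup.zpowers a
      · refine Or.inr ⟨hg, fun h => hx ?_⟩
        have := mul_mem (inv_mem hg) h
        rw [inv_mul_cancel_left] at this
        exact inv_mem_iff.mp this
      · refine Or.inl ⟨?_, hg⟩
        rcases hall g⁻¹ with h | h
        · exact absurd (inv_mem_iff.mp h) hg
        · rw [← inv_mem_iff, mul_inv_rev, inv_inv]; exact h
    have := (Subgroup.zpowers a).card_mul_index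
    rw [hidx, Nat.card_zpowers, hn] at this
    rw [← this]; ring
  obtain ⟨i, hi : a ^ i = x * x⟩ := hsq x
  have hfix : x * a ^ i * x⁻¹ = a ^ i := by rw [hi]; group
  rw [conj_zpow_eq hr1] at hfix
  rcases hkind x r (hsq x) hx hr1 with hk | ⟨hm, hk⟩
  · have hinv : x * a * x⁻¹ = a⁻¹ := by rw [hr1, zpow_eq_zpow_of_dvd ha' hk, zpow_neg_one]
    obtain ⟨c, hc⟩ := dvd_of_zpow_eq_zpow hn hfix
    obtain ⟨d, hd⟩ := hk
    rw [hzpow] at hc hd
    obtain ⟨e, he⟩ : (2 : ℤ) ^ (m + 1) ∣ i :=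
      ⟨d * i - c, mul_left_cancel₀ (two_ne_zero (α := ℤ)) (by linear_combination -hc + i * hd)⟩
    rcases Int.even_or_odd e with ⟨e', rfl⟩ | ⟨e', rfl⟩
    · right; left
      have hxx : x * x = 1 := by
        rw [← hi, ← zpow_zero a]
        exact zpow_eq_zpow_of_dvd ha' ⟨e', by rw [hzpow, he]; ring⟩
      obtain ⟨φ⟩ := TwoGroup.nonempty_mulEquiv_dihedral hn hxx hinv hx ⊤ trivial trivial fun g _ => hall g
      exact ⟨_, ⟨Subgroup.topEquiv.symm.trans φ⟩⟩
    · left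
      have hxx : x * x = a ^ (2 ^ (m + 1) : ℕ) := by
        rw [← hi, ← zpow_natCast]
        exact zpow_eq_zpow_of_dvd ha' ⟨e', by rw [he]; push_cast; ring⟩
      obtain ⟨φ⟩ := TwoGroup.nonempty_mulEquiv_quaternion (m := 2 ^ (m + 1))
        (by rw [hn]; ring) hxx hinv hx ⊤ trivial trivial fun g _ => hall g
      exact ⟨_, ⟨Subgroup.topEquiv.symm.trans φ⟩⟩
  · right; right
    have hsd : x * a * x⁻¹ = a ^ (-1 + (2 : ℤ) ^ (m + 1)) := hr1.trans (zpow_eq_zpow_of_dvd ha' hk)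
    obtain ⟨c, hc⟩ := dvd_of_zpow_eq_zpow hn hfix
    obtain ⟨d, hd⟩ := hk
    rw [hzpow] at hc hd
    obtain ⟨m', rfl⟩ : ∃ m', m = m' + 1 := ⟨m - 1, by omega⟩
    have h1 : (2 : ℤ) ^ (m' + 1 + 1) ∣ i * ((2 : ℤ) ^ (m' + 1) - 1) :=
      ⟨c - i * d, mul_left_cancel₀ (two_ne_zero (α := ℤ)) (by linear_combination hc - i * hd)⟩
    obtain ⟨e, he⟩ : (2 : ℤ) ^ (m' + 1 + 1) ∣ i :=
      IsCoprime.dvd_of_dvd_mul_right (IsCoprime.pow_left ⟨(2 : ℤ) ^ m', -1, by ring⟩) h1
    obtain ⟨y, hyA, hyy⟩ : ∃ y, y ∈ ({x, x * a} : Set G) ∧ y * y = 1 := by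
      rcases Int.even_or_odd e with ⟨e', rfl⟩ | ⟨e', rfl⟩
      · refine ⟨x, Or.inl rfl, ?_⟩
        rw [← hi, ← zpow_zero a]
        exact zpow_eq_zpow_of_dvd ha' ⟨e', by rw [hzpow, he]; ring⟩
      · refine ⟨x * a, Or.inr rfl, ?_⟩
        calc x * a * (x * a) = (x * a * x⁻¹) * (x * x) * a := by group
          _ = a ^ (-1 + (2 : ℤ) ^ (m' + 1 + 1)) * a ^ i * a ^ (1 : ℤ) := by rw [hsd, hi, zpow_one]
          _ = a ^ (0 : ℤ) := by
              rw [← zpow_add, ← zpow_add]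
              exact zpow_eq_zpow_of_dvd ha' ⟨e' + 1, by rw [hzpow, he]; ring⟩
          _ = 1 := zpow_zero a
    refine ⟨m' + 3, by omega, by rw [htopx], a, y, hn, ?_, ?_⟩
    · refine orderOf_eq_prime (by rw [pow_two]; exact hyy) fun e1 => hx ?_
      rcases hyA with rfl | rfl
      · rw [e1]; exact one_mem _
      · rw [eq_inv_of_mul_eq_one_left e1]; exact inv_mem (Subgroup.mem_zpowers a)
    · have hya : y * a * y⁻¹ = x * a * x⁻¹ := by
        rcases hyA with rfl | rfl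
        · rfl
        · group
      rw [hya, hsd, ← zpow_natCast, Nat.cast_sub (Nat.one_le_two_pow), show m' + 3 - 1 = m' + 1 + 1 by omega]
      push_cast
      ring_nf

end Cfsg.Agent.Lib.Elem69
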