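import Mathlib
import Cfsg.Agent.Lib.Elem69.ImprimitiveBlocks
import Cfsg.Agent.Lib.Elem69.TwoGroupNoKlein
import Cfsg.Agent.Lib.PUnique.Basic

/-!
# Half-transitive linear actions of `p`-groups
-/

namespace Cfsg.Agent.Lib.Elem69.Half

open scoped Classical

variable {q : ℕ} [hq : Fact q.Prime] {V : Type*} [AddCommGroup V] [Module (ZMod q) V] [Finite V] [Nontrivial V]
  {G : Type*} [Group G] [Finite G] {p : ℕ} [hp : Fact p.Prime] (ρ : G →* (V ≃ₗ[ZMod q] V))

omit [Finite V] [Nontrivial V] [Finite G] in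
theorem app_mul (g h : G) (v : V) : ρ (g * h) v = ρ g (ρ h v) := by rw [map_mul]; rfl

omit [Finite V] [Nontrivial V] [Finite G] in
theorem app_one (v : V) : ρ (1 : G) v = v := by rw [map_one]; rfl

/-- The stabiliser of a vector. -/
def stab (v : V) : Subgroup G where
  carrier := {g | ρ g v = v}
  one_mem' := app_one ρ v
  mul_mem' {a b} ha hb := by
    show ρ (a * b) v = v
    rw [app_mul ρ, show ρ b v = v from hb, show ρ a v = v from ha]
  inv_mem' {a} ha := by
    show ρ a⁻¹ v = v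
    conv_lhs => rw [← show ρ a v = v from ha]
    rw [← app_mul ρ, inv_mul_cancel, app_one ρ]

omit [Finite V] [Nontrivial V] [Finite G] in
theorem mem_stab {v : V} {g : G} : g ∈ stab ρ v ↔ ρ g v = v := Iff.rfl

/-- The fixed vectors of a set of group elements. -/
def fixSet (S : Set G) : Submodule (ZMod q) V := ⨅ g ∈ S, LinearMap.eqLocus (ρ g : V →ₗ[ZMod q] V) LinearMap.id

omit [Finite V] [Nontrivial V] [Finite G] in
theorem mem_fixSet {S : Set G} {v : V} : v ∈ fixSet ρ S ↔ ∀ g ∈ S, ρ g v = v := by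
  simp only [fixSet, Submodule.mem_iInf, LinearMap.mem_eqLocus]
  rfl

/-- All stabilisers have the same order. -/
def EqStab : Prop := ∀ v w : V, v ≠ 0 → w ≠ 0 → Nat.card (stab ρ v) = Nat.card (stab ρ w)

omit [Finite V] [Nontrivial V] [Finite G] in
theorem card_orbit_mul (v : V) :
    Nat.card {u : V | ∃ g : G, ρ g v = u} * Nat.card (stab ρ v) = Nat.card G := by
  letI : MulAction G V :=
    { smul := fun g v => ρ g v
      one_smul := app_one ρ
      mul_smul := app_mul ρ }
  have h1 : MulAction.stabilizer G v = stab ρ v := rfl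
  have h2 := Subgroup.card_mul_index (MulAction.stabilizer G v)
  rw [MulAction.index_stabilizer, h1] at h2
  rw [mul_comm, ← h2, ← Nat.card_coe_set_eq]
  rfl

omit [Finite V] [Nontrivial V] in
theorem eqStab_of_orbits (hhalf : ∀ v w : V, v ≠ 0 → w ≠ 0 →
      Nat.card {u : V | ∃ g : G, ρ g v = u} = Nat.card {u : V | ∃ g : G, ρ g w = u}) :
    EqStab ρ := by
  intro v w hv hw
  have h1 := card_orbit_mul ρ v
  have h2 := card_orbit_mul ρ w
  rw [hhalf v w hv hw] at h1
  have hpos : 0 < Nat.card {u : V | ∃ g : G, ρ g w = u} := by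
    rcases Nat.eq_zero_or_pos (Nat.card {u : V | ∃ g : G, ρ g w = u}) with h | h
    · rw [h, zero_mul] at h2; exact absurd h2.symm Nat.card_pos.ne'
    · exact h
  exact Nat.eq_of_mul_eq_mul_left hpos (h1.trans h2.symm)

variable (hρ : Function.Injective ρ)

omit [Finite V] [Nontrivial V] [Finite G] in
include hρ in
theorem eq_one_of_fix_all {g : G} (h : ∀ v, ρ g v = v) : g = 1 :=
  hρ (LinearEquiv.ext fun v => by rw [h, app_one ρ])

include hρ in
/-- In equal characteristic a half-transitive `p`-group is trivial. -/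
theorem card_eq_one_of_eq (hG : IsPGroup p G) (hs : EqStab ρ) (hqp : p = q) : Nat.card G = 1 := by
  subst hqp
  letI : MulAction G V :=
    { smul := fun g v => ρ g v
      one_smul := app_one ρ
      mul_smul := app_mul ρ }
  have hpV : p ∣ Nat.card V := by
    rw [Module.natCard_eq_pow_finrank (K := ZMod p), Nat.card_zmod]
    exact dvd_pow_self p Module.finrank_pos.ne'
  obtain ⟨v, hv, hv0⟩ := hG.exists_fixed_point_of_prime_dvd_card_of_fixed_point V hpV (a := (0 : V))
    (fun g => map_zero (ρ g))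
  rw [Nat.card_eq_one_iff_unique]
  refine ⟨⟨fun a b => ?_⟩, ⟨1⟩⟩
  have key : ∀ g : G, g = 1 := by
    intro g
    refine eq_one_of_fix_all ρ hρ fun w => ?_
    by_cases hw : w = 0
    · rw [hw, map_zero]
    have h1 : stab ρ v = ⊤ := eq_top_iff.mpr fun x _ => hv x
    have h2 := hs v w (Ne.symm hv0) hw
    rw [h1, Subgroup.card_top] at h2
    have h3 : stab ρ w = ⊤ := Subgroup.eq_top_of_card_eq _ h2.symm
    exact (h3 ▸ Subgroup.mem_top g : g ∈ stab ρ w)
  rw [key a, key b]

omit [Nontrivial V] in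
include hρ in
/-- Half-transitive and not semiregular implies irreducible. -/
theorem irreducible (hG : IsPGroup p G) (hqp : p ≠ q) (hs : EqStab ρ)
    (hns : ∃ v : V, v ≠ 0 ∧ stab ρ v ≠ ⊥) (W : Submodule (ZMod q) V)
    (hW : ∀ g : G, ∀ w ∈ W, ρ g w ∈ W) : W = ⊥ ∨ W = ⊤ := by
  haveI := Fintype.ofFinite G
  by_contra hcon
  push Not at hcon
  obtain ⟨hWb, hWt⟩ := hcon
  obtain ⟨U0, hU0⟩ := W.exists_isCompl
  let π0 := W.projection U0 hU0
  have hu : (Nat.card G : ZMod q) ≠ 0 := by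
    obtain ⟨k, hk⟩ := IsPGroup.iff_card.mp hG
    rw [ne_eq, ZMod.natCast_eq_zero_iff, hk]
    exact fun h => hqp ((Nat.prime_dvd_prime_iff_eq hq.out hp.out).mp (hq.out.dvd_of_dvd_pow h)).symm
  let π : V →ₗ[ZMod q] V := (Nat.card G : ZMod q)⁻¹ •
    ∑ g : G, (ρ g : V →ₗ[ZMod q] V) ∘ₗ π0 ∘ₗ (ρ g⁻¹ : V →ₗ[ZMod q] V)
  have hπapp : ∀ v, π v = (Nat.card G : ZMod q)⁻¹ • ∑ g : G, ρ g (π0 (ρ g⁻¹ v)) := fun v => by
    simp [π]
  have hπmem : ∀ v, π v ∈ W := fun v => by
    rw [hπapp]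
    exact W.smul_mem _ (W.sum_mem fun g _ => hW g _ (Submodule.projection_apply_mem hU0 _))
  have hπid : ∀ w ∈ W, π w = w := by
    intro w hw
    have : ∀ g : G, ρ g (π0 (ρ g⁻¹ w)) = w := fun g => by
      rw [show π0 (ρ g⁻¹ w) = ρ g⁻¹ w from Submodule.projection_apply_left hU0 ⟨_, hW g⁻¹ w hw⟩,
        ← app_mul ρ, mul_inv_cancel, app_one ρ]
    rw [hπapp, Finset.sum_congr rfl fun g _ => this g, Finset.sum_const, Finset.card_univ,
      ← Nat.card_eq_fintype_card, ← Nat.cast_smul_eq_nsmul (ZMod q), smul_smul, inv_mul_cancel₀ hu, one_smul]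
  have hπeq : ∀ (x : G) v, π (ρ x v) = ρ x (π v) := by
    intro x v
    rw [hπapp, hπapp, map_smul, map_sum]
    congr 1
    refine Fintype.sum_equiv (Equiv.mulLeft x⁻¹) _ _ fun g => ?_
    rw [Equiv.coe_mulLeft, ← app_mul ρ, ← app_mul ρ, mul_inv_cancel_left, mul_inv_rev, inv_inv]
  set U := LinearMap.ker π with hUdef
  have hUinv : ∀ g : G, ∀ u ∈ U, ρ g u ∈ U := fun g u hu => by
    rw [hUdef, LinearMap.mem_ker] at hu ⊢
    rw [hπeq, hu, map_zero]
  obtain ⟨u, huW, hu0⟩ : ∃ u ∈ U, u ≠ (0 : V) := by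
    by_contra hno
    push Not at hno
    refine hWt (eq_top_iff.mpr fun v _ => ?_)
    have h1 : v - π v ∈ U := by
      rw [hUdef, LinearMap.mem_ker, map_sub, hπid _ (hπmem v), sub_self]
    rw [sub_eq_zero.mp (hno _ h1)]
    exact hπmem v
  obtain ⟨w, hw, hw0⟩ := W.exists_mem_ne_zero_of_ne_bot hWb
  have key : ∀ a ∈ W, a ≠ 0 → ∀ b ∈ U, b ≠ 0 → stab ρ a = stab ρ b := by
    intro a ha ha0 b hb hb0
    have hab : a + b ≠ 0 := fun h => ha0 (by
      have hbW : b ∈ W := by rw [eq_neg_of_add_eq_zero_right h]; exact W.neg_mem ha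
      have h1 : b = 0 := by rw [← hπid b hbW]; exact LinearMap.mem_ker.mp hb
      rw [h1, add_zero] at h; exact h)
    have hle : stab ρ (a + b) ≤ stab ρ a ⊓ stab ρ b := by
      intro g hg
      rw [mem_stab, map_add] at hg
      have h1 := congrArg π hg
      rw [map_add, map_add, hπid _ (hW g a ha), hπid a ha, LinearMap.mem_ker.mp (hUinv g b hb),
        LinearMap.mem_ker.mp hb, add_zero, add_zero] at h1
      refine ⟨h1, ?_⟩
      show ρ g b = b
      rw [h1] at hg
      exact add_left_cancel hg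
    have e1 : stab ρ (a + b) = stab ρ a :=
      Subgroup.eq_of_le_of_card_ge (hle.trans inf_le_left) (hs a (a + b) ha0 hab).le
    have e2 : stab ρ (a + b) = stab ρ b :=
      Subgroup.eq_of_le_of_card_ge (hle.trans inf_le_right) (hs b (a + b) hb0 hab).le
    rw [← e1, e2]
  have hbot : stab ρ w = ⊥ := by
    rw [Subgroup.eq_bot_iff_forall]
    intro g hg
    refine eq_one_of_fix_all ρ hρ fun v => ?_
    have h1 : v - π v ∈ U := by
      rw [hUdef, LinearMap.mem_ker, map_sub, hπid _ (hπmem v), sub_self]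
    have hA : ρ g (π v) = π v := by
      by_cases h0 : π v = 0
      · rw [h0, map_zero]
      · exact ((key _ (hπmem v) h0 u huW hu0).trans (key w hw hw0 u huW hu0).symm).ge hg
    have hB : ρ g (v - π v) = v - π v := by
      by_cases h0 : v - π v = 0
      · rw [h0, map_zero]
      · exact (key w hw hw0 _ h1 h0).le hg
    calc ρ g v = ρ g (π v) + ρ g (v - π v) := by rw [← map_add, add_sub_cancel]
      _ = v := by rw [hA, hB, add_sub_cancel]
  obtain ⟨v, hv, hvne⟩ := hns
  apply hvne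
  have := hs v w hv hw0
  rw [hbot, Subgroup.card_bot] at this
  exact Subgroup.card_eq_one.mp this

omit [Finite V] in
/-- A semiregular `p`-group, `p ≠ q`, is cyclic or quaternion. -/
theorem cyclic_or_quaternion (hG : IsPGroup p G) (hqp : p ≠ q)
    (hfree : ∀ v : V, v ≠ 0 → ∀ g : G, ρ g v = v → g = 1) :
    IsCyclic G ∨ (p = 2 ∧ ∃ n : ℕ, Nonempty (G ≃* QuaternionGroup (2 ^ n))) := by
  have hpp := hp.out
  refine PUnique.isCyclic_or_quaternion hG fun H K hH hK => ?_
  haveI : Nontrivial G := by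
    obtain ⟨x, hx⟩ := exists_prime_orderOf_dvd_card' (G := H) p (by rw [hH])
    refine ⟨⟨(x : G), 1, fun e => ?_⟩⟩
    rw [OneMemClass.coe_eq_one.mp e, orderOf_one] at hx
    exact hpp.one_lt.ne hx
  obtain ⟨z, -, hzc, hzo⟩ := exists_central_order_p hG (⊤ : Subgroup G) top_ne_bot
  have hzp : z ^ p = 1 := hzo ▸ pow_orderOf_eq_one z
  -- sums over a cyclic group of order `p` vanish
  have hzero : ∀ y : G, y ^ p = 1 → y ≠ 1 → ∀ v : V, ∑ j ∈ Finset.range p, ρ (y ^ j) v = 0 := by
    intro y hy hy1 v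
    by_contra h0
    refine hy1 (hfree _ h0 y ?_)
    rw [map_sum]
    simp only [← app_mul ρ, ← pow_succ']
    have h1 := Finset.sum_range_succ (fun j => ρ (y ^ j) v) p
    rw [Finset.sum_range_succ' (fun j => ρ (y ^ j) v) p, hy, pow_zero] at h1
    exact add_right_cancel h1
  have key : ∀ L : Subgroup G, Nat.card L = p → L = Subgroup.zpowers z := by
    intro L hL
    obtain ⟨y, hy⟩ := exists_prime_orderOf_dvd_card' (G := L) p (by rw [hL])
    have hyo : orderOf (y : G) = p := by rw [Subgroup.orderOf_coe, hy]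
    have hLy : Subgroup.zpowers (y : G) = L := Subgroup.eq_of_le_of_card_ge (Subgroup.zpowers_le.mpr y.2)
      (by rw [Nat.card_zpowers, hyo, hL])
    rw [← hLy]
    refine Subgroup.eq_of_le_of_card_ge (Subgroup.zpowers_le.mpr ?_) (by rw [Nat.card_zpowers, Nat.card_zpowers, hyo, hzo])
    by_contra hyz
    obtain ⟨v, hv⟩ := exists_ne (0 : V)
    have hcomm : Commute (y : G) z := Subgroup.mem_center_iff.mp hzc y
    have hyp : (y : G) ^ p = 1 := hyo ▸ pow_orderOf_eq_one (y : G)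
    have hne : ∀ i : ℕ, (y : G) * z ^ i ≠ 1 := fun i h => hyz (by
      rw [eq_inv_of_mul_eq_one_left h]; exact inv_mem (pow_mem (Subgroup.mem_zpowers z) i))
    have htot : ∑ i ∈ Finset.range p, ∑ j ∈ Finset.range p, ρ (((y : G) * z ^ i) ^ j) v = 0 :=
      Finset.sum_eq_zero fun i _ => hzero _ (by
        rw [(hcomm.pow_right _).mul_pow, hyp, ← pow_mul, mul_comm, pow_mul, hzp, one_pow, one_mul]) (hne i) v
    rw [Finset.sum_comm, ← Finset.sum_erase_add _ _ (Finset.mem_range.mpr hpp.pos), Finset.sum_eq_zero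
      (s := (Finset.range p).erase 0), zero_add] at htot
    · simp only [pow_zero, app_one ρ, Finset.sum_const, Finset.card_range] at htot
      rw [← Nat.cast_smul_eq_nsmul (ZMod q)] at htot
      refine hv ((smul_eq_zero.mp htot).resolve_left ?_)
      rw [ZMod.natCast_eq_zero_iff]
      exact fun h => hqp ((Nat.prime_dvd_prime_iff_eq hq.out hpp).mp h).symm
    · intro j hj
      obtain ⟨hj0, hjp⟩ := Finset.mem_erase.mp hj
      rw [Finset.mem_range] at hjp
      have hi : ∀ i : ℕ, ρ (((y : G) * z ^ i) ^ j) v = ρ ((y : G) ^ j) (ρ ((z ^ j) ^ i) v) := fun i => by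
        rw [← app_mul ρ, (hcomm.pow_right _).mul_pow, ← pow_mul, ← pow_mul, mul_comm i]
      rw [Finset.sum_congr rfl (fun i _ => hi i), ← map_sum, hzero (z ^ j)
        (by rw [← pow_mul, mul_comm, pow_mul, hzp, one_pow]) (fun h => by
          have := orderOf_dvd_of_pow_eq_one h
          rw [hzo] at this
          exact absurd (Nat.le_of_dvd (Nat.pos_of_ne_zero hj0) this) (not_le.mpr hjp)) v, map_zero]
  rw [key H hH, key K hK]

omit hp in
include hρ in
/-- If all elements of prime order are central, an irreducible action is semiregular. -/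
theorem free_of_central [hp : Fact p.Prime] (hG : IsPGroup p G)
    (hirr : ∀ W : Submodule (ZMod q) V, (∀ g : G, ∀ w ∈ W, ρ g w ∈ W) → W = ⊥ ∨ W = ⊤)
    (hcen : ∀ y : G, y ^ p = 1 → y ∈ Subgroup.center G) (v : V) (hv : v ≠ 0) (g : G) (hg : ρ g v = v) :
    g = 1 := by
  by_contra hg1
  obtain ⟨k, hk⟩ := IsPGroup.iff_orderOf.mp hG g
  obtain ⟨k, rfl⟩ : ∃ k', k = k' + 1 := by
    refine Nat.exists_eq_add_one_of_ne_zero ?_
    rintro rfl
    rw [pow_zero, orderOf_eq_one_iff] at hk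
    exact hg1 hk
  set y := g ^ p ^ k with hy
  have hyp : y ^ p = 1 := by rw [hy, ← pow_mul, ← pow_succ, ← hk, pow_orderOf_eq_one]
  have hy1 : y ≠ 1 := fun h => by
    have := orderOf_dvd_of_pow_eq_one h
    rw [hk, Nat.pow_dvd_pow_iff_le_right hp.out.one_lt] at this
    omega
  have hfix : ρ y v = v := (stab ρ v).pow_mem (show g ∈ stab ρ v from hg) _
  rcases hirr (fixSet ρ {y}) (fun x w hw => by
    rw [mem_fixSet] at hw ⊢
    rintro _ rfl
    rw [← app_mul ρ, ← Subgroup.mem_center_iff.mp (hcen y hyp) x, app_mul ρ, hw y rfl]) with h | h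
  · exact hv (by
      have : v ∈ fixSet ρ {y} := (mem_fixSet ρ).mpr (by rintro _ rfl; exact hfix)
      rwa [h, Submodule.mem_bot] at this)
  · exact hy1 (eq_one_of_fix_all ρ hρ fun w => (mem_fixSet ρ).mp (h ▸ Submodule.mem_top : w ∈ fixSet ρ {y}) y rfl)

omit hp in
/-- `q ^ e = 2 ^ c + 1` forces `e = 1` or `q ^ e = 9`. -/
theorem pow_eq_two_pow_add_one {e c : ℕ} (he : 0 < e) (hqq : q.Prime) (h : q ^ e = 2 ^ c + 1) :
    e = 1 ∨ (q = 3 ∧ e = 2) ∨ q = 2 := by
  by_cases hq2 : q = 2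
  · exact Or.inr (Or.inr hq2)
  have hqodd : Odd q := hqq.odd_of_ne_two hq2
  rcases Nat.even_or_odd e with ⟨j, rfl⟩ | ⟨j, rfl⟩
  · right; left
    have h1 : (q ^ j + 1) * (q ^ j - 1) = 2 ^ c := by
      rw [← Nat.sq_sub_sq, one_pow, ← pow_mul, show j * 2 = j + j by ring, h, Nat.add_sub_cancel]
    obtain ⟨x, -, hx⟩ := (Nat.dvd_prime_pow Nat.prime_two).mp (Dvd.intro _ h1)
    obtain ⟨y, -, hy⟩ := (Nat.dvd_prime_pow Nat.prime_two).mp (Dvd.intro_left _ h1)
    have hj1 : 1 ≤ j := by omega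
    have h3 : 3 ≤ q := by have := hqq.two_le; omega
    have h3j : 3 ≤ q ^ j := h3.trans (Nat.le_self_pow (by omega) q)
    have hy1 : y = 1 := by
      by_contra hy1
      rcases Nat.eq_zero_or_pos y with rfl | hy0
      · simp at hy; omega
      have h4x : 4 ∣ 2 ^ x := ⟨2 ^ (x - 2), by
        rcases Nat.lt_or_ge x 2 with hx2 | hx2
        · interval_cases x <;> simp at hx <;> omega
        · rw [show (4 : ℕ) = 2 ^ 2 from rfl, ← pow_add]; congr 1; omega⟩
      have h4y : 4 ∣ 2 ^ y := ⟨2 ^ (y - 2), by rw [show (4 : ℕ) = 2 ^ 2 from rfl, ← pow_add]; congr 1; omega⟩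
      omega
    subst hy1
    have hq3 : q ^ j = 3 := by omega
    obtain ⟨rfl, rfl⟩ : q = 3 ∧ j = 1 := by
      have hjle : j ≤ 1 := by
        by_contra hj2
        have := Nat.pow_le_pow_right hqq.pos (show 2 ≤ j by omega)
        nlinarith
      obtain rfl : j = 1 := by omega
      exact ⟨by simpa using hq3, rfl⟩
    exact ⟨rfl, rfl⟩
  · left
    have h1 : (∑ i ∈ Finset.range (2 * j + 1), q ^ i) * (q - 1) = 2 ^ c := by
      have hq2' := hqq.two_le
      rw [Nat.geomSum_eq hq2', Nat.div_mul_cancel]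
      · rw [h, Nat.add_sub_cancel]
      · simpa using Nat.sub_dvd_pow_sub_pow q 1 (2 * j + 1)
    obtain ⟨x, -, hx⟩ := (Nat.dvd_prime_pow Nat.prime_two).mp (Dvd.intro _ h1)
    have hodd : Odd (∑ i ∈ Finset.range (2 * j + 1), q ^ i) := by
      rw [Finset.odd_sum_iff_odd_card_odd, Finset.filter_true_of_mem (fun i _ => hqodd.pow)]
      exact ⟨j, by simp⟩
    rw [hx] at hodd
    rcases Nat.eq_zero_or_pos x with rfl | hx0
    · rcases Nat.eq_zero_or_pos j with rfl | hj
      · rfl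
      · exfalso
        have : q ^ (2 * j) ≤ ∑ i ∈ Finset.range (2 * j + 1), q ^ i :=
          Finset.single_le_sum (fun i _ => Nat.zero_le _) (Finset.mem_range.mpr (by omega))
        rw [hx, pow_zero] at this
        have := Nat.one_lt_pow (show 2 * j ≠ 0 by omega) hqq.one_lt
        omega
    · exact absurd hodd (Nat.not_odd_iff_even.mpr (even_two.pow_of_ne_zero (by omega)))

omit hp in
/-- `q ^ e + 1 = 2 ^ m` forces `e = 1` for odd `q`. -/
theorem pow_add_one_eq_two_pow {e m : ℕ} (he : 0 < e) (hqq : q.Prime) (hq2 : q ≠ 2) (hm : 2 ≤ m)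
    (h : q ^ e + 1 = 2 ^ m) : e = 1 := by
  have hqodd : Odd q := hqq.odd_of_ne_two hq2
  rcases Nat.even_or_odd e with ⟨j, rfl⟩ | ⟨j, rfl⟩
  · exfalso
    obtain ⟨t, ht⟩ := hqodd.pow (n := j)
    rw [pow_add, ht, show m = (m - 2) + 2 by omega, pow_add] at h
    have h4 : (2 * t + 1) * (2 * t + 1) + 1 = 4 * (t * t + t) + 2 := by ring
    omega
  · -- `q + 1` times an odd number
    by_contra hj
    have h1 : ((q : ℤ) + 1) * ∑ i ∈ Finset.range (2 * j + 1), (-(q : ℤ)) ^ i = 2 ^ m := by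
      have := geom_sum_mul (-(q : ℤ)) (2 * j + 1)
      rw [Odd.neg_pow ⟨j, rfl⟩] at this
      have h' : (q : ℤ) ^ (2 * j + 1) + 1 = 2 ^ m := by exact_mod_cast h
      linear_combination (-1 : ℤ) * this + h'
    set S := ∑ i ∈ Finset.range (2 * j + 1), (-(q : ℤ)) ^ i with hS
    have hSodd : Odd S := by
      have hterm : ∀ i, Odd ((-(q : ℤ)) ^ i) := fun i => ((Int.odd_coe_nat q).mpr hqodd).neg.pow
      have : ∀ n, (Even n → Even (∑ i ∈ Finset.range n, (-(q : ℤ)) ^ i)) ∧
          (Odd n → Odd (∑ i ∈ Finset.range n, (-(q : ℤ)) ^ i)) := by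
        intro n
        induction n with
        | zero => simp
        | succ n ih =>
          rw [Finset.sum_range_succ, Nat.even_add_one, Nat.odd_add_one, Nat.not_even_iff_odd, Nat.not_odd_iff_even]
          exact ⟨fun hn => (ih.2 hn).add_odd (hterm n), fun hn => (ih.1 hn).add_odd (hterm n)⟩
      exact (this _).2 ⟨j, rfl⟩
    have hdvd : S ∣ (2 : ℤ) ^ m := Dvd.intro_left _ h1
    have hcop : IsCoprime S ((2 : ℤ) ^ m) := by
      obtain ⟨t, ht⟩ := hSodd
      exact IsCoprime.pow_right ⟨1, -t, by rw [ht]; ring⟩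
    have hunit := hcop.isUnit_of_dvd' dvd_rfl hdvd
    rcases Int.isUnit_iff.mp hunit with hS1 | hS1
    · rw [hS1, mul_one] at h1
      have h2 : q + 1 = q ^ (2 * j + 1) + 1 := by rw [h]; exact_mod_cast h1
      have := Nat.pow_right_injective hqq.two_le (show q ^ 1 = q ^ (2 * j + 1) by rw [pow_one]; omega)
      omega
    · rw [hS1] at h1
      have : (0 : ℤ) < 2 ^ m := by positivity
      omega

end Cfsg.Agent.Lib.Elem69.Half
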