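import Mathlib

/-!
# Elementary facts: coprime splitting of an element, conjugates covering a group
-/

namespace Cfsg.Agent.Lib.Elem69

variable {G : Type*} [Group G]

/-- An element killed by `a * b`, `a` and `b` coprime, is a product of powers killed by `a` and by `b`. -/
theorem exists_split {g : G} {a b : ℕ} (hab : a.Coprime b) (hg : g ^ (a * b) = 1) :
    ∃ u v : G, u * v = g ∧ Commute u v ∧ u ^ a = 1 ∧ v ^ b = 1 ∧
      u ∈ Subgroup.zpowers g ∧ v ∈ Subgroup.zpowers g := by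
  refine ⟨g ^ ((b : ℤ) * Nat.gcdB a b), g ^ ((a : ℤ) * Nat.gcdA a b), ?_,
    (Commute.refl g).zpow_zpow _ _, ?_, ?_,
    Subgroup.zpow_mem_zpowers _ _, Subgroup.zpow_mem_zpowers _ _⟩
  · have h := Nat.gcd_eq_gcd_ab a b
    rw [Nat.Coprime.gcd_eq_one hab, Nat.cast_one] at h
    rw [← zpow_add, add_comm, ← h, zpow_one]
  · rw [← zpow_natCast, ← zpow_mul,
      show (b : ℤ) * Nat.gcdB a b * a = ((a * b : ℕ) : ℤ) * Nat.gcdB a b by push_cast; ring,
      zpow_mul, zpow_natCast, hg, one_zpow]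
  · rw [← zpow_natCast, ← zpow_mul,
      show (a : ℤ) * Nat.gcdA a b * b = ((a * b : ℕ) : ℤ) * Nat.gcdA a b by push_cast; ring,
      zpow_mul, zpow_natCast, hg, one_zpow]

/-- Splitting of an element into a `p`-part and a part of order prime to `p`. -/
theorem exists_prime_split [Finite G] (g : G) {p : ℕ} (hp : p.Prime) :
    ∃ u v : G, u * v = g ∧ Commute u v ∧ (orderOf u).Coprime p ∧ (∃ k, orderOf v = p ^ k) ∧
      u ∈ Subgroup.zpowers g ∧ v ∈ Subgroup.zpowers g := by
  obtain ⟨k, m, hm, hn⟩ := Nat.exists_eq_pow_mul_and_not_dvd (orderOf_pos g).ne' p hp.ne_one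
  have hcop : m.Coprime (p ^ k) := ((hp.coprime_iff_not_dvd.mpr hm).pow_left k).symm
  obtain ⟨u, v, h1, h2, h3, h4, h5, h6⟩ := exists_split (g := g) hcop
    (by rw [mul_comm, ← hn]; exact pow_orderOf_eq_one g)
  refine ⟨u, v, h1, h2, ?_, ?_, h5, h6⟩
  · exact (Nat.Coprime.coprime_dvd_right (orderOf_dvd_of_pow_eq_one h3)
      (hp.coprime_iff_not_dvd.mpr hm)).symm
  · obtain ⟨j, -, hj⟩ := (Nat.dvd_prime_pow hp).mp (orderOf_dvd_of_pow_eq_one h4)
    exact ⟨j, hj⟩

/-- A finite group is not the union of the conjugates of a proper subgroup. -/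
theorem eq_top_of_forall_exists_conj [Finite G] (H : Subgroup G)
    (h : ∀ g : G, ∃ c : G, c⁻¹ * g * c ∈ H) : H = ⊤ := by
  classical
  haveI := Fintype.ofFinite G
  haveI := Fintype.ofFinite (G ⧸ H)
  have hB := MulAction.sum_card_fixedBy_eq_card_orbits_mul_card_group G (G ⧸ H)
  have h1 : Fintype.card (MulAction.orbitRel.Quotient G (G ⧸ H)) = 1 := by
    rw [Fintype.card_eq_one_iff]
    refine ⟨Quotient.mk'' ((1 : G) : G ⧸ H), fun q => ?_⟩
    induction q using Quotient.inductionOn' with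
    | h x =>
      obtain ⟨g, hg⟩ := MulAction.exists_smul_eq G ((1 : G) : G ⧸ H) x
      exact Quotient.sound' ⟨g, hg⟩
  rw [h1, one_mul] at hB
  have h2 : ∀ g : G, 1 ≤ Fintype.card (MulAction.fixedBy (G ⧸ H) g) := by
    intro g
    obtain ⟨c, hc⟩ := h g
    refine Fintype.card_pos_iff.mpr ⟨⟨(c : G ⧸ H), ?_⟩⟩
    rw [MulAction.mem_fixedBy, MulAction.Quotient.smul_coe, QuotientGroup.eq, smul_eq_mul]
    have := H.inv_mem hc
    simpa [mul_assoc] using this
  by_contra hne
  have h3 : 1 < Fintype.card (MulAction.fixedBy (G ⧸ H) (1 : G)) := by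
    have : Fintype.card (MulAction.fixedBy (G ⧸ H) (1 : G)) = H.index := by
      rw [Subgroup.index, ← Nat.card_eq_fintype_card]
      exact Nat.card_congr (Equiv.subtypeUnivEquiv fun x => by simp [MulAction.mem_fixedBy])
    rw [this]
    exact Subgroup.one_lt_index_of_ne_top hne
  have h4 : Fintype.card G < ∑ g : G, Fintype.card (MulAction.fixedBy (G ⧸ H) g) := by
    rw [Fintype.card_eq_sum_ones]
    exact Finset.sum_lt_sum (fun g _ => h2 g) ⟨1, Finset.mem_univ _, h3⟩
  omega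

end Cfsg.Agent.Lib.Elem69
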