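import Cfsg.Agent.Lib.BrauerPairs.Abelian
import Cfsg.Agent.Lib.BrauerPairs.Elements
import Cfsg.Agent.Lib.BrauerPairs.KernelCore
import Cfsg.Agent.Lib.Star.Nonvanish
import Cfsg.Agent.Lib.Blocks.Covering
import Cfsg.Agent.Lib.Blocks.InducedBlock
import Mathlib

/-!
# The pair of a block of `D·C(D)` and the fusion of central elements of a maximal pair
-/

set_option autoImplicit false

namespace Cfsg.Agent.Lib.Elem69.HeightInertia

open Cfsg MonoidAlgebra
open Cfsg.Agent.Lib
open Cfsg.Agent.Lib.BrauerPairs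
open Cfsg.Agent.Lib.BrauerMap (fixedRing core brHom)
open Cfsg.Agent.Lib.Blocks (localRing residue Residue)

attribute [local instance] Classical.propDecidable

universe u

variable {G : Type u} [Group G] [Finite G] {M : Ideal AlgInt} [M.IsPrime] {p : ℕ}
  {B : Set (IrrCharacter G)}

/-- Fusion of central pairs below a maximal pair is carried out by its stabilizer. -/
theorem exists_stab_conj (hM : IsPModular p M) {a a' b : BrauerPairIdx G}
    (hmax : IsMaximalBrauerPair p M B b.1 b.2) (ha : PairLE p M a b) (ha' : PairLE p M a' b)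
    (hC : b.1 ≤ Subgroup.centralizer (a.1 : Set G))
    (hC' : b.1 ≤ Subgroup.centralizer (a'.1 : Set G)) {x : G} (hx : conjPair x a = a') :
    ∃ k ∈ Subgroup.centralizer (a'.1 : Set G), conjPair (k * x) b = b := by
  classical
  have hb : IsPair p M b := hmax.1.1
  have hap' := IsPair.of_pairLE hb ha'
  set C := Subgroup.centralizer (a'.1 : Set G) with hCdef
  have hstep : ∀ c : BrauerPairIdx G, PairLE p M c b →
      b.1 ≤ Subgroup.centralizer (c.1 : Set G) → NormalSubpairRel p M c b := by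
    intro c hc hcC
    obtain ⟨g, hg, hgb⟩ := exists_normal_between hM hb hc (R := b.1) (pairLE_fst_le hc) le_rfl
      (hcC.trans (Subgroup.centralizer_le_normalizer _))
    rwa [pairLE_unique hM hb (a := ⟨b.1, g⟩) hgb Relation.ReflTransGen.refl rfl] at hg
  obtain ⟨ξ₀, hξ₀⟩ := Blocks.isPBlock_nonempty hap'.2
  have hcore : core a'.1 ≤ C := sup_le ((pairLE_fst_le ha').trans hC') le_rfl
  set ω : fixedRing M C →+* Residue M :=
    (brHom hM hap'.1 ξ₀).comp (Subring.inclusion (BrauerMap.fixedRing_anti hcore)) with hω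
  have hfor : IsPairFor hM C ω a' := ⟨hap'.1, hcore, hap'.2, fun ξ hξ z => by
    rw [BrauerMap.brHom_eq_of_sameBlock hM hap'.1 (Blocks.sameBlock_of_mem hap'.2 hξ hξ₀)]
    rfl⟩
  have hbmax : IsMaxFor hM C ω b := by
    refine ⟨isPairFor_of_normal hfor (hstep a' ha' hC') hC', fun c hc hbc => ?_⟩
    exact hmax.2 c.1 c.2 ((BrauerMap.isBrauerPairOf_iff_of_subpairLE hM (Q := b.1) (P := c.1)
      hbc hc.isPair hmax.1.2.1).2 hmax.1) hbc
  have hn' : NormalSubpairRel p M a' (conjPair x b) := hx ▸ normalSubpairRel_conj (hstep a ha hC) x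
  have hxC : (conjPair x b).1 ≤ C := by
    rintro _ ⟨q, hq, rfl⟩
    have h1 := ((centEquiv a.1 x) ⟨q, hC hq⟩).2
    rw [coe_centEquiv] at h1
    have h2 : a.1.map (MulAut.conj x).toMonoidHom = a'.1 := congrArg Sigma.fst hx
    rw [h2] at h1
    exact h1
  have hxfor : IsPairFor hM C ω (conjPair x b) := isPairFor_of_normal hfor hn' hxC
  have hxmax : IsMaxFor hM C ω (conjPair x b) := ⟨hxfor, fun c hc hle =>
    (Subgroup.eq_of_le_of_card_ge (pairLE_fst_le hle)
      ((card_le_of_isMaxFor hbmax hc).trans (card_map_conj b.1 x).ge)).symm⟩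
  obtain ⟨k, hk, hkb⟩ := exists_conj_eq hxmax hbmax
  rw [conjPair_mul hb.2] at hkb
  exact ⟨k, hk, hkb⟩

/-- A block of `D·C(D)` is the block of a pair on `D` with the same idempotent. -/
theorem exists_pair_of_inducing [Fact p.Prime] (hM : IsPModular p M) {D H : Subgroup G}
    (hD : IsPGroup p D) (hH : H = D ⊔ Subgroup.centralizer (D : Set G))
    {b : Set (IrrCharacter H)} (hb : IsInducedBlock M H b B) :
    ∃ a : BrauerPairIdx G, a.1 = D ∧ IsBrauerPairOf p M B a.1 a.2 ∧
      ∀ t : H, blockCoeff b t = coeffFun a (t : G) := by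
  classical
  cases nonempty_fintype G
  haveI : Fintype H := Fintype.ofFinite _
  set C := Subgroup.centralizer (D : Set G) with hCdef
  haveI : Fintype C := Fintype.ofFinite _
  have hDH : D ≤ H := hH.ge.trans' le_sup_left
  have hCH : C ≤ H := hH.ge.trans' le_sup_right
  have hHN : H ≤ Subgroup.normalizer (D : Set G) :=
    hH.le.trans (sup_le Subgroup.le_normalizer (Subgroup.centralizer_le_normalizer _))
  set K : Subgroup H := C.subgroupOf H with hK
  haveI : K.Normal := (Subgroup.normal_subgroupOf_iff_le_normalizer hCH).2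
    (hHN.trans (BrauerMap.normalizer_le_normalizer_centralizer' D))
  haveI : Fintype K := Fintype.ofFinite _
  let e : K ≃* C := Subgroup.subgroupOfEquivOfLe hCH
  obtain ⟨ξ, hξ⟩ := Blocks.isPBlock_nonempty hb.1
  obtain ⟨θ, hθ⟩ := Blocks.Covering.exists_constituent (N := K) ξ
  set ψ : IrrCharacter C := Chars.irrCongr e.symm θ with hψ
  have hψθ : ∀ n : K, (ψ : C → ℂ) (e n) = (θ : K → ℂ) n := fun n => by
    show (θ : K → ℂ) (e.symm (e n)) = _
    rw [e.symm_apply_apply]
  have hψ1 : (ψ : C → ℂ) 1 = (θ : K → ℂ) 1 := by rw [← hψθ 1, map_one]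
  have hsum : ∀ φ : H → ℂ, IsClassFunction H φ → (∀ h : H, (h : G) ∉ C → φ h = 0) →
      ∀ g : C → ℂ, (∀ n : K, φ (n : H) = g (e n)) →
      ∑ h : H, φ h * (ξ : H → ℂ) h / (ξ : H → ℂ) 1 =
        ∑ c : C, g c * (ψ : C → ℂ) c / (ψ : C → ℂ) 1 := by
    intro φ hφ hφ0 g hg
    rw [Blocks.Covering.sum_eq_sum_normal (N := K) (fun h hh => by
      rw [hφ0 h hh, zero_mul, zero_div]), Blocks.Covering.sum_normal_mul_div_eq hφ ξ θ hθ]
    refine Fintype.sum_equiv e.toEquiv _ _ fun n => ?_
    show _ = g (e n) * (ψ : C → ℂ) (e n) / _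
    rw [hψθ, hψ1, hg]
  let a : BrauerPairIdx G := ⟨D, blockOf M (ψ : C → ℂ)⟩
  have ha : IsPair p M a := ⟨hD, Blocks.isPBlock_blockOf ψ⟩
  obtain ⟨B', hB', -⟩ := BrauerMap.existsUnique_isBrauerPairOf hM (P := D)
    (e := blockOf M (ψ : C → ℂ)) ha
  have hind := Star.isInducedBlock_of_isBrauerPairOf hM (a := a) hB'
  have hbr := (Blocks.isInducedBlock_iff_brauer hM hD hDH hCH hHN hb.1 hb.2.1).1 hb
  obtain ⟨χ, hχ⟩ := Blocks.isPBlock_nonempty hb.2.1
  obtain ⟨χ', hχ'⟩ := Blocks.isPBlock_nonempty hB'.2.1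
  have hsame : SameBlock M (χ : G → ℂ) (χ' : G → ℂ) := by
    intro g
    have h1 := hbr ξ hξ χ hχ g
    have h2 := hind.2.2 ψ (Blocks.mem_blockOf_self ψ) χ' hχ' g
    have heq : brauerCentralChar D H (ξ : H → ℂ) g = inducedCentralChar C (ψ : C → ℂ) g := by
      rw [Blocks.Covering.inducedCentralChar_eq_sum_indicator, ← hsum
        (fun h : H => if (h : G) ∈ C then Chars.classIndicator g (h : G) else 0) ?_ ?_
        (fun c : C => Chars.classIndicator g (c : G)) ?_]
      · rw [brauerCentralChar, finsum_mem_eq_toFinset_sum]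
        simp only [Chars.classIndicator, ite_mul, one_mul, zero_mul, ite_div, zero_div, ← ite_and]
        rw [← Finset.sum_filter]
        refine Finset.sum_congr ?_ fun _ _ => rfl
        ext h
        simp [and_comm, hCdef]
      · intro h k
        have hmem : ((k * h * k⁻¹ : H) : G) ∈ C ↔ (h : G) ∈ C :=
          ⟨fun hm => by
            have := (inferInstance : K.Normal).conj_mem (k * h * k⁻¹) hm k⁻¹
            simpa [mul_assoc, hK, Subgroup.mem_subgroupOf] using this,
           fun hm => (inferInstance : K.Normal).conj_mem h hm k⟩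
        simp only [hmem]
        simp only [Subgroup.coe_mul, Subgroup.coe_inv, Chars.isClassFunction_classIndicator g (h : G) (k : G)]
      · intro h hh
        exact if_neg hh
      · intro n
        exact if_pos n.2
    rw [heq] at h1
    have h3 := Blocks.memLocalIdeal_sub h2 h1
    refine (?_ : centralChar (χ : G → ℂ) g - centralChar (χ' : G → ℂ) g = _) ▸ h3
    show _ = (inducedCentralChar C (ψ : C → ℂ) g - centralChar (χ' : G → ℂ) g) -
      (inducedCentralChar C (ψ : C → ℂ) g - centralChar (χ : G → ℂ) g)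
    ring
  have hBB : B' = B := Blocks.isPBlock_eq_of_mem hB'.2.1 hb.2.1 hχ'
    (Blocks.mem_of_sameBlock hb.2.1 hχ hsame)
  subst hBB
  refine ⟨a, rfl, hB', ?_⟩
  obtain ⟨E, hE, hEc⟩ := exists_block_of_le_pairStab hM ha (T := H) hH.ge
    (hH.le.trans (core_le_pairStab ha.2))
  have hξE : ξ ∈ E := by
    by_contra hno
    have h1 := Blocks.Covering.sum_blockCoeff_eq_ite E ξ
    rw [if_neg hno, hsum _ (fun g k => Blocks.blockCoeff_conj E g k)
      (fun h hh => by rw [hEc]; exact coeffFun_of_notMem hh)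
      (fun c : C => blockCoeff a.2 c) (fun n => by
        rw [hEc]
        exact BrauerMap.subgroupBlockCoeff_of_mem C a.2 (e n)),
      Blocks.Covering.sum_blockCoeff_eq_ite, if_pos (Blocks.mem_blockOf_self ψ)] at h1
    exact one_ne_zero h1
  rw [Blocks.isPBlock_eq_of_mem hb.1 hE hξ hξE]
  exact hEc

/-- An element fixing a pair on `D` fixes the block of `D·C(D)` with the same idempotent. -/
theorem mem_block_of_stab {a : BrauerPairIdx G} (ha : IsPBlock M a.2) {H : Subgroup G}
    (hH : H = a.1 ⊔ Subgroup.centralizer (a.1 : Set G)) {b : Set (IrrCharacter H)}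
    (hbc : ∀ t : H, blockCoeff b t = coeffFun a (t : G)) {x : G} (hx : conjPair x a = a)
    {θ θ' : IrrCharacter H} (hθ : θ ∈ b)
    (h : ∀ t t' : H, (t' : G) = x * t * x⁻¹ → (θ' : H → ℂ) t' = (θ : H → ℂ) t) : θ' ∈ b := by
  classical
  haveI : Fintype H := Fintype.ofFinite _
  obtain ⟨hxN, hxc⟩ := (mem_pairStab_iff ha).1 hx
  have hxH : ∀ t : H, x * (t : G) * x⁻¹ ∈ H := by
    have hNN : x ∈ Subgroup.normalizer (H : Set G) := by
      rw [← map_conj_eq_iff_mem_normalizer, hH, Subgroup.map_sup,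
        map_conj_eq_iff_mem_normalizer.2 hxN,
        map_conj_eq_iff_mem_normalizer.2 (BrauerMap.normalizer_le_normalizer_centralizer' a.1 hxN)]
    exact fun t => (Subgroup.mem_normalizer_iff.1 hNN t).1 t.2
  let f : H → H := fun t => ⟨x * (t : G) * x⁻¹, hxH t⟩
  have hf : Function.Bijective f := by
    refine Finite.injective_iff_bijective.1 fun s t hst => Subtype.ext ?_
    simpa [f] using congrArg Subtype.val hst
  by_contra hno
  have h1 := Blocks.Covering.sum_blockCoeff_eq_ite b θ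
  have h2 := Blocks.Covering.sum_blockCoeff_eq_ite b θ'
  rw [if_pos hθ] at h1
  rw [if_neg hno] at h2
  refine one_ne_zero (h1.symm.trans (Eq.trans ?_ h2))
  refine Fintype.sum_bijective f hf _ _ fun t => ?_
  rw [hbc, hbc, h t (f t) rfl, h 1 1 (by simp)]
  congr 2
  rw [← hxc (f t : G)]
  congr 1
  show (t : G) = x⁻¹ * (x * (t : G) * x⁻¹) * x
  group

/-- Elements of `H` fix every character of `H`. -/
theorem mem_block_of_mem {H : Subgroup G} {b : Set (IrrCharacter H)} {x : G} (hx : x ∈ H)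
    {θ θ' : IrrCharacter H} (hθ : θ ∈ b)
    (h : ∀ t t' : H, (t' : G) = x * t * x⁻¹ → (θ' : H → ℂ) t' = (θ : H → ℂ) t) : θ' ∈ b := by
  have : θ' = θ := Subtype.ext (funext fun t' => by
    have e := h (⟨x, hx⟩⁻¹ * t' * ⟨x, hx⟩) t' (by simp [mul_assoc])
    rw [e]
    simpa using Chars.irr_isClassFunction θ t' ⟨x, hx⟩⁻¹)
  exact this ▸ hθ

end Cfsg.Agent.Lib.Elem69.HeightInertia
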