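import Cfsg.Agent.Lib.Contrib.HeightBound
import Cfsg.Agent.Lib.Star.Nonvanish
import Cfsg.Agent.Lib.Star.Parts
import Mathlib

/-!
# Galois averages of the contributions of a major subsection
-/

set_option autoImplicit false

namespace Cfsg.Agent.Lib.Elem69.HeightInertia

open Cfsg Polynomial
open Cfsg.Agent.Lib
open Cfsg.Agent.Lib.Blocks (mem_localRing memLocalIdeal_intCast_iff natCast_mem_localRing
  natCast_div_mem_localRing)
open scoped ComplexConjugate

attribute [local instance] Classical.propDecidable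

universe u

theorem card_mul_le_sum_of_pow_le_prod {ι : Type*} (s : Finset ι) (x : ι → ℝ) {c : ℝ} (hc : 0 < c)
    (hx : ∀ i ∈ s, 0 < x i) (h : c ^ s.card ≤ ∏ i ∈ s, x i) :
    (s.card : ℝ) * c ≤ ∑ i ∈ s, x i := by
  have h1 : ∀ i ∈ s, Real.log (x i) - Real.log c ≤ x i / c - 1 := fun i hi => by
    have := Real.log_le_sub_one_of_pos (div_pos (hx i hi) hc)
    rwa [Real.log_div (hx i hi).ne' hc.ne'] at this
  have h2 := Finset.sum_le_sum h1
  rw [Finset.sum_sub_distrib, Finset.sum_sub_distrib, Finset.sum_const, Finset.sum_const,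
    nsmul_eq_mul, nsmul_eq_mul, mul_one, ← Real.log_prod fun i hi => (hx i hi).ne', ← Finset.sum_div]
    at h2
  have h3 := Real.log_le_log (pow_pos hc s.card) h
  rw [Real.log_pow] at h3
  have h4 : (s.card : ℝ) ≤ (∑ i ∈ s, x i) / c := by linarith
  rwa [le_div_iff₀ hc] at h4

/-- The product of a cyclic function over the units is an integer. -/
theorem exists_int_prod_units {N : ℕ} [NeZero N] {ζ : ℂ} (hζ : IsPrimitiveRoot ζ N) {F : ℕ → ℂ}
    (hF : Contrib.IsCyc ζ F) : ∃ n : ℤ, ∏ x : (ZMod N)ˣ, F (x : ZMod N).val = (n : ℂ) := by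
  obtain ⟨P, hP⟩ := hF
  set Q : ℤ[X] := ∏ x : (ZMod N)ˣ, P.comp (X ^ (x : ZMod N).val) with hQ
  set n := ∏ x : (ZMod N)ˣ, F (x : ZMod N).val with hn
  have hmod : ∀ m : ℕ, ζ ^ (m % N) = ζ ^ m := fun m => by
    conv_rhs => rw [← Nat.mod_add_div m N, pow_add, pow_mul, hζ.pow_eq_one, one_pow, mul_one]
  have hQn : ∀ s : (ZMod N)ˣ, aeval (ζ ^ (s : ZMod N).val) Q = n := by
    intro s
    rw [hQ, map_prod, hn, ← Equiv.prod_comp (Equiv.mulLeft s) fun x : (ZMod N)ˣ => F (x : ZMod N).val]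
    refine Finset.prod_congr rfl fun x _ => ?_
    rw [aeval_comp, map_pow, aeval_X, hP, Equiv.coe_mulLeft, Units.val_mul, ZMod.val_mul, hmod,
      pow_mul]
  have hmon : (cyclotomic N ℤ).Monic := cyclotomic.monic N ℤ
  set R := Q %ₘ cyclotomic N ℤ with hR
  have hRn : ∀ s : (ZMod N)ˣ, aeval (ζ ^ (s : ZMod N).val) R = n := by
    intro s
    have hroot : aeval (ζ ^ (s : ZMod N).val) (cyclotomic N ℤ) = 0 := by
      have h := (hζ.pow_of_coprime _ (ZMod.val_coe_unit_coprime s)).isRoot_cyclotomic (NeZero.pos N)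
      rw [aeval_def, eval₂_eq_eval_map, map_cyclotomic]
      exact h
    rw [← hQn s]
    conv_rhs => rw [← modByMonic_add_div Q (cyclotomic N ℤ)]
    rw [map_add, map_mul, hroot, zero_mul, add_zero]
  have hz : R.map (algebraMap ℤ ℂ) - C n = 0 := by
    refine eq_zero_of_natDegree_lt_card_of_eval_eq_zero _
      (f := fun s : (ZMod N)ˣ => ζ ^ (s : ZMod N).val) ?_ ?_ ?_
    · intro s t h
      exact Units.ext (ZMod.val_injective N (hζ.pow_inj (ZMod.val_lt _) (ZMod.val_lt _) h))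
    · intro s
      rw [eval_sub, eval_C, eval_map, ← aeval_def, hRn s, sub_self]
    · rw [natDegree_sub_C, ZMod.card_units_eq_totient, ← natDegree_cyclotomic N ℤ]
      refine lt_of_le_of_lt natDegree_map_le ?_
      by_cases h0 : R = 0
      · rw [h0, natDegree_zero, natDegree_cyclotomic]
        exact Nat.totient_pos.2 (NeZero.pos N)
      · exact natDegree_modByMonic_lt Q hmon fun h1 => h0 (by rw [hR, h1, modByMonic_one])
  refine ⟨R.coeff 0, ?_⟩
  have := congrArg (fun T : ℂ[X] => T.coeff 0) (sub_eq_zero.1 hz)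
  simp only [coeff_map, coeff_C_zero, algebraMap_int_eq, eq_intCast] at this
  exact this.symm

variable {G : Type u} [Group G] [Fintype G] {p : ℕ} {M : Ideal AlgInt} [Fact p.Prime] [M.IsPrime]
  {C : Subgroup G} [Fintype C] {v : G} {j : ℕ} {b : Set (IrrCharacter C)} {B : Set (IrrCharacter G)}

omit [Fintype G] in
theorem dvd_of_eq_pow_mul (hM : IsPModular p M) : ∀ (k : ℕ) (n : ℤ) (w : ℂ), MemLocalRing M w →
    (n : ℂ) = (p : ℂ) ^ k * w → (p : ℤ) ^ k ∣ n
  | 0, n, _, _, _ => by simp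
  | k + 1, n, w, hw, h => by
    have hp : (p : ℂ) ≠ 0 := Nat.cast_ne_zero.2 hM.1.ne_zero
    obtain ⟨m, rfl⟩ := dvd_of_eq_pow_mul hM k n ((p : ℂ) * w)
      (mem_localRing.1 (mul_mem (natCast_mem_localRing p) (mem_localRing.2 hw)))
      (by rw [h, pow_succ]; ring)
    have hm : (m : ℂ) = (p : ℂ) * w := mul_left_cancel₀ (pow_ne_zero k hp) (by
      push_cast at h
      rw [h, pow_succ]; ring)
    rw [pow_succ]
    refine mul_dvd_mul_left _ ((memLocalIdeal_intCast_iff hM m).1 ?_)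
    rw [hm]
    refine Blocks.memLocalIdeal_mul_right ?_ hw
    simpa using (memLocalIdeal_intCast_iff hM (p : ℤ)).2 dvd_rfl

/-- The squared norm of the part of a character on a section of `v`. -/
theorem contrib_eq_sum_blockPart (hM : IsPModular p M)
    (hC : C = Subgroup.centralizer ({v} : Set G)) (hb : IsPBlock M b) (χ : IrrCharacter G) :
    (Nat.card C : ℂ)⁻¹ * ∑ y : C, (if p ∣ orderOf y then 0 else
      blockPart b (fun c : C => (χ : G → ℂ) (v * (c : G))) y *
        conj (blockPart b (fun c : C => (χ : G → ℂ) (v * (c : G))) y)) =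
      Contrib.contrib p v b χ χ := by
  classical
  obtain ⟨N, -, hN, -, -, -⟩ := Contrib.exists_intMatrix hM hb
  refine mul_left_cancel₀ (pow_ne_zero (blockDefect p b) (Nat.cast_ne_zero.2 hM.1.ne_zero :
    (p : ℂ) ≠ 0)) ?_
  rw [Contrib.pow_mul_contrib hM hC hb hN]
  have hmult : ∀ η : IrrCharacter C,
      classInner (fun c : C => (χ : G → ℂ) (v * (c : G))) (η : C → ℂ) = Contrib.secMult hC χ η := by
    intro η
    rw [funext fun d : C => Contrib.apply_section hC χ d,
      show (fun d : C => ∑ θ : IrrCharacter C, Contrib.secMult hC χ θ * (θ : C → ℂ) d) =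
        ∑ θ : IrrCharacter C, Contrib.secMult hC χ θ • (θ : C → ℂ) by ext d; simp,
      Chars.classInner_sum_left]
    simp only [Chars.classInner_smul_left, Chars.classInner_irr, mul_ite, mul_one, mul_zero]
    simp
  set m := Contrib.secMult hC χ with hm
  rw [Star.blockPart_eq_sum]
  simp only [hmult, Finset.sum_apply, Pi.smul_apply, smul_eq_mul, map_sum, map_mul,
    Finset.mul_sum, Finset.sum_mul]
  have hterm : ∀ y : C, (p : ℂ) ^ blockDefect p b * ((Nat.card C : ℂ)⁻¹ *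
      (if p ∣ orderOf y then 0 else ∑ a ∈ b.toFinset, ∑ a' ∈ b.toFinset,
        m a' * (a' : C → ℂ) y * (conj (m a) * conj ((a : C → ℂ) y)))) =
      ∑ a ∈ b.toFinset, ∑ a' ∈ b.toFinset, ((p : ℂ) ^ blockDefect p b * (m a' * conj (m a))) *
        ((Nat.card C : ℂ)⁻¹ * (pRegularPart p (a' : C → ℂ) y * conj ((a : C → ℂ) y))) := by
    intro y
    by_cases hy : p ∣ orderOf y
    · simp [BrauerFeit.pRegularPart_apply, hy]
    · simp only [if_neg hy, BrauerFeit.pRegularPart_apply, Finset.mul_sum]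
      exact Finset.sum_congr rfl fun a _ => Finset.sum_congr rfl fun a' _ => by ring
  rw [Finset.sum_congr rfl fun y _ => hterm y, Finset.sum_comm]
  conv_rhs => rw [Finset.sum_comm]
  refine Finset.sum_congr rfl fun a _ => ?_
  rw [Finset.sum_comm]
  refine Finset.sum_congr rfl fun a' ha' => ?_
  rw [← Finset.mul_sum, ← Finset.mul_sum, hN a' (Set.mem_toFinset.1 ha')]
  rw [show (Nat.card C : ℂ)⁻¹ * ∑ y : C, pRegularPart p (a' : C → ℂ) y * conj ((a : C → ℂ) y) =
    BrauerFeit.regCoef p a' a from rfl]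
  ring

/-- For a major subsection the scaled contribution is positive and divisible as the height. -/
theorem pos_and_div (hM : IsPModular p M) (hv : orderOf v = p ^ j)
    (hC : C = Subgroup.centralizer ({v} : Set G)) (hb : IsInducedBlock M C b B)
    (hmaj : blockDefect p b = blockDefect p B) {χ : IrrCharacter G} (hχ : χ ∈ B) :
    ∃ (r : ℝ) (w : ℂ), 0 < r ∧ (p : ℂ) ^ blockDefect p b * Contrib.contrib p v b χ χ = (r : ℂ) ∧
      MemLocalRing M w ∧ (r : ℂ) = (p : ℂ) ^ blockHeight p B (χ : G → ℂ) * w := by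
  classical
  set r : ℝ := (p : ℝ) ^ blockDefect p b *
    ∑ ξ ∈ b.toFinset, ‖Contrib.secCoef p v χ ξ‖ ^ 2 with hr
  have hcr : (p : ℂ) ^ blockDefect p b * Contrib.contrib p v b χ χ = (r : ℂ) := by
    rw [hr, Contrib.contrib]
    push_cast
    exact congrArg _ (Finset.sum_congr rfl fun ξ _ => Complex.mul_conj' _)
  obtain ⟨F, lam, -, hF, -, -, -, hlR, hlU, hl⟩ := Contrib.exists_family hM hv hC hb
  obtain ⟨ψ, hψ, h0⟩ := Blocks.exists_height_zero (p := p) hb.2.1
  have hne := (Contrib.major_facts hM hv hC hb hmaj hF hlR hlU hl).2 χ hχ ψ hψ h0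
  rw [hF χ ψ 1 hM.1.not_dvd_one, pow_one] at hne
  have hpos : 0 < r := by
    refine mul_pos (pow_pos (Nat.cast_pos.2 hM.1.pos) _) (lt_of_le_of_ne
      (Finset.sum_nonneg fun ξ _ => sq_nonneg _) fun h => hne ?_)
    have hz := (Finset.sum_eq_zero_iff_of_nonneg fun ξ _ => sq_nonneg _).1 h.symm
    rw [Contrib.contrib, Finset.sum_eq_zero fun ξ hξ => ?_, mul_zero]
    rw [norm_eq_zero.1 (pow_eq_zero_iff two_ne_zero |>.1 (hz ξ hξ)), zero_mul]
  obtain ⟨Ω, hΩR, hΩ, -⟩ := Contrib.exists_major_factor hM ⟨j, hv⟩ hC hb hmaj χ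
  have he := Contrib.minExp_add_blockHeight_le (p := p) hχ
  refine ⟨r, (charDegree (χ : G → ℂ) : ℂ) /
      ((p ^ (Contrib.minExp p B + blockHeight p B (χ : G → ℂ)) : ℕ) : ℂ) * Ω χ, hpos, hcr, ?_, ?_⟩
  · exact mem_localRing.1 (mul_mem (natCast_div_mem_localRing hM (pow_ne_zero _ hM.1.ne_zero)
      (Or.inl (by rw [hM.1.factorization_pow, Finsupp.single_eq_same]; exact he)))
      (mem_localRing.2 (hΩR χ)))
  · rw [← hcr, hΩ χ hχ, (Blocks.exists_degree_eq χ).1]
    have hp : (p : ℂ) ≠ 0 := Nat.cast_ne_zero.2 hM.1.ne_zero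
    push_cast
    rw [pow_add]
    field_simp
    try ring

/-- The Galois average of the scaled contributions is at least `p ^ h`. -/
theorem card_mul_pow_le_sum (hM : IsPModular p M) (hv : orderOf v = p ^ j)
    (hC : C = Subgroup.centralizer ({v} : Set G)) (hb : IsInducedBlock M C b B)
    (hmaj : blockDefect p b = blockDefect p B) {χ : IrrCharacter G} (hχ : χ ∈ B) :
    (Fintype.card (ZMod (p ^ (j + 1)))ˣ : ℝ) * (p : ℝ) ^ blockHeight p B (χ : G → ℂ) ≤
      ∑ x : (ZMod (p ^ (j + 1)))ˣ, ((p : ℂ) ^ blockDefect p b *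
        Contrib.contrib p (v ^ (x : ZMod (p ^ (j + 1))).val) b χ χ).re := by
  classical
  haveI : NeZero (p ^ (j + 1)) := ⟨pow_ne_zero _ hM.1.ne_zero⟩
  obtain ⟨F, -, hcyc, hF, -⟩ := Contrib.exists_family hM hv hC hb
  have ht : ∀ x : (ZMod (p ^ (j + 1)))ˣ, ¬ p ∣ (x : ZMod (p ^ (j + 1))).val := fun x h =>
    hM.1.not_dvd_one (Nat.Coprime.gcd_eq_one (ZMod.val_coe_unit_coprime x) ▸
      Nat.dvd_gcd h (dvd_pow_self p j.succ_ne_zero))
  have hx := fun x : (ZMod (p ^ (j + 1)))ˣ => pos_and_div hM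
    (Contrib.orderOf_pow_prime hv (ht x)) (Contrib.eq_centralizer_pow hv hC (ht x)) hb hmaj hχ
  choose r w hr hrc hw hrw using hx
  obtain ⟨n, hn⟩ := exists_int_prod_units (Contrib.isPrimitiveRoot_theRoot p j) (hcyc χ χ)
  set U := Fintype.card (ZMod (p ^ (j + 1)))ˣ with hU
  set h := blockHeight p B (χ : G → ℂ) with hh
  have hnr : ((∏ x, r x : ℝ) : ℂ) = (n : ℂ) := by
    rw [← hn, Complex.ofReal_prod]
    exact Finset.prod_congr rfl fun x _ => by rw [← hrc x, hF χ χ _ (ht x)]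
  have hdvd : (p : ℤ) ^ (h * U) ∣ n := by
    refine dvd_of_eq_pow_mul hM _ n (∏ x, w x)
      (mem_localRing.1 (prod_mem fun x _ => mem_localRing.2 (hw x))) ?_
    rw [← hnr, Complex.ofReal_prod, Finset.prod_congr rfl fun x _ => hrw x, Finset.prod_mul_distrib,
      Finset.prod_const, ← pow_mul]
    rfl
  have hpos : 0 < ∏ x, r x := Finset.prod_pos fun x _ => hr x
  have hnr' : (∏ x, r x : ℝ) = (n : ℝ) := by exact_mod_cast hnr
  have hn0 : 0 < n := by rw [hnr'] at hpos; exact_mod_cast hpos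
  have hle : ((p : ℝ) ^ h) ^ U ≤ ∏ x, r x := by
    rw [← pow_mul, hnr']
    exact_mod_cast Int.le_of_dvd hn0 hdvd
  refine le_of_le_of_eq (card_mul_le_sum_of_pow_le_prod Finset.univ r
    (pow_pos (Nat.cast_pos.2 hM.1.pos) h) (fun x _ => hr x) hle) (Finset.sum_congr rfl fun x _ => ?_)
  rw [hrc x, Complex.ofReal_re]

end Cfsg.Agent.Lib.Elem69.HeightInertia
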