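import Mathlib
import Cfsg.Agent.Lib.Elem69.PGroupSmall
import Cfsg.Agent.Lib.SZ.Card
import Cfsg.Agent.Lib.OrderCount.Frobenius

/-!
# The number of cyclic subgroups of order `p ^ s`, `s ≥ 2`, in a group with noncyclic Sylow subgroups
-/

namespace Cfsg.Agent.Lib.Elem69

universe u

variable {G : Type u} [Group G] [Finite G] {p : ℕ} [hp : Fact p.Prime]

/-- The generators of a cyclic group of order `d`, counted in the ambient group. -/
theorem ncard_generators (x : G) :
    {y : G | Subgroup.zpowers y = Subgroup.zpowers x}.ncard = Nat.totient (orderOf x) := by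
  classical
  haveI := Fintype.ofFinite (Subgroup.zpowers x)
  let e : {y : G | Subgroup.zpowers y = Subgroup.zpowers x} ≃ {a : Subgroup.zpowers x // orderOf a = orderOf x} :=
    { toFun := fun y => ⟨⟨y.1, (show Subgroup.zpowers (y : G) = _ from y.2).le (Subgroup.mem_zpowers _)⟩, by
        rw [Subgroup.orderOf_mk, ← Nat.card_zpowers, ← Nat.card_zpowers, show Subgroup.zpowers (y : G) = _ from y.2]⟩
      invFun := fun a => ⟨a.1.1, Subgroup.eq_of_le_of_card_ge (Subgroup.zpowers_le.mpr a.1.2)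
        (by rw [Nat.card_zpowers, Nat.card_zpowers, Subgroup.orderOf_coe, a.2])⟩
      left_inv := fun y => rfl
      right_inv := fun a => rfl }
  rw [← Nat.card_coe_set_eq, Nat.card_congr e, Nat.card_eq_fintype_card, Fintype.card_subtype,
    IsCyclic.card_orderOf_eq_totient (by rw [← Nat.card_eq_fintype_card, Nat.card_zpowers])]

theorem exists_adapted_elementary {P : Type u} [Group P] [Finite P] (hp2 : p ≠ 2) (hP : IsPGroup p P)
    (hnc : ¬ IsCyclic P) :
    ∃ E : Subgroup P, E.Normal ∧ Cfsg.IsElementaryAbelian p E ∧ Nat.card E = p ^ 2 ∧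
      ∀ C : Subgroup P, C.Normal → C ≠ ⊥ → ∀ g : P, ∀ e ∈ E, g * e * g⁻¹ * e⁻¹ ∈ C := by
  have hpp := hp.out
  by_cases hZ : ∃ z w : P, z ∈ Subgroup.center P ∧ w ∈ Subgroup.center P ∧ orderOf z = p ∧
      orderOf w = p ∧ w ∉ Subgroup.zpowers z
  · obtain ⟨z, w, hz, hw, hzo, hwo, hwz⟩ := hZ
    have hle : Subgroup.zpowers w ⊔ Subgroup.zpowers z ≤ Subgroup.center P :=
      sup_le (Subgroup.zpowers_le.mpr hw) (Subgroup.zpowers_le.mpr hz)
    have hc : ∀ e ∈ Subgroup.zpowers w ⊔ Subgroup.zpowers z, ∀ g : P, g * e * g⁻¹ = e := fun e he g => by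
      rw [Subgroup.mem_center_iff.mp (hle he) g, mul_inv_cancel_right]
    have hn : (Subgroup.zpowers w ⊔ Subgroup.zpowers z).Normal :=
      ⟨fun e he g => by rwa [hc e he g]⟩
    have hzn := normal_zpowers_of_mem_center hz
    have hcard : Nat.card ↥(Subgroup.zpowers w ⊔ Subgroup.zpowers z) = p ^ 2 := by
      have h1 := SZ.card_sup_mul_card_inf (Subgroup.zpowers w) (Subgroup.zpowers z)
      have h2 : Nat.card (Subgroup.zpowers w ⊓ Subgroup.zpowers z : Subgroup P) = 1 := by
        rcases (Nat.dvd_prime hpp).mp (hwo ▸ Nat.card_zpowers w ▸ Subgroup.card_dvd_of_le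
          (inf_le_left : Subgroup.zpowers w ⊓ Subgroup.zpowers z ≤ Subgroup.zpowers w)) with h | h
        · exact h
        · exfalso
          apply hwz
          have : Subgroup.zpowers w ⊓ Subgroup.zpowers z = Subgroup.zpowers w :=
            Subgroup.eq_of_le_of_card_ge inf_le_left (by rw [h, Nat.card_zpowers, hwo])
          exact (this.ge (Subgroup.mem_zpowers w)).2
      rw [h2, mul_one, Nat.card_zpowers, Nat.card_zpowers, hwo, hzo, ← pow_two] at h1
      exact h1
    refine ⟨_, hn, ⟨⟨⟨fun a b => Subtype.ext (Subgroup.mem_center_iff.mp (hle b.2) a)⟩⟩, ?_⟩, hcard,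
      fun C _ _ g e he => by rw [hc e he g, mul_inv_cancel]; exact one_mem C⟩
    intro e he
    obtain ⟨u, ⟨i, rfl⟩, v, ⟨j, rfl⟩, rfl⟩ := Subgroup.mem_sup_of_normal_right.mp he
    rw [(Commute.zpow_zpow (show Commute w z from Subgroup.mem_center_iff.mp hz w) i j).mul_pow,
      ← zpow_natCast (w ^ i), ← zpow_mul, mul_comm i, zpow_mul, zpow_natCast,
      ← hwo, pow_orderOf_eq_one, one_zpow, one_mul, hwo,
      ← zpow_natCast (z ^ j), ← zpow_mul, mul_comm j, zpow_mul, zpow_natCast, ← hzo, pow_orderOf_eq_one,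
      one_zpow]
  · push Not at hZ
    obtain ⟨E, hEn, hE, hEc, z, hzE, hzc, hzo⟩ := exists_normal_elementary_sq hp2 hP hnc
    refine ⟨E, hEn, hE, hEc, fun C hCn hC g e he => ?_⟩
    obtain ⟨w, hwC, hwc, hwo⟩ := exists_central_order_p hP C hC
    have hzC : z ∈ C := by
      have h1 := hZ w z hwc hzc hwo hzo
      exact Subgroup.zpowers_le.mpr hwC h1
    have hzn := normal_zpowers_of_mem_center hzc
    let ρ := QuotientGroup.mk' (Subgroup.zpowers z)
    have hc : Nat.card (E.map ρ) = p := by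
      have h1 : Nat.card E = Nat.card (Subgroup.zpowers z) * Nat.card (E.map ρ) := by
        rw [← PSolvable.card_comap_mk', Subgroup.comap_map_eq_self]
        rw [QuotientGroup.ker_mk']
        exact Subgroup.zpowers_le.mpr hzE
      rw [hEc, Nat.card_zpowers, hzo, pow_two] at h1
      exact (Nat.eq_of_mul_eq_mul_left hpp.pos h1).symm
    have hn : (E.map ρ).Normal := hEn.map ρ (QuotientGroup.mk'_surjective _)
    obtain ⟨v, hv, hvc, hvo⟩ := exists_central_order_p (hP.to_quotient _) (E.map ρ) (by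
      intro h; rw [h, Subgroup.card_bot] at hc; exact hpp.one_lt.ne hc)
    have hEv : E.map ρ = Subgroup.zpowers v := (Subgroup.eq_of_le_of_card_ge
      (Subgroup.zpowers_le.mpr hv) (by rw [hc, Nat.card_zpowers, hvo])).symm
    have hec : (e : P ⧸ Subgroup.zpowers z) ∈ Subgroup.center (P ⧸ Subgroup.zpowers z) := by
      have h1 : (e : P ⧸ Subgroup.zpowers z) ∈ E.map ρ := ⟨e, he, rfl⟩
      rw [hEv] at h1
      exact Subgroup.zpowers_le.mpr hvc h1
    refine Subgroup.zpowers_le.mpr hzC ?_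
    rw [← QuotientGroup.eq_one_iff]
    simp only [QuotientGroup.mk_mul, QuotientGroup.mk_inv]
    rw [Subgroup.mem_center_iff.mp hec, mul_inv_cancel_right, mul_inv_cancel]

/-- The normal cyclic subgroups of order `p ^ s`, `s ≥ 2`, of a noncyclic `p`-group, `p` odd, are
counted by a multiple of `p`. -/
theorem dvd_card_normal_cyclic {P : Type u} [Group P] [Finite P] (hp2 : p ≠ 2) (hP : IsPGroup p P)
    (hnc : ¬ IsCyclic P) {s : ℕ} (hs : 2 ≤ s) :
    p ∣ {C : Subgroup P | C.Normal ∧ IsCyclic C ∧ Nat.card C = p ^ s}.ncard := by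
  classical
  have hpp := hp.out
  obtain ⟨E, hEn, hE, hEc, hEcomm⟩ := exists_adapted_elementary hp2 hP hnc
  set F := {C : Subgroup P | C.Normal ∧ IsCyclic C ∧ Nat.card C = p ^ s} with hF
  have hFfin : F.Finite := Set.toFinite _
  rw [Set.ncard_eq_toFinset_card F hFfin,
    Finset.card_eq_sum_card_image (fun C : Subgroup P => C ⊔ E) hFfin.toFinset]
  refine Finset.dvd_sum fun M hM => ?_
  obtain ⟨C, hC, rfl⟩ := Finset.mem_image.mp hM
  rw [Set.Finite.mem_toFinset] at hC
  obtain ⟨hCn, hCc, hCcard⟩ := hC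
  obtain ⟨c, hc⟩ := C.isCyclic_iff_exists_zpowers_eq_top.mp hCc
  subst hc
  rw [Nat.card_zpowers] at hCcard
  have hsucc : s = (s - 1) + 1 := by omega
  -- the subgroup of index `p`
  set D := Subgroup.zpowers (c ^ p) with hD
  have hDc : Nat.card D = p ^ (s - 1) := by
    rw [hD, Nat.card_zpowers, orderOf_pow_of_dvd hpp.ne_zero (by rw [hCcard]; exact dvd_pow_self p (by omega)),
      hCcard]
    conv_lhs => rw [hsucc, pow_succ, Nat.mul_div_cancel _ hpp.pos]
  have hDC : D ≤ Subgroup.zpowers c := Subgroup.zpowers_le.mpr (pow_mem (Subgroup.mem_zpowers c) p)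
  have hconjc : ∀ g : P, ∃ k : ℤ, g * c * g⁻¹ = c ^ k := fun g => by
    obtain ⟨k, hk⟩ := hCn.conj_mem c (Subgroup.mem_zpowers c) g
    exact ⟨k, hk.symm⟩
  have hDn : D.Normal := by
    refine ⟨fun x hx g => ?_⟩
    obtain ⟨i, rfl⟩ := hx
    obtain ⟨k, hk⟩ := hconjc g
    show g * (c ^ p) ^ i * g⁻¹ ∈ D
    rw [← conj_zpow, ← conj_pow, hk, ← zpow_natCast (c ^ k), ← zpow_mul, ← zpow_mul,
      show k * ((p : ℤ) * i) = (p : ℤ) * (k * i) by ring, zpow_mul, zpow_natCast]
    exact Subgroup.zpow_mem_zpowers _ _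
  have hDne : D ≠ ⊥ := fun h => by
    rw [h, Subgroup.card_bot] at hDc
    exact (Nat.one_lt_pow (by omega) hpp.one_lt).ne hDc
  -- elements of order `p` of `⟨c⟩` lie in `D`
  have hsmall : ∀ x ∈ Subgroup.zpowers c, x ^ p = 1 → x ∈ D := by
    intro x hx hxp
    haveI : IsCyclic (Subgroup.zpowers c) := inferInstance
    have h1 : (⟨x, hx⟩ : Subgroup.zpowers c) ∈ D.subgroupOf (Subgroup.zpowers c) := by
      refine mem_of_pow_card_eq_one _ ?_
      apply Subtype.ext
      rw [SZ.card_subgroupOf hDC, hDc, Subgroup.coe_pow]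
      show x ^ p ^ (s - 1) = 1
      rw [show s - 1 = (s - 2) + 1 by omega, pow_succ', pow_mul, hxp, one_pow]
    exact Subgroup.mem_subgroupOf.mp h1
  have hcD : c ∉ D := fun h => by
    have h1 := Subgroup.card_le_of_le (Subgroup.zpowers_le.mpr h)
    rw [Nat.card_zpowers, hCcard, hDc] at h1
    exact absurd ((Nat.pow_le_pow_iff_right hpp.one_lt).mp h1) (by omega)
  -- conjugation is trivial modulo `D`
  have hDconj : ∀ g : P, (g * c * g⁻¹) * c⁻¹ ∈ D := by
    intro g
    let ρ := QuotientGroup.mk' D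
    have hn : ((Subgroup.zpowers c).map ρ).Normal := hCn.map ρ (QuotientGroup.mk'_surjective _)
    have hne : (Subgroup.zpowers c).map ρ ≠ ⊥ := by
      rw [ne_eq, Subgroup.map_eq_bot_iff, QuotientGroup.ker_mk']
      exact fun h => hcD (h (Subgroup.mem_zpowers c))
    obtain ⟨v, hv, hvc, hvo⟩ := exists_central_order_p (hP.to_quotient _) _ hne
    have hcm : Nat.card ((Subgroup.zpowers c).map ρ) = p := by
      have h1 : Nat.card (Subgroup.zpowers c) = Nat.card D * Nat.card ((Subgroup.zpowers c).map ρ) := by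
        rw [← PSolvable.card_comap_mk', Subgroup.comap_map_eq_self]
        rw [QuotientGroup.ker_mk']; exact hDC
      rw [Nat.card_zpowers, hCcard, hDc] at h1
      conv_lhs at h1 => rw [hsucc, pow_succ]
      exact (Nat.eq_of_mul_eq_mul_left (pow_pos hpp.pos _) h1).symm
    have hCv : (Subgroup.zpowers c).map ρ = Subgroup.zpowers v := (Subgroup.eq_of_le_of_card_ge
      (Subgroup.zpowers_le.mpr hv) (by rw [hcm, Nat.card_zpowers, hvo])).symm
    have hcc : (c : P ⧸ D) ∈ Subgroup.center (P ⧸ D) := by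
      have h1 : (c : P ⧸ D) ∈ (Subgroup.zpowers c).map ρ := ⟨c, Subgroup.mem_zpowers c, rfl⟩
      rw [hCv] at h1
      exact Subgroup.zpowers_le.mpr hvc h1
    rw [← QuotientGroup.eq_one_iff]
    simp only [QuotientGroup.mk_mul, QuotientGroup.mk_inv]
    rw [Subgroup.mem_center_iff.mp hcc, mul_inv_cancel_right, mul_inv_cancel]
  set N := D ⊔ E with hN
  have hNn : N.Normal := inferInstance
  set M := Subgroup.zpowers c ⊔ E with hMdef
  have hNM : N ≤ M := sup_le_sup_right hDC E
  have hcN : c ∉ N := by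
    intro h
    obtain ⟨d, hd, e, he, hde⟩ := Subgroup.mem_sup_of_normal_right.mp h
    apply hcD
    have heC : e ∈ Subgroup.zpowers c := by
      have : e = d⁻¹ * c := by rw [← hde, inv_mul_cancel_left]
      rw [this]; exact mul_mem (inv_mem (hDC hd)) (Subgroup.mem_zpowers c)
    rw [← hde]
    exact mul_mem hd (hsmall e heC (hE.2 e he))
  -- the elements of `M` outside `N` are the generators of the subgroups in the block
  have hpow : ∀ (i : ℤ) e, e ∈ E → (c ^ i * e) ^ p = (c ^ p) ^ i := by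
    intro i e he
    set κ := e * c ^ i * (c ^ i * e)⁻¹ with hκ
    have hκE : κ ∈ E := by
      rw [hκ, mul_inv_rev, show e * c ^ i * (e⁻¹ * (c ^ i)⁻¹) = e * (c ^ i * e⁻¹ * (c ^ i)⁻¹) by group]
      exact mul_mem he (hEn.conj_mem _ (inv_mem he) _)
    have hκC : κ ∈ Subgroup.zpowers c := by
      rw [hκ, mul_inv_rev, show e * c ^ i * (e⁻¹ * (c ^ i)⁻¹) = (e * c ^ i * e⁻¹) * (c ^ i)⁻¹ by group]
      exact mul_mem (hCn.conj_mem _ (Subgroup.zpow_mem_zpowers c i) _) (inv_mem (Subgroup.zpow_mem_zpowers c i))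
    have hκc : κ ∈ Subgroup.center P := by
      by_cases h1 : κ = 1
      · rw [h1]; exact one_mem _
      have hκo : orderOf κ = p := orderOf_eq_prime (hE.2 κ hκE) h1
      have hCE : (Subgroup.zpowers c ⊓ E).Normal := inferInstance
      obtain ⟨w, hw, hwc, hwo⟩ := exists_central_order_p hP _ (show Subgroup.zpowers c ⊓ E ≠ ⊥ from
        fun h => h1 (Subgroup.mem_bot.mp (h ▸ Subgroup.mem_inf.mpr ⟨hκC, hκE⟩)))
      have h2 : (⟨κ, hκC⟩ : Subgroup.zpowers c) ∈ Subgroup.zpowers (⟨w, hw.1⟩ : Subgroup.zpowers c) := by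
        refine mem_of_pow_card_eq_one _ ?_
        rw [Nat.card_zpowers, ← Subgroup.orderOf_coe, hwo]
        exact Subtype.ext (hE.2 κ hκE)
      obtain ⟨t, ht⟩ := h2
      have h3 : w ^ t = κ := congrArg Subtype.val ht
      rw [← h3]
      exact zpow_mem hwc t
    have hκp : κ ^ p.choose 2 = 1 := by
      obtain ⟨t, ht⟩ := hpp.dvd_choose_self two_ne_zero (lt_of_le_of_ne hpp.two_le (Ne.symm hp2))
      rw [ht, pow_mul, hE.2 κ hκE, one_pow]
    rw [mul_pow_central hκc (by rw [hκ]; group) p, hκp, one_mul, hE.2 e he, mul_one, ← zpow_natCast (c ^ i),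
      ← zpow_mul, mul_comm, zpow_mul, zpow_natCast]
  have hmemM : ∀ x, x ∈ M → ∃ i : ℤ, ∃ e ∈ E, x = c ^ i * e := by
    intro x hx
    obtain ⟨u, ⟨i, rfl⟩, e, he, rfl⟩ := Subgroup.mem_sup_of_normal_right.mp hx
    exact ⟨i, e, he, rfl⟩
  have hgood : ∀ x, x ∈ M → x ∉ N →
      orderOf x = p ^ s ∧ (Subgroup.zpowers x).Normal ∧ Subgroup.zpowers x ⊔ E = M := by
    intro x hxM hxN
    obtain ⟨i, e, he, rfl⟩ := hmemM x hxM
    have hi : ¬ (p : ℤ) ∣ i := by
      rintro ⟨l, rfl⟩
      apply hxN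
      refine mul_mem (Subgroup.mem_sup_left ?_) (Subgroup.mem_sup_right he)
      rw [zpow_mul, zpow_natCast]
      exact Subgroup.zpow_mem_zpowers _ _
    have hxp := hpow i e he
    obtain ⟨a, b, hab⟩ : ∃ a b : ℤ, a * i + b * ((p : ℤ) ^ s) = 1 :=
      (((Nat.prime_iff_prime_int.mp hpp).coprime_iff_not_dvd.mpr hi).symm.pow_right).imp fun a ⟨b, h⟩ => ⟨b, h⟩
    have hcgen : c = (c ^ i) ^ a := by
      have h1 : c ^ ((p : ℤ) ^ s) = 1 := by
        rw [← Nat.cast_pow, zpow_natCast, ← hCcard, pow_orderOf_eq_one]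
      conv_lhs => rw [← zpow_one c, ← hab, zpow_add, mul_comm b, zpow_mul c ((p : ℤ) ^ s), h1, one_zpow,
        mul_one, mul_comm, zpow_mul]
    have hDx : Subgroup.zpowers ((c ^ i * e) ^ p) = D := by
      rw [hxp]
      refine le_antisymm (Subgroup.zpowers_le.mpr (Subgroup.zpow_mem_zpowers _ _)) (Subgroup.zpowers_le.mpr ⟨a, ?_⟩)
      show ((c ^ p) ^ i) ^ a = c ^ p
      conv_rhs => rw [hcgen]
      rw [← zpow_mul, ← zpow_natCast, ← zpow_natCast, ← zpow_mul, ← zpow_mul, ← zpow_mul]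
      ring_nf
    have hord : orderOf (c ^ i * e) = p ^ s := by
      have h1 : orderOf ((c ^ i * e) ^ p) = p ^ (s - 1) := by rw [← Nat.card_zpowers, hDx, hDc]
      obtain ⟨t, ht⟩ := IsPGroup.iff_orderOf.mp hP (c ^ i * e)
      have ht0 : t ≠ 0 := by
        rintro rfl
        rw [pow_zero, orderOf_eq_one_iff] at ht
        exact hxN (ht ▸ one_mem N)
      rw [orderOf_pow_of_dvd hpp.ne_zero (by rw [ht]; exact dvd_pow_self p ht0), ht,
        show t = (t - 1) + 1 by omega, pow_succ, Nat.mul_div_cancel _ hpp.pos] at h1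
      rw [ht]
      congr 1
      have := Nat.pow_right_injective hpp.two_le h1
      omega
    have hDX : D ≤ Subgroup.zpowers (c ^ i * e) :=
      hDx ▸ Subgroup.zpowers_le.mpr (pow_mem (Subgroup.mem_zpowers _) p)
    refine ⟨hord, ⟨fun y hy g => ?_⟩, ?_⟩
    · obtain ⟨t, rfl⟩ := hy
      show g * (c ^ i * e) ^ t * g⁻¹ ∈ _
      rw [← conj_zpow]
      refine zpow_mem ?_ t
      have h1 : (g * c * g⁻¹) ^ i * (c ^ i)⁻¹ ∈ D := by
        rw [← QuotientGroup.eq_one_iff]
        have hgc : ((g * c * g⁻¹ : P) : P ⧸ D) = (c : P ⧸ D) := by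
          apply mul_inv_eq_one.mp
          rw [← QuotientGroup.mk_inv, ← QuotientGroup.mk_mul, QuotientGroup.eq_one_iff]
          exact hDconj g
        rw [QuotientGroup.mk_mul, QuotientGroup.mk_inv, QuotientGroup.mk_zpow D, QuotientGroup.mk_zpow D, hgc,
          mul_inv_cancel]
      have h2 : g * e * g⁻¹ * e⁻¹ ∈ D := hEcomm D hDn hDne g e he
      have key : g * (c ^ i * e) * g⁻¹ * (c ^ i * e)⁻¹ ∈ D := by
        rw [show g * (c ^ i * e) * g⁻¹ * (c ^ i * e)⁻¹ =
          ((g * c ^ i * g⁻¹) * (c ^ i)⁻¹) * (c ^ i * (g * e * g⁻¹ * e⁻¹) * (c ^ i)⁻¹) by group, ← conj_zpow]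
        exact mul_mem h1 (hDn.conj_mem _ h2 _)
      have := mul_mem (hDX key) (Subgroup.mem_zpowers (c ^ i * e))
      rwa [inv_mul_cancel_right] at this
    · refine le_antisymm (sup_le (Subgroup.zpowers_le.mpr hxM) le_sup_right) (sup_le ?_ le_sup_right)
      rw [Subgroup.zpowers_le]
      suffices h : (c ^ i) ^ a ∈ Subgroup.zpowers (c ^ i * e) ⊔ E by rwa [← hcgen] at h
      refine zpow_mem ?_ _
      have := mul_mem (Subgroup.mem_sup_left (T := E) (Subgroup.mem_zpowers (c ^ i * e)))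
        (Subgroup.mem_sup_right (S := Subgroup.zpowers (c ^ i * e)) (inv_mem he))
      rwa [mul_inv_cancel_right] at this
  -- counting
  set Fib := hFfin.toFinset.filter fun C' => C' ⊔ E = M with hFib
  let S : Finset P := (Set.toFinite {x : P | x ∈ M ∧ x ∉ N}).toFinset
  have hSimg : S.image (fun x => Subgroup.zpowers x) = Fib := by
    ext C'
    constructor
    · intro h
      obtain ⟨x, hx, rfl⟩ := Finset.mem_image.mp h
      rw [Set.Finite.mem_toFinset] at hx
      obtain ⟨h1, h2, h3⟩ := hgood x hx.1 hx.2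
      rw [hFib, Finset.mem_filter, Set.Finite.mem_toFinset]
      exact ⟨⟨h2, inferInstance, by rw [Nat.card_zpowers, h1]⟩, h3⟩
    · intro h
      rw [hFib, Finset.mem_filter, Set.Finite.mem_toFinset] at h
      obtain ⟨⟨-, h2, -⟩, h4⟩ := h
      obtain ⟨x, hx⟩ := C'.isCyclic_iff_exists_zpowers_eq_top.mp h2
      subst hx
      refine Finset.mem_image.mpr ⟨x, ?_, rfl⟩
      rw [Set.Finite.mem_toFinset]
      refine ⟨h4 ▸ Subgroup.mem_sup_left (Subgroup.mem_zpowers x), fun hxN => hcN ?_⟩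
      have : M ≤ N := h4 ▸ sup_le (Subgroup.zpowers_le.mpr hxN) le_sup_right
      exact this (Subgroup.mem_sup_left (Subgroup.mem_zpowers c))
  have hScard : S.card = Fib.card * (p ^ (s - 1) * (p - 1)) := by
    rw [← hSimg, Finset.card_eq_sum_card_image (fun x => Subgroup.zpowers x) S]
    refine Finset.sum_const_nat fun C' hC' => ?_
    obtain ⟨x, hx, rfl⟩ := Finset.mem_image.mp hC'
    rw [Set.Finite.mem_toFinset] at hx
    obtain ⟨h1, -, h3⟩ := hgood x hx.1 hx.2
    rw [← Nat.totient_prime_pow hpp (show 0 < s by omega), ← h1, ← ncard_generators x,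
      Set.ncard_eq_toFinset_card _ (Set.toFinite _)]
    congr 1
    ext y
    simp only [Finset.mem_filter, S, Set.Finite.mem_toFinset, Set.mem_ofPred_eq]
    refine ⟨fun h => h.2, fun h => ⟨⟨?_, fun hyN => hx.2 ?_⟩, h⟩⟩
    · exact Subgroup.zpowers_le.mpr hx.1 (h ▸ Subgroup.mem_zpowers y)
    · exact Subgroup.zpowers_le.mpr hyN (h.symm ▸ Subgroup.mem_zpowers x)
  have hCE : Subgroup.zpowers c ⊓ E = D ⊓ E :=
    le_antisymm (fun x hx => ⟨hsmall x hx.1 (hE.2 x hx.2), hx.2⟩) (inf_le_inf_right E hDC)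
  have hMN : Nat.card M = p * Nat.card N := by
    have h1 := SZ.card_sup_mul_card_inf (Subgroup.zpowers c) E
    have h2 := SZ.card_sup_mul_card_inf D E
    rw [hCE, Nat.card_zpowers, hCcard] at h1
    rw [hDc] at h2
    refine Nat.eq_of_mul_eq_mul_right (Nat.card_pos (α := (D ⊓ E : Subgroup P))) ?_
    rw [hMdef, h1, mul_assoc, hN, h2, ← mul_assoc, ← pow_succ', ← hsucc]
  have hSc : S.card = Nat.card M - Nat.card N := by
    rw [← Set.ncard_eq_toFinset_card _ (Set.toFinite _)]
    exact Set.ncard_sdiff (show (N : Set P) ⊆ (M : Set P) from hNM) (Set.toFinite _)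
  have hNcard : p ^ s ∣ Nat.card N := by
    have h2 := SZ.card_sup_mul_card_inf D E
    rw [hDc, hEc, ← pow_add] at h2
    have hle : Nat.card (D ⊓ E : Subgroup P) ∣ p := by
      haveI : IsCyclic (D ⊓ E : Subgroup P) := Subgroup.isCyclic_of_le (inf_le_left.trans hDC)
      rw [← IsCyclic.exponent_eq_card]
      exact Monoid.exponent_dvd_of_forall_pow_eq_one fun x => Subtype.ext (hE.2 _ x.2.2)
    obtain ⟨k, hk⟩ := hle
    refine ⟨k, Nat.eq_of_mul_eq_mul_right (Nat.card_pos (α := (D ⊓ E : Subgroup P))) ?_⟩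
    rw [hN, h2, mul_assoc, mul_comm k, ← hk, ← pow_succ]
    congr 1
    omega
  obtain ⟨k, hk⟩ := hNcard
  refine ⟨k, ?_⟩
  rw [hScard, hMN, hk, ← Nat.sub_one_mul] at hSc
  have h3 : (p - 1) * p ^ (s - 1) * Fib.card = (p - 1) * p ^ (s - 1) * (p * k) := by
    calc (p - 1) * p ^ (s - 1) * Fib.card = Fib.card * (p ^ (s - 1) * (p - 1)) := by ring
      _ = (p - 1) * (p ^ ((s - 1) + 1) * k) := by rw [hSc, ← hsucc]
      _ = (p - 1) * p ^ (s - 1) * (p * k) := by ring
  exact Nat.eq_of_mul_eq_mul_left (Nat.mul_pos (by have := hpp.two_le; omega) (pow_pos hpp.pos _)) h3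

/-- If a Sylow `p`-subgroup is noncyclic, `p` odd and `s ≥ 2`, then `p ^ s` divides the number of
elements of order `p ^ s`. -/
theorem pow_dvd_card_orderOf (hp2 : p ≠ 2) (P : Sylow p G) (hnc : ¬ IsCyclic (P : Subgroup G)) {s : ℕ}
    (hs : 2 ≤ s) : p ^ s ∣ Nat.card {g : G // orderOf g = p ^ s} := by
  classical
  have hpp := hp.out
  let S : Finset G := (Set.toFinite {g : G | orderOf g = p ^ s}).toFinset
  have hcardS : Nat.card {g : G // orderOf g = p ^ s} = S.card := by
    rw [← Set.ncard_eq_toFinset_card _ (Set.toFinite _), ← Nat.card_coe_set_eq]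
    rfl
  let Cyc : Set (Subgroup G) := {C | IsCyclic C ∧ Nat.card C = p ^ s}
  have hsum : S.card = Cyc.ncard * (p ^ (s - 1) * (p - 1)) := by
    have himg : S.image (fun x => Subgroup.zpowers x) = (Set.toFinite Cyc).toFinset := by
      ext C
      simp only [Finset.mem_image, S, Set.Finite.mem_toFinset, Set.mem_ofPred_eq, Cyc]
      constructor
      · rintro ⟨x, hx, rfl⟩; exact ⟨inferInstance, by rw [Nat.card_zpowers, hx]⟩
      · rintro ⟨h1, h2⟩
        obtain ⟨x, hx⟩ := C.isCyclic_iff_exists_zpowers_eq_top.mp h1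
        exact ⟨x, by rw [← Nat.card_zpowers, hx, h2], hx⟩
    rw [Set.ncard_eq_toFinset_card _ (Set.toFinite Cyc), ← himg,
      Finset.card_eq_sum_card_image (fun x => Subgroup.zpowers x) S]
    refine Finset.sum_const_nat fun C hC => ?_
    obtain ⟨x, hx, rfl⟩ := Finset.mem_image.mp hC
    rw [Set.Finite.mem_toFinset] at hx
    rw [← Nat.totient_prime_pow hpp (show 0 < s by omega), ← (show orderOf x = p ^ s from hx),
      ← ncard_generators x, Set.ncard_eq_toFinset_card _ (Set.toFinite _)]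
    congr 1
    ext y
    simp only [Finset.mem_filter, S, Set.Finite.mem_toFinset, Set.mem_ofPred_eq]
    refine ⟨fun h => h.2, fun h => ⟨?_, h⟩⟩
    rw [← Nat.card_zpowers, h, Nat.card_zpowers]; exact hx
  -- fixed points of the Sylow subgroup
  have hmem : ∀ (x : P) (C : Subgroup G), C ∈ Cyc → C.map (MulAut.conj (x : G)).toMonoidHom ∈ Cyc := by
    intro x C hC
    have e := C.equivMapOfInjective (MulAut.conj (x : G)).toMonoidHom (MulAut.conj (x : G)).injective
    exact ⟨e.isCyclic.mp hC.1, by rw [← Nat.card_congr e.toEquiv]; exact hC.2⟩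
  letI : MulAction (P : Subgroup G) Cyc :=
    { smul := fun x C => ⟨C.1.map (MulAut.conj (x : G)).toMonoidHom, hmem x C.1 C.2⟩
      one_smul := fun C => Subtype.ext (by
        show C.1.map (MulAut.conj ((1 : (P : Subgroup G)) : G)).toMonoidHom = C.1
        ext z; simp)
      mul_smul := fun x y C => Subtype.ext (by
        show C.1.map (MulAut.conj ((x * y : (P : Subgroup G)) : G)).toMonoidHom =
          (C.1.map (MulAut.conj (y : G)).toMonoidHom).map (MulAut.conj (x : G)).toMonoidHom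
        rw [Subgroup.map_map]; congr 1; ext z; simp [mul_assoc]) }
  have hmod := P.isPGroup'.card_modEq_card_fixedPoints Cyc
  have hfix : Nat.card (MulAction.fixedPoints (P : Subgroup G) Cyc) =
      {C : Subgroup (P : Subgroup G) | C.Normal ∧ IsCyclic C ∧ Nat.card C = p ^ s}.ncard := by
    rw [← Nat.card_coe_set_eq]
    have hle : ∀ C : MulAction.fixedPoints (P : Subgroup G) Cyc, (C.1 : Subgroup G) ≤ (P : Subgroup G) := by
      intro C
      have hn : (P : Subgroup G) ≤ Subgroup.normalizer ((C.1 : Subgroup G) : Set G) := fun x hx => by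
        rw [Subgroup.mem_normalizer_iff_map_conj_eq]
        exact congrArg Subtype.val (C.2 ⟨x, hx⟩)
      have hpg : IsPGroup p ↥((C.1 : Subgroup G) ⊔ (P : Subgroup G)) := by
        rw [sup_comm]
        exact P.isPGroup'.to_sup_of_normal_right' (IsPGroup.of_card (C.1.2.2)) hn
      exact le_sup_left.trans (P.is_maximal' hpg le_sup_right).le
    refine Nat.card_congr
      { toFun := fun C => ⟨(C.1 : Subgroup G).subgroupOf (P : Subgroup G), ⟨?_, ?_, ?_⟩⟩
        invFun := fun C => ⟨⟨C.1.map (P : Subgroup G).subtype, ?_⟩, ?_⟩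
        left_inv := fun C => Subtype.ext (Subtype.ext (by
          show ((C.1 : Subgroup G).subgroupOf (P : Subgroup G)).map (P : Subgroup G).subtype = C.1
          rw [Subgroup.subgroupOf_map_subtype, inf_eq_left.mpr (hle C)]))
        right_inv := fun C => Subtype.ext (Subgroup.comap_map_eq_self_of_injective (P : Subgroup G).subtype_injective _) }
    · refine ⟨fun z hz x => ?_⟩
      have h1 := congrArg Subtype.val (C.2 x)
      rw [Subgroup.mem_subgroupOf] at hz ⊢
      rw [← show (C.1 : Subgroup G).map (MulAut.conj (x : G)).toMonoidHom = C.1 from h1]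
      exact ⟨z, hz, rfl⟩
    · exact (Subgroup.subgroupOfEquivOfLe (hle C)).isCyclic.mpr C.1.2.1
    · rw [Nat.card_congr (Subgroup.subgroupOfEquivOfLe (hle C)).toEquiv]; exact C.1.2.2
    · have e := C.1.equivMapOfInjective _ (P : Subgroup G).subtype_injective
      exact ⟨e.isCyclic.mp C.2.2.1, by rw [← Nat.card_congr e.toEquiv]; exact C.2.2.2⟩
    · intro x
      apply Subtype.ext
      show (C.1.map (P : Subgroup G).subtype).map (MulAut.conj (x : G)).toMonoidHom = C.1.map (P : Subgroup G).subtype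
      have hn := C.2.1
      ext z
      simp only [Subgroup.mem_map, Subgroup.coe_subtype, MulEquiv.coe_toMonoidHom, MulAut.conj_apply]
      constructor
      · rintro ⟨_, ⟨y, hy, rfl⟩, rfl⟩
        exact ⟨x * y * x⁻¹, hn.conj_mem y hy x, by simp⟩
      · rintro ⟨y, hy, rfl⟩
        exact ⟨_, ⟨x⁻¹ * y * x, by simpa using hn.conj_mem y hy x⁻¹, rfl⟩, by simp [mul_assoc]⟩
  rw [hfix] at hmod
  have hdvd : p ∣ Nat.card Cyc :=
    (Nat.ModEq.dvd_iff hmod dvd_rfl).mpr (dvd_card_normal_cyclic hp2 P.isPGroup' hnc hs)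
  rw [Nat.card_coe_set_eq] at hdvd
  rw [hcardS, hsum]
  obtain ⟨k, hk⟩ := hdvd
  refine ⟨k * (p - 1), ?_⟩
  rw [hk, show s = (s - 1) + 1 by omega, pow_succ, Nat.add_sub_cancel]
  ring

end Cfsg.Agent.Lib.Elem69
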