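import Mathlib
import Cfsg.Prelude.Def_Transfer
import Cfsg.Agent.Lib.Elem69.PGroupSmall
import Cfsg.Agent.Lib.SZ.Card

/-!
# `p`-groups in which subgroups of the same order are isomorphic
-/

namespace Cfsg.Agent.Lib.Elem69

open scoped commutatorElement

variable {P : Type*} [Group P] [Finite P] {p : ℕ} [hp : Fact p.Prime]

/-- In a group of exponent `p` and order at least `p ^ 4` some subgroup of order `p ^ 3` is abelian. -/
theorem exists_abelian_cube (hP : IsPGroup p P) (hexp : ∀ x : P, x ^ p = 1)
    (hcard : p ^ 4 ≤ Nat.card P) :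
    ∃ H : Subgroup P, Nat.card H = p ^ 3 ∧ IsMulCommutative H := by
  have hpp := hp.out
  obtain ⟨E, hEn, -, hEc, z, hzE, hzc, hz⟩ := exists_normal_card_sq_le hP (⊤ : Subgroup P)
    (by rw [Subgroup.card_top]; exact le_trans (Nat.pow_le_pow_right hpp.pos (by norm_num)) hcard)
  have hEab := IsPGroup.commutative_of_card_eq_prime_sq hEc
  obtain ⟨e, heE, hez⟩ : ∃ e ∈ E, e ∉ Subgroup.zpowers z := by
    refine SetLike.exists_of_lt (lt_of_le_of_ne (Subgroup.zpowers_le.mpr hzE) fun h => ?_)
    rw [← h, Nat.card_zpowers, hz] at hEc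
    nlinarith [hpp.one_lt]
  let π := QuotientGroup.mk' E
  -- the index of the centraliser of `e` is at most `p`
  have hconj : ∀ g : P, g * e * g⁻¹ * e⁻¹ ∈ Subgroup.zpowers z := by
    intro g
    have hZn := normal_zpowers_of_mem_center hzc
    let ρ := QuotientGroup.mk' (Subgroup.zpowers z)
    have hc : Nat.card (E.map ρ) = p := by
      have h1 : Nat.card E = Nat.card (Subgroup.zpowers z) * Nat.card (E.map ρ) := by
        rw [← PSolvable.card_comap_mk', Subgroup.comap_map_eq_self]
        rw [QuotientGroup.ker_mk']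
        exact Subgroup.zpowers_le.mpr hzE
      rw [hEc, Nat.card_zpowers, hz, pow_two] at h1
      exact (Nat.eq_of_mul_eq_mul_left hpp.pos h1).symm
    have hn : (E.map ρ).Normal := hEn.map ρ (QuotientGroup.mk'_surjective _)
    obtain ⟨w, hw, hwc, hwo⟩ := exists_central_order_p (hP.to_quotient _) (E.map ρ) (by
      intro h; rw [h, Subgroup.card_bot] at hc; exact hpp.one_lt.ne hc)
    have hEw : E.map ρ = Subgroup.zpowers w := (Subgroup.eq_of_le_of_card_ge
      (Subgroup.zpowers_le.mpr hw) (by rw [hc, Nat.card_zpowers, hwo])).symm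
    have hec : (e : P ⧸ Subgroup.zpowers z) ∈ Subgroup.center (P ⧸ Subgroup.zpowers z) := by
      have : (e : P ⧸ Subgroup.zpowers z) ∈ E.map ρ := ⟨e, heE, rfl⟩
      rw [hEw] at this
      exact Subgroup.zpowers_le.mpr hwc this
    rw [← QuotientGroup.eq_one_iff]
    simp only [QuotientGroup.mk_mul, QuotientGroup.mk_inv]
    rw [Subgroup.mem_center_iff.mp hec, mul_inv_cancel_right, mul_inv_cancel]
  let C : Subgroup P := Subgroup.centralizer {e}
  have hidx : C.index ≤ p := by
    let f : P ⧸ C → Subgroup.zpowers z := Quotient.lift (fun g => ⟨g * e * g⁻¹ * e⁻¹, hconj g⟩) (by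
      intro a b hab
      have hab' : a⁻¹ * b ∈ C := QuotientGroup.leftRel_apply.mp hab
      rw [Subgroup.mem_centralizer_singleton_iff] at hab'
      apply Subtype.ext
      show a * e * a⁻¹ * e⁻¹ = b * e * b⁻¹ * e⁻¹
      congr 1
      calc a * e * a⁻¹ = a * (e * (a⁻¹ * b)) * b⁻¹ := by group
        _ = a * ((a⁻¹ * b) * e) * b⁻¹ := by rw [hab']
        _ = b * e * b⁻¹ := by group)
    have hf : Function.Injective f := by
      intro u v
      induction u using QuotientGroup.induction_on with
      | H a => induction v using QuotientGroup.induction_on with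
        | H b =>
          intro h
          have h'' := mul_right_cancel
            (show a * e * a⁻¹ * e⁻¹ = b * e * b⁻¹ * e⁻¹ from congrArg Subtype.val h)
          rw [QuotientGroup.eq, Subgroup.mem_centralizer_singleton_iff]
          calc a⁻¹ * b * e = a⁻¹ * (b * e * b⁻¹) * b := by group
            _ = a⁻¹ * (a * e * a⁻¹) * b := by rw [h'']
            _ = e * (a⁻¹ * b) := by group
    refine (Nat.card_le_card_of_injective f hf).trans ?_
    rw [Nat.card_zpowers, hz]
  have hEC : E ≤ C := fun x hx => Subgroup.mem_centralizer_singleton_iff.mpr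
    (congrArg Subtype.val (hEab ⟨x, hx⟩ ⟨e, heE⟩))
  obtain ⟨x, hxC, hxE⟩ : ∃ x ∈ C, x ∉ E := by
    refine SetLike.exists_of_lt (lt_of_le_of_ne hEC fun h => ?_)
    have h1 := C.card_mul_index
    rw [← h, hEc] at h1
    rw [← h] at hidx
    have h2 : p ^ 4 ≤ p ^ 2 * p := hcard.trans (h1 ▸ Nat.mul_le_mul_left _ hidx)
    rw [← pow_succ] at h2
    exact absurd ((Nat.pow_le_pow_iff_right hpp.one_lt).mp h2) (by norm_num)
  let H := Subgroup.closure ({z, e, x} : Set P)
  have hH : H = Subgroup.zpowers x ⊔ E := by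
    apply le_antisymm
    · rw [Subgroup.closure_le]
      rintro w (rfl | rfl | rfl)
      · exact Subgroup.mem_sup_right hzE
      · exact Subgroup.mem_sup_right heE
      · exact Subgroup.mem_sup_left (Subgroup.mem_zpowers _)
    · refine sup_le (Subgroup.zpowers_le.mpr (Subgroup.subset_closure (by simp))) ?_
      have hle : Subgroup.closure ({z, e} : Set P) ≤ E := by
        rw [Subgroup.closure_le]; rintro w (rfl | rfl) <;> assumption
      have heq : Subgroup.closure ({z, e} : Set P) = E := by
        obtain ⟨i, hi⟩ := (hP.to_subgroup (Subgroup.closure ({z, e} : Set P))).exists_card_eq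
        refine Subgroup.eq_of_le_of_card_ge hle ?_
        rw [hi, hEc]
        refine Nat.pow_le_pow_right hpp.pos ?_
        by_contra hi2
        have hlt : Subgroup.zpowers z < Subgroup.closure ({z, e} : Set P) :=
          lt_of_le_of_ne (Subgroup.zpowers_le.mpr (Subgroup.subset_closure (by simp)))
            fun h => hez (h ▸ Subgroup.subset_closure (by simp))
        refine hlt.ne (Subgroup.eq_of_le_of_card_ge hlt.le ?_)
        rw [hi, Nat.card_zpowers, hz]
        calc p ^ i ≤ p ^ 1 := Nat.pow_le_pow_right hpp.pos (by omega)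
          _ = p := pow_one p
      rw [← heq]
      exact Subgroup.closure_mono (by intro w; simp only [Set.mem_insert_iff, Set.mem_singleton_iff]; tauto)
  refine ⟨H, ?_, ?_⟩
  · have hx : orderOf x = p := orderOf_eq_prime (hexp x) fun h => hxE (h ▸ one_mem E)
    have h1 := SZ.card_sup_mul_card_inf (Subgroup.zpowers x) E
    have h2 : Nat.card (Subgroup.zpowers x ⊓ E : Subgroup P) = 1 := by
      rcases (Nat.dvd_prime hpp).mp (hx ▸ Nat.card_zpowers x ▸ Subgroup.card_dvd_of_le
        (inf_le_left : Subgroup.zpowers x ⊓ E ≤ Subgroup.zpowers x)) with h | h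
      · exact h
      · exfalso
        apply hxE
        have : Subgroup.zpowers x ⊓ E = Subgroup.zpowers x :=
          Subgroup.eq_of_le_of_card_ge inf_le_left (by rw [h, Nat.card_zpowers, hx])
        exact (this.ge (Subgroup.mem_zpowers x)).2
    rw [h2, mul_one, Nat.card_zpowers, hx, hEc, ← hH, ← pow_succ'] at h1
    exact h1
  · refine Subgroup.isMulCommutative_closure ?_
    intro a ha b hb
    simp only [Set.mem_insert_iff, Set.mem_singleton_iff] at ha hb
    have hze : z * e = e * z := (Subgroup.mem_center_iff.mp hzc e).symm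
    have hzx : z * x = x * z := (Subgroup.mem_center_iff.mp hzc x).symm
    have hxe : x * e = e * x := Subgroup.mem_centralizer_singleton_iff.mp hxC
    rcases ha with rfl | rfl | rfl <;> rcases hb with rfl | rfl | rfl <;>
      first | rfl | assumption | exact hze.symm | exact hzx.symm | exact hxe.symm

/-- A nonabelian group of exponent `p` contains a nonabelian subgroup of order `p ^ 3`. -/
theorem exists_nonabelian_cube (hP : IsPGroup p P) (hexp : ∀ x : P, x ^ p = 1)
    (hna : ¬ ∀ a b : P, a * b = b * a) :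
    ∃ H : Subgroup P, Nat.card H = p ^ 3 ∧ ¬ IsMulCommutative H := by
  have hpp := hp.out
  have := hP.isNilpotent
  -- an element of the second centre outside the centre
  have hZn : (Subgroup.center P).map (QuotientGroup.mk' (Subgroup.center P)) = ⊥ := by
    rw [Subgroup.map_eq_bot_iff, QuotientGroup.ker_mk']
  have hne : (⊤ : Subgroup (P ⧸ Subgroup.center P)) ≠ ⊥ := by
    intro h
    apply hna
    intro a b
    have : (a : P ⧸ Subgroup.center P) ∈ (⊥ : Subgroup _) := h ▸ Subgroup.mem_top _
    rw [Subgroup.mem_bot, QuotientGroup.eq_one_iff] at this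
    exact (Subgroup.mem_center_iff.mp this b).symm
  obtain ⟨w, -, hwc, hw⟩ := exists_central_order_p (hP.to_quotient _) ⊤ hne
  obtain ⟨x, rfl⟩ := QuotientGroup.mk_surjective w
  have hxZ : x ∉ Subgroup.center P := fun h => by
    rw [(QuotientGroup.eq_one_iff x).mpr h, orderOf_one] at hw
    exact hpp.one_lt.ne hw
  obtain ⟨y, hy⟩ : ∃ y, y * x ≠ x * y := by
    by_contra h
    push Not at h
    exact hxZ (Subgroup.mem_center_iff.mpr h)
  set c := y * x * y⁻¹ * x⁻¹ with hc
  have hcZ : c ∈ Subgroup.center P := by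
    rw [← QuotientGroup.eq_one_iff, hc]
    simp only [QuotientGroup.mk_mul, QuotientGroup.mk_inv]
    rw [Subgroup.mem_center_iff.mp hwc, mul_inv_cancel_right, mul_inv_cancel]
  have hc1 : c ≠ 1 := fun h => hy (by
    have : y * x * y⁻¹ = x := mul_inv_eq_one.mp h
    calc y * x = y * x * y⁻¹ * y := by group
      _ = x * y := by rw [this])
  have hco : orderOf c = p := orderOf_eq_prime (hexp c) hc1
  have hxo : orderOf x = p := orderOf_eq_prime (hexp x) fun h => hxZ (h ▸ one_mem _)
  have hCn := normal_zpowers_of_mem_center hcZ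
  let D := Subgroup.zpowers x ⊔ Subgroup.zpowers c
  have hxc : x ∉ Subgroup.zpowers c := fun h => hxZ (Subgroup.zpowers_le.mpr hcZ h)
  have hDc : Nat.card D = p ^ 2 := by
    have h1 := SZ.card_sup_mul_card_inf (Subgroup.zpowers x) (Subgroup.zpowers c)
    have h2 : Nat.card (Subgroup.zpowers x ⊓ Subgroup.zpowers c : Subgroup P) = 1 := by
      rcases (Nat.dvd_prime hpp).mp (hxo ▸ Nat.card_zpowers x ▸ Subgroup.card_dvd_of_le
        (inf_le_left : Subgroup.zpowers x ⊓ Subgroup.zpowers c ≤ Subgroup.zpowers x)) with h | h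
      · exact h
      · exfalso
        apply hxc
        have : Subgroup.zpowers x ⊓ Subgroup.zpowers c = Subgroup.zpowers x :=
          Subgroup.eq_of_le_of_card_ge inf_le_left (by rw [h, Nat.card_zpowers, hxo])
        exact (this.ge (Subgroup.mem_zpowers x)).2
    rw [h2, mul_one, Nat.card_zpowers, Nat.card_zpowers, hxo, hco, ← pow_two] at h1
    exact h1
  have hDab := IsPGroup.commutative_of_card_eq_prime_sq hDc
  -- `y` normalises `D`
  have hyT : y ∈ Subgroup.normalizer (D : Set P) := by
    rw [Subgroup.mem_normalizer_iff_map_conj_eq]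
    refine Subgroup.eq_of_le_of_card_ge ?_ (le_of_eq
      (Nat.card_congr (D.equivMapOfInjective _ (MulAut.conj y).injective).toEquiv))
    rw [show D = Subgroup.zpowers x ⊔ Subgroup.zpowers c from rfl, Subgroup.map_sup,
      MonoidHom.map_zpowers, MonoidHom.map_zpowers]
    refine sup_le (Subgroup.zpowers_le.mpr ?_) (Subgroup.zpowers_le.mpr ?_)
    · have e : y * x * y⁻¹ = c * x := by rw [hc]; group
      simp only [MulEquiv.toMonoidHom_eq_coe, MonoidHom.coe_coe, MulAut.conj_apply, e]
      exact mul_mem (Subgroup.mem_sup_right (Subgroup.mem_zpowers c))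
        (Subgroup.mem_sup_left (Subgroup.mem_zpowers x))
    · have e : y * c * y⁻¹ = c := by rw [Subgroup.mem_center_iff.mp hcZ y, mul_inv_cancel_right]
      simp only [MulEquiv.toMonoidHom_eq_coe, MonoidHom.coe_coe, MulAut.conj_apply, e]
      exact Subgroup.mem_sup_right (Subgroup.mem_zpowers c)
  set T := Subgroup.normalizer (D : Set P) with hT
  have hDT : D ≤ T := Subgroup.le_normalizer
  have hD'n : (D.subgroupOf T).Normal := Subgroup.normal_in_normalizer
  let y' : T := ⟨y, hyT⟩
  have hy1 : y ≠ 1 := fun h => hy (by rw [h, one_mul, mul_one])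
  have hyD : y ∉ D := fun h => hy
    (congrArg Subtype.val (hDab ⟨y, h⟩ ⟨x, Subgroup.mem_sup_left (Subgroup.mem_zpowers x)⟩))
  have hy'o : orderOf y' = p := by
    rw [← Subgroup.orderOf_coe]; exact orderOf_eq_prime (hexp y) hy1
  let H' := Subgroup.zpowers y' ⊔ D.subgroupOf T
  have hH'c : Nat.card H' = p ^ 3 := by
    have h1 := SZ.card_sup_mul_card_inf (Subgroup.zpowers y') (D.subgroupOf T)
    have h2 : Nat.card (Subgroup.zpowers y' ⊓ D.subgroupOf T : Subgroup T) = 1 := by
      rcases (Nat.dvd_prime hpp).mp (hy'o ▸ Nat.card_zpowers y' ▸ Subgroup.card_dvd_of_le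
        (inf_le_left : Subgroup.zpowers y' ⊓ D.subgroupOf T ≤ Subgroup.zpowers y')) with h | h
      · exact h
      · exfalso
        apply hyD
        have : Subgroup.zpowers y' ⊓ D.subgroupOf T = Subgroup.zpowers y' :=
          Subgroup.eq_of_le_of_card_ge inf_le_left (by rw [h, Nat.card_zpowers, hy'o])
        exact Subgroup.mem_subgroupOf.mp (this.ge (Subgroup.mem_zpowers y')).2
    rw [h2, mul_one, Nat.card_zpowers, hy'o, SZ.card_subgroupOf hDT, hDc, ← pow_succ'] at h1
    exact h1
  refine ⟨H'.map T.subtype, ?_, fun hcm => ?_⟩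
  · rw [← hH'c]
    exact (Nat.card_congr (H'.equivMapOfInjective _ T.subtype_injective).toEquiv).symm
  · have hxH : x ∈ H'.map T.subtype :=
      ⟨⟨x, hDT (Subgroup.mem_sup_left (Subgroup.mem_zpowers x))⟩,
        Subgroup.mem_sup_right (Subgroup.mem_subgroupOf.mpr (Subgroup.mem_sup_left (Subgroup.mem_zpowers x))), rfl⟩
    have hyH : y ∈ H'.map T.subtype := ⟨y', Subgroup.mem_sup_left (Subgroup.mem_zpowers y'), rfl⟩
    exact hy (congrArg Subtype.val (hcm.is_comm.comm ⟨y, hyH⟩ ⟨x, hxH⟩))

/-- A `p`-group in which subgroups of the same order are isomorphic. -/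
theorem structure_of_iso (hP : IsPGroup p P)
    (hiso : ∀ H K : Subgroup P, Nat.card H = Nat.card K → Nonempty (H ≃* K)) :
    IsCyclic P ∨ ((∀ x : P, x ^ p = 1) ∧ ∀ a b : P, a * b = b * a) ∨
      (p = 2 ∧ Nonempty (P ≃* QuaternionGroup 2)) ∨
      (p ≠ 2 ∧ (¬ ∀ a b : P, a * b = b * a) ∧ Nat.card P = p ^ 3 ∧ ∀ x : P, x ^ p = 1) := by
  classical
  have hpp := hp.out
  by_cases hcyc : IsCyclic P
  · exact Or.inl hcyc
  right
  by_cases hE : ∃ E : Subgroup P, Nat.card E = p ^ 2 ∧ ∀ x ∈ E, x ^ p = 1
  · obtain ⟨E, hEc, hEe⟩ := hE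
    have hexp : ∀ x : P, x ^ p = 1 := by
      intro x
      obtain ⟨k, hk⟩ := IsPGroup.iff_orderOf.mp hP x
      rcases Nat.lt_or_ge k 2 with h | h
      · exact orderOf_dvd_iff_pow_eq_one.mp (hk ▸ (pow_dvd_pow p (show k ≤ 1 by omega)).trans (by rw [pow_one]))
      · exfalso
        have hy : orderOf (x ^ p ^ (k - 2)) = p ^ 2 := by
          rw [orderOf_pow_of_dvd (pow_ne_zero _ hpp.ne_zero) (by rw [hk]; exact pow_dvd_pow p (Nat.sub_le k 2)),
            hk, Nat.pow_div (Nat.sub_le k 2) hpp.pos, show k - (k - 2) = 2 by omega]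
        obtain ⟨φ⟩ := hiso (Subgroup.zpowers (x ^ p ^ (k - 2))) E (by rw [Nat.card_zpowers, hy, hEc])
        have hcE : IsCyclic E := φ.isCyclic.mp inferInstance
        obtain ⟨g, hg⟩ := IsCyclic.exists_ofOrder_eq_natCard (α := E)
        have h1 : orderOf g ∣ p := orderOf_dvd_of_pow_eq_one (Subtype.ext (by rw [Subgroup.coe_pow]; exact hEe g g.2))
        rw [hg, hEc] at h1
        exact absurd (Nat.le_of_dvd hpp.pos h1) (not_le.mpr (lt_self_pow₀ hpp.one_lt one_lt_two))
    by_cases hab : ∀ a b : P, a * b = b * a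
    · exact Or.inl ⟨hexp, hab⟩
    right; right
    have hp2 : p ≠ 2 := by
      intro h2
      apply hab
      intro a b
      have hs : ∀ w : P, w⁻¹ = w := fun w => inv_eq_of_mul_eq_one_right (by
        have := hexp w; rw [h2, pow_two] at this; exact this)
      calc a * b = (a * b)⁻¹ := (hs _).symm
        _ = b * a := by rw [mul_inv_rev, hs, hs]
    refine ⟨hp2, hab, ?_, hexp⟩
    obtain ⟨N, hNc, hNna⟩ := exists_nonabelian_cube hP hexp hab
    obtain ⟨n, hn⟩ := hP.exists_card_eq
    rcases lt_trichotomy n 3 with h | h | h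
    · have := (Subgroup.card_le_card_group N)
      rw [hNc, hn, Nat.pow_le_pow_iff_right hpp.one_lt] at this
      omega
    · rw [hn, h]
    · exfalso
      obtain ⟨A, hAc, hAab⟩ := exists_abelian_cube hP hexp
        (by rw [hn]; exact Nat.pow_le_pow_right hpp.pos h)
      obtain ⟨φ⟩ := hiso A N (hAc.trans hNc.symm)
      exact hNna ⟨⟨fun a b => by
        obtain ⟨a, rfl⟩ := φ.surjective a
        obtain ⟨b, rfl⟩ := φ.surjective b
        rw [← map_mul, ← map_mul, hAab.is_comm.comm a b]⟩⟩
  · right; left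
    have hp2 : p = 2 := by
      by_contra h
      obtain ⟨N, -, hN, hNc, -⟩ := exists_normal_elementary_sq h hP hcyc
      exact hE ⟨N, hNc, hN.2⟩
    subst hp2
    refine ⟨rfl, ?_⟩
    obtain ⟨z, -, hzc, hz⟩ : ∃ z ∈ (⊤ : Subgroup P), z ∈ Subgroup.center P ∧ orderOf z = 2 :=
      exists_central_order_p hP ⊤ (by
        intro h
        apply hcyc
        have : Subsingleton (Subgroup P) := subsingleton_of_bot_eq_top h.symm
        have := Subgroup.subsingleton_iff.mp this
        infer_instance)
    have huniq : ∀ x : P, x * x = 1 → x = 1 ∨ x = z := by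
      intro x hx
      by_contra hne
      push Not at hne
      apply hE
      have hzz : z * z = 1 := by rw [← pow_two, ← hz]; exact pow_orderOf_eq_one z
      have hcomm : x * z = z * x := Subgroup.mem_center_iff.mp hzc x
      have hxo : orderOf x = 2 := orderOf_eq_prime (by rw [pow_two, hx]) hne.1
      let E : Subgroup P := Subgroup.zpowers x ⊔ Subgroup.zpowers z
      have hzn := normal_zpowers_of_mem_center hzc
      refine ⟨E, ?_, ?_⟩
      · have h1 := SZ.card_sup_mul_card_inf (Subgroup.zpowers x) (Subgroup.zpowers z)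
        have h2 : Nat.card (Subgroup.zpowers x ⊓ Subgroup.zpowers z : Subgroup P) = 1 := by
          rcases (Nat.dvd_prime Nat.prime_two).mp (hxo ▸ Nat.card_zpowers x ▸ Subgroup.card_dvd_of_le
            (inf_le_left : Subgroup.zpowers x ⊓ Subgroup.zpowers z ≤ Subgroup.zpowers x)) with h | h
          · exact h
          · exfalso
            have : Subgroup.zpowers x ⊓ Subgroup.zpowers z = Subgroup.zpowers x :=
              Subgroup.eq_of_le_of_card_ge inf_le_left (by rw [h, Nat.card_zpowers, hxo])
            obtain ⟨k, hk⟩ := (this.ge (Subgroup.mem_zpowers x)).2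
            obtain ⟨m, rfl | rfl⟩ := Int.even_or_odd' k
            · apply hne.1; rw [← hk]; simp only [zpow_mul, zpow_two, hzz, one_zpow]
            · apply hne.2; rw [← hk]; simp only [zpow_add, zpow_mul, zpow_two, hzz, one_zpow, one_mul, zpow_one]
        rw [h2, mul_one, Nat.card_zpowers, Nat.card_zpowers, hxo, hz] at h1
        exact h1
      · intro w hw
        obtain ⟨u, ⟨i, rfl⟩, v, ⟨j, rfl⟩, rfl⟩ := Subgroup.mem_sup_of_normal_right.mp hw
        rw [(Commute.zpow_zpow (show Commute x z from hcomm) i j).mul_pow, ← zpow_natCast, ← zpow_mul,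
          mul_comm i, zpow_mul, zpow_natCast, pow_two, hx, one_zpow, one_mul, ← zpow_natCast, ← zpow_mul,
          mul_comm j, zpow_mul, zpow_natCast, pow_two, hzz, one_zpow]
    exact (isCyclic_or_quaternion hP hiso huniq).resolve_left hcyc

end Cfsg.Agent.Lib.Elem69
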