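import Mathlib

/-!
# Weights of a finite abelian subgroup of a linear group
-/

namespace Cfsg.Agent.Lib.Elem69

open Module

variable {K V P : Type*} [Field K] [AddCommGroup V] [Module K V] [Group P]

/-- The common generalised eigenspace of `A` for the function `χ`. -/
noncomputable def weightSpace (ρ : P →* Module.End K V) (A : Subgroup P) (χ : A → K) :
    Submodule K V :=
  ⨅ a : A, (ρ a).maxGenEigenspace (χ a)

/-- The weights of `A`. -/
def weightSet (ρ : P →* Module.End K V) (A : Subgroup P) : Set (A → K) :=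
  {χ | weightSpace ρ A χ ≠ ⊥}

theorem pow_sub_apply_eq_zero {X Y : Module.End K V} (h : Commute X Y) {i j : ℕ} {v : V}
    (hX : (X ^ i) v = 0) (hY : (Y ^ j) v = 0) : ((X - Y) ^ (i + j)) v = 0 := by
  rw [sub_eq_add_neg, h.neg_right.add_pow, LinearMap.sum_apply]
  refine Finset.sum_eq_zero fun m hm => ?_
  have hzero : ∀ l, ((X ^ m) * (-Y) ^ l) v = 0 → ((X ^ m) * (-Y) ^ l * (((i + j).choose m : ℕ) : Module.End K V)) v = 0 := by
    intro l hl
    rw [(Nat.cast_commute ((i + j).choose m) ((X ^ m) * (-Y) ^ l)).symm.eq, Module.End.mul_apply, hl, map_zero]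
  refine hzero _ ?_
  have hc : Commute (X ^ m) ((-Y) ^ (i + j - m)) := (h.neg_right).pow_pow _ _
  rcases le_or_gt i m with hm' | hm'
  · rw [hc.eq, ← Nat.sub_add_cancel hm', pow_add, ← mul_assoc, Module.End.mul_apply, hX, map_zero]
  · have hj : j ≤ i + j - m := by omega
    have hY' : ((-Y) ^ j) v = 0 := by rw [neg_pow, Module.End.mul_apply, hY, map_zero]
    rw [Module.End.mul_apply, ← Nat.sub_add_cancel hj, pow_add, Module.End.mul_apply, hY', map_zero,
      map_zero]

variable [FiniteDimensional K V]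

theorem isNilpotent_of_forall_exists (N : Module.End K V) (h : ∀ v, ∃ k : ℕ, (N ^ k) v = 0) :
    IsNilpotent N := by
  refine ⟨N.maxGenEigenspaceIndex 0, LinearMap.ext fun v => ?_⟩
  have hv : v ∈ N.maxGenEigenspace 0 := by
    rw [Module.End.mem_maxGenEigenspace]; simpa using h v
  rw [Module.End.maxGenEigenspace_eq, Module.End.mem_genEigenspace_nat] at hv
  simpa using hv

theorem eq_of_isNilpotent_sub {X Y : Module.End K V} (h : Commute X Y) (hN : IsNilpotent (X - Y))
    {m : ℕ} (hm : 0 < m) (hmK : (m : K) ≠ 0) (hX : X ^ m = 1) (hY : Y ^ m = 1) : X = Y := by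
  set S := ∑ i ∈ Finset.range m, X ^ i * Y ^ (m - 1 - i) with hS
  have h0 : S * (X - Y) = 0 := by rw [hS, h.geom_sum₂_mul, hX, hY, sub_self]
  have hsum : S = (∑ i ∈ Finset.range m, (X ^ i - Y ^ i) * Y ^ (m - 1 - i)) + (m : Module.End K V) * Y ^ (m - 1) := by
    have : ∀ i ∈ Finset.range m, X ^ i * Y ^ (m - 1 - i) =
        (X ^ i - Y ^ i) * Y ^ (m - 1 - i) + Y ^ (m - 1) := by
      intro i hi
      rw [Finset.mem_range] at hi
      rw [sub_mul, ← pow_add, Nat.add_sub_cancel' (by omega : i ≤ m - 1)]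
      abel
    rw [hS, Finset.sum_congr rfl this, Finset.sum_add_distrib, Finset.sum_const, Finset.card_range,
      nsmul_eq_mul]
  set R := ∑ i ∈ Finset.range m, (X ^ i - Y ^ i) * Y ^ (m - 1 - i) with hR
  have hR' : R = (X - Y) * (∑ i ∈ Finset.range m, (∑ l ∈ Finset.range i, X ^ l * Y ^ (i - 1 - l)) * Y ^ (m - 1 - i)) := by
    rw [hR, Finset.mul_sum]
    refine Finset.sum_congr rfl fun i _ => ?_
    rw [← h.mul_geom_sum₂, mul_assoc]
  have hcX : ∀ {Z : Module.End K V}, Commute Z X → Commute Z Y → Commute Z (X - Y) :=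
    fun h1 h2 => h1.sub_right h2
  have hT : Commute (X - Y) (∑ i ∈ Finset.range m, (∑ l ∈ Finset.range i, X ^ l * Y ^ (i - 1 - l)) * Y ^ (m - 1 - i)) := by
    refine Commute.sum_right _ _ _ fun i _ => ?_
    refine Commute.mul_right (Commute.sum_right _ _ _ fun l _ => ?_) ?_
    · exact Commute.mul_right ((hcX ((Commute.refl X).pow_left l) (h.pow_left l)).symm)
        ((hcX ((h.symm).pow_left _) ((Commute.refl Y).pow_left _)).symm)
    · exact (hcX ((h.symm).pow_left _) ((Commute.refl Y).pow_left _)).symm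
  have hRn : IsNilpotent R := by rw [hR']; exact hT.isNilpotent_mul_right hN
  have hu : IsUnit ((m : Module.End K V) * Y ^ (m - 1)) := by
    refine IsUnit.mul ?_ ((IsUnit.of_pow_eq_one hY hm.ne').pow _)
    rw [← map_natCast (algebraMap K (Module.End K V))]
    exact (Ne.isUnit hmK).map _
  have hcomm : Commute R ((m : Module.End K V) * Y ^ (m - 1)) := by
    refine Commute.sum_left _ _ _ fun i _ => ?_
    refine Commute.mul_left (Commute.mul_right (Nat.cast_commute m _).symm ?_) (Commute.mul_right (Nat.cast_commute m _).symm ((Commute.refl Y).pow_pow _ _))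
    exact Commute.sub_left (h.pow_pow _ _) ((Commute.refl Y).pow_pow _ _)
  have hSu : IsUnit S := by rw [hsum]; exact hRn.isUnit_add_right_of_commute hu hcomm
  exact sub_eq_zero.mp (hSu.mul_right_eq_zero.mp h0)

variable [IsAlgClosed K] {ρ : P →* Module.End K V} {A : Subgroup P}

theorem mapsTo_weight (hA : ∀ a ∈ A, ∀ b ∈ A, a * b = b * a) (i j : A) (φ : K) :
    Set.MapsTo (ρ i) ((ρ j).maxGenEigenspace φ) ((ρ j).maxGenEigenspace φ) :=
  Module.End.mapsTo_maxGenEigenspace_of_comm
    ((show Commute (j : P) (i : P) from hA _ j.2 _ i.2).map ρ) φ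

theorem iSup_weightSpace (hA : ∀ a ∈ A, ∀ b ∈ A, a * b = b * a) :
    ⨆ χ, weightSpace ρ A χ = ⊤ :=
  Module.End.iSup_iInf_maxGenEigenspace_eq_top_of_forall_mapsTo (fun a : A => ρ a)
    (fun i j φ => mapsTo_weight hA i j φ) fun _ => Module.End.iSup_maxGenEigenspace_eq_top _

theorem finite_weightSet (hA : ∀ a ∈ A, ∀ b ∈ A, a * b = b * a) :
    (weightSet ρ A).Finite ∧ (weightSet ρ A).ncard ≤ finrank K V := by
  have hind : iSupIndep (weightSpace ρ A) :=
    Module.End.independent_iInf_maxGenEigenspace_of_forall_mapsTo (fun a : A => ρ a)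
      fun i j φ => mapsTo_weight hA i j φ
  letI := hind.fintypeNeBotOfFiniteDimensional
  have hfin : Finite (weightSet ρ A) := Finite.of_fintype {χ // weightSpace ρ A χ ≠ ⊥}
  refine ⟨Set.toFinite _, ?_⟩
  rw [← Nat.card_coe_set_eq]
  show Nat.card {χ // weightSpace ρ A χ ≠ ⊥} ≤ _
  rw [Nat.card_eq_fintype_card]
  exact hind.subtype_ne_bot_le_finrank

variable (A) in
/-- Conjugation of a function on a normal subgroup. -/
def conjFn [A.Normal] (g : P) (χ : A → K) : A → K :=
  fun a => χ (MulAut.conjNormal g⁻¹ a)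

omit [IsAlgClosed K] [FiniteDimensional K V] in
theorem conjFn_mem [A.Normal] (g : P) {χ : A → K} (h : χ ∈ weightSet ρ A) :
    conjFn A g χ ∈ weightSet ρ A := by
  obtain ⟨v, hv, hv0⟩ := Submodule.exists_mem_ne_zero_of_ne_bot h
  refine fun hb => hv0 ?_
  have hg : ρ g v ∈ weightSpace ρ A (conjFn A g χ) := by
    simp only [weightSpace, Submodule.mem_iInf, Module.End.mem_maxGenEigenspace] at hv ⊢
    intro a
    obtain ⟨k, hk⟩ := hv (MulAut.conjNormal g⁻¹ a)
    refine ⟨k, ?_⟩
    have hsc : SemiconjBy (ρ g) (ρ (MulAut.conjNormal g⁻¹ a : A) - conjFn A g χ a • 1)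
        (ρ (a : P) - conjFn A g χ a • 1) := by
      refine SemiconjBy.sub_right ?_ ?_
      · show ρ g * _ = _ * ρ g
        rw [← map_mul, ← map_mul, MulAut.conjNormal_apply]
        congr 1; group
      · show ρ g * _ = _ * ρ g
        rw [mul_smul_comm, smul_mul_assoc, mul_one, one_mul]
    have := congrArg (fun f : Module.End K V => f v) (hsc.pow_right k)
    simp only [Module.End.mul_apply] at this
    rw [← this]
    show ρ g (((ρ _ - χ (MulAut.conjNormal g⁻¹ a) • 1) ^ k) v) = 0
    rw [hk, map_zero]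
  rw [hb, Submodule.mem_bot] at hg
  have := congrArg (fun w => ρ g⁻¹ w) hg
  simpa [← Module.End.mul_apply, ← map_mul] using this

/-- Conjugation invariance of all weights means centralising, in characteristic prime to the order. -/
theorem mem_centralizer_of_weights [A.Normal] [Finite P] (hA : ∀ a ∈ A, ∀ b ∈ A, a * b = b * a)
    (hρ : Function.Injective ρ) (hcard : (Nat.card P : K) ≠ 0) (g : P)
    (h : ∀ χ ∈ weightSet ρ A, conjFn A g χ = χ) : g ∈ Subgroup.centralizer (A : Set P) := by
  rw [Subgroup.mem_centralizer_iff]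
  intro b hb
  set a : A := MulAut.conjNormal g ⟨b, hb⟩ with ha
  have hab : MulAut.conjNormal g⁻¹ a = ⟨b, hb⟩ := by
    rw [ha, map_inv, MulAut.inv_apply_self]
  have hXY : ρ (a : P) = ρ b := by
    refine eq_of_isNilpotent_sub ((show Commute (a : P) b from hA _ a.2 _ hb).map ρ) ?_
      Nat.card_pos hcard (by rw [← map_pow, pow_card_eq_one', map_one])
      (by rw [← map_pow, pow_card_eq_one', map_one])
    refine isNilpotent_of_forall_exists _ fun v => ?_
    have hv : v ∈ (ρ (a : P) - ρ b).maxGenEigenspace 0 := by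
      have htop : (⊤ : Submodule K V) ≤ (ρ (a : P) - ρ b).maxGenEigenspace 0 := by
        rw [← iSup_weightSpace (ρ := ρ) hA, iSup_le_iff]
        intro χ
        by_cases hχ : weightSpace ρ A χ = ⊥
        · rw [hχ]; exact bot_le
        intro w hw
        simp only [weightSpace, Submodule.mem_iInf, Module.End.mem_maxGenEigenspace] at hw ⊢
        obtain ⟨i, hi⟩ := hw a
        obtain ⟨j, hj⟩ := hw ⟨b, hb⟩
        have heq : χ a = χ ⟨b, hb⟩ := by
          have := congrFun (h χ hχ) a
          simp only [conjFn, hab] at this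
          exact this.symm
        refine ⟨i + j, ?_⟩
        have hc : Commute (ρ (a : P) - χ a • 1) (ρ b - χ a • (1 : Module.End K V)) :=
          (((show Commute (a : P) b from hA _ a.2 _ hb).map ρ).sub_right
            ((Commute.one_right _).smul_right _)).sub_left ((Commute.one_left _).smul_left _)
        have := pow_sub_apply_eq_zero hc hi (heq ▸ hj)
        rw [sub_sub_sub_cancel_right] at this
        simpa using this
      exact htop Submodule.mem_top
    simpa [Module.End.mem_maxGenEigenspace] using hv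
  have h2 : (a : P) = b := hρ hXY
  rw [ha, MulAut.conjNormal_apply] at h2
  calc b * g = g * b * g⁻¹ * g := by rw [h2]
    _ = g * b := by group

omit [FiniteDimensional K V] [IsAlgClosed K] in
theorem weight_pow_orderOf {χ : A → K} (h : χ ∈ weightSet ρ A) (a : A) :
    χ a ^ orderOf (a : P) = 1 := by
  obtain ⟨v, hv, hv0⟩ := Submodule.exists_mem_ne_zero_of_ne_bot h
  simp only [weightSpace, Submodule.mem_iInf, Module.End.mem_maxGenEigenspace] at hv
  obtain ⟨k, hk⟩ := hv a
  have hgen : (ρ (a : P)).HasGenEigenvalue (χ a) k := by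
    intro hb
    have hvk : v ∈ (ρ (a : P)).genEigenspace (χ a) k := by
      rw [Module.End.mem_genEigenspace_nat, LinearMap.mem_ker]; exact hk
    rw [hb, Submodule.mem_bot] at hvk
    exact hv0 hvk
  obtain ⟨u, hu⟩ := (Module.End.hasEigenvalue_of_hasGenEigenvalue hgen).exists_hasEigenvector
  have h1 := hu.pow_apply (orderOf (a : P))
  rw [← map_pow, pow_orderOf_eq_one, map_one, Module.End.one_apply] at h1
  have h2 : (χ a ^ orderOf (a : P) - 1) • u = 0 := by rw [sub_smul, ← h1, one_smul, sub_self]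
  exact sub_eq_zero.mp ((smul_eq_zero.mp h2).resolve_right hu.2)

end Cfsg.Agent.Lib.Elem69
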