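import Mathlib
import Cfsg.Agent.Lib.Core.Nilpotent
import Cfsg.Agent.Lib.Elem69.DerivedLength
import Cfsg.Agent.Lib.Elem69.Weights

/-!
# Derived length of linear `p`-groups in characteristic prime to `p`
-/

namespace Cfsg.Agent.Lib.Elem69

open Module

theorem exists_selfCentralizing {P : Type*} [Group P] [Finite P] {p : ℕ} [Fact p.Prime]
    (hP : IsPGroup p P) :
    ∃ A : Subgroup P, A.Normal ∧ (∀ a ∈ A, ∀ b ∈ A, a * b = b * a) ∧
      Subgroup.centralizer (A : Set P) = A := by
  obtain ⟨A, hA⟩ := (Set.toFinite {M : Subgroup P | M.Normal ∧ IsMulCommutative M}).exists_maximal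
    ⟨⊥, Subgroup.normal_bot, inferInstance⟩
  obtain ⟨hn, hc⟩ := hA.1
  have := hP.isNilpotent
  refine ⟨A, hn, fun a ha b hb => congrArg Subtype.val (hc.is_comm.comm ⟨a, ha⟩ ⟨b, hb⟩), ?_⟩
  exact Nilp.centralizer_eq_of_maximal_abelian_normal A fun M hM hMc hle =>
    le_antisymm (hA.2 ⟨hM, hMc⟩ hle) hle

theorem derivedSeries_succ_eq_bot {P : Type*} [Group P] {A : Subgroup P}
    (hA : ∀ a ∈ A, ∀ b ∈ A, a * b = b * a) {m : ℕ} (h : derivedSeries P m ≤ A) :
    derivedSeries P (m + 1) = ⊥ := by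
  rw [derivedSeries_succ, eq_bot_iff]
  refine (Subgroup.commutator_mono h h).trans (Subgroup.commutator_le.mpr fun a ha b hb => ?_)
  rw [Subgroup.mem_bot, commutatorElement_def, hA a ha b hb]
  group

section

variable {K V P : Type*} [Field K] [AddCommGroup V] [Module K V] [Group P]
  (ρ : P →* Module.End K V) (A : Subgroup P) [A.Normal]

/-- The group permutes the weights of a normal abelian subgroup. -/
@[reducible]
def weightAction : MulAction P (weightSet ρ A) where
  smul g χ := ⟨conjFn A g χ.1, conjFn_mem g χ.2⟩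
  one_smul χ := Subtype.ext (funext fun a => by
    show χ.1 (MulAut.conjNormal (1 : P)⁻¹ a) = χ.1 a
    simp)
  mul_smul g h χ := Subtype.ext (funext fun a => by
    show χ.1 (MulAut.conjNormal (g * h)⁻¹ a) = χ.1 (MulAut.conjNormal h⁻¹ (MulAut.conjNormal g⁻¹ a))
    rw [mul_inv_rev, map_mul, MulAut.mul_apply])

end

/-- In characteristic prime to `p`, a linear `p`-group of degree less than `p ^ (m + 1)` has derived
length at most `m + 1`. -/
theorem derivedSeries_eq_bot_of_coprime_char {K V P : Type*} [Field K] [IsAlgClosed K] [AddCommGroup V]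
    [Module K V] [FiniteDimensional K V] [Group P] [Finite P] {p : ℕ} [hp : Fact p.Prime]
    (hP : IsPGroup p P) (hpK : (p : K) ≠ 0) (ρ : P →* Module.End K V) (hρ : Function.Injective ρ)
    {m : ℕ} (hm : finrank K V < p ^ (m + 1)) : derivedSeries P (m + 1) = ⊥ := by
  obtain ⟨A, hAn, hA, hAC⟩ := exists_selfCentralizing hP
  refine derivedSeries_succ_eq_bot hA ?_
  intro g hg
  rw [← hAC]
  obtain ⟨k, hk⟩ := hP.exists_card_eq
  refine mem_centralizer_of_weights hA hρ (by rw [hk, Nat.cast_pow]; exact pow_ne_zero _ hpK) g ?_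
  intro χ hχ
  obtain ⟨hfin, hcard⟩ := finite_weightSet (ρ := ρ) hA
  letI := weightAction ρ A
  have := hfin.to_subtype
  have horb : (MulAction.orbit P (⟨χ, hχ⟩ : weightSet ρ A)).ncard < p ^ (m + 1) := by
    refine lt_of_le_of_lt ?_ hm
    refine le_trans ?_ hcard
    rw [← Nat.card_coe_set_eq (weightSet ρ A), ← Set.ncard_univ]
    exact Set.ncard_le_ncard (Set.subset_univ _) Set.finite_univ
  exact congrArg Subtype.val (derivedSeries_le_stabilizer m P hP _ horb hg)

end Cfsg.Agent.Lib.Elem69
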