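import Mathlib
import Cfsg.Agent.Lib.Elem69.LinearPGroup

/-!
# Derived length of Sylow subgroups of `GL(n, q)`, upper bound
-/

namespace Cfsg.Agent.Lib.Elem69

open Module

set_option maxHeartbeats 2000000 in
/-- A `p`-subgroup of `GL(n, q)`, `p ∤ q`, has derived length at most `m + 1` if `n / e < p ^ (m + 1)`,
`e` the order of `q` modulo `p`. -/
theorem derivedSeries_eq_bot_finiteField_aux {F P K : Type*} [Field F] [Fintype F] [Field K] [IsAlgClosed K]
    (i : F →+* K) [Group P] [Finite P] {p : ℕ}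
    [hp : Fact p.Prime] (hP : IsPGroup p P) {q : ℕ} (hq : Fintype.card F = q) (hpq : ¬ p ∣ q) {n : ℕ}
    (ρ : P →* Matrix.GeneralLinearGroup (Fin n) F) (hρ : Function.Injective ρ) {m : ℕ}
    (hm : n / orderOf (q : ZMod p) < p ^ (m + 1)) : derivedSeries P (m + 1) = ⊥ := by
  classical
  have hpp : p.Prime := hp.out
  set e := orderOf (q : ZMod p) with he
  have hq0 : (q : ZMod p) ≠ 0 := fun h => hpq ((ZMod.natCast_eq_zero_iff q p).mp h)
  have hqe : (q : ZMod p) ^ e = 1 := pow_orderOf_eq_one _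
  have hep : e ∣ p - 1 := orderOf_dvd_of_pow_eq_one (ZMod.pow_card_sub_one_eq_one hq0)
  have hepos : 0 < e := Nat.pos_of_dvd_of_pos hep (by have := hpp.two_le; omega)
  have hecop : Nat.Coprime e p := by
    refine (hpp.coprime_iff_not_dvd.mpr fun h => ?_).symm
    have := Nat.le_of_dvd (by have := hpp.two_le; omega) (h.trans hep)
    have := hpp.two_le
    omega
  obtain ⟨l, hl⟩ := CharP.exists F
  obtain ⟨f, hlp, hqf⟩ := FiniteField.card F l
  haveI : Fact l.Prime := ⟨hlp⟩
  haveI : CharP K l := charP_of_injective_ringHom i.injective l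
  let φ : K →+* K := iterateFrobenius K l f
  have hφ : ∀ x : K, φ x = x ^ q := fun x => by rw [iterateFrobenius_def, ← hqf, hq]
  have hφi : ∀ x : F, φ (i x) = i x := fun x => by
    rw [hφ, ← map_pow, ← hq, FiniteField.pow_card]
  let σ : P →* Module.End K (Fin n → K) :=
    ((Matrix.toLinAlgEquiv' : Matrix (Fin n) (Fin n) K ≃ₐ[K] _).toMulEquiv.toMonoidHom).comp
      ((i.mapMatrix.toMonoidHom).comp ((Units.coeHom _).comp ρ))
  have hσ : Function.Injective σ :=
    (Matrix.toLinAlgEquiv' : Matrix (Fin n) (Fin n) K ≃ₐ[K] _).injective.comp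
      ((Matrix.map_injective i.injective).comp (Units.val_injective.comp hρ))
  have hpK : (p : K) ≠ 0 := by
    intro h
    rw [CharP.cast_eq_zero_iff K l] at h
    have := (Nat.prime_dvd_prime_iff_eq hlp hpp).mp h
    apply hpq
    rw [← hq, hqf, this]
    exact dvd_pow_self p f.ne_zero
  obtain ⟨A, hAn, hA, hAC⟩ := exists_selfCentralizing hP
  refine derivedSeries_succ_eq_bot hA ?_
  intro g hg
  rw [← hAC]
  obtain ⟨N, hN⟩ := hP.exists_card_eq
  refine mem_centralizer_of_weights hA hσ (by rw [hN, Nat.cast_pow]; exact pow_ne_zero _ hpK) g ?_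
  -- Frobenius permutes the weights
  have hS : ∀ (b : P) (c : K) (k : ℕ) (v : Fin n → K),
      ((σ b - φ c • (1 : Module.End K (Fin n → K))) ^ k) (φ ∘ v) =
        φ ∘ (((σ b - c • (1 : Module.End K (Fin n → K))) ^ k) v) := by
    intro b c k
    induction k with
    | zero => intro v; rfl
    | succ k ih =>
      intro v
      rw [pow_succ, pow_succ, Module.End.mul_apply, Module.End.mul_apply, ← ih]
      congr 1
      funext r
      have hmv : (σ b) (φ ∘ v) r = φ ((σ b) v r) := by
        show (((ρ b : Matrix (Fin n) (Fin n) F).map i).mulVec (φ ∘ v)) r =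
          φ ((((ρ b : Matrix (Fin n) (Fin n) F).map i).mulVec v) r)
        rw [RingHom.map_mulVec, Matrix.map_map]
        congr 2
        ext x y
        simp [hφi]
      simp [hmv, map_sub, map_mul]
  have hfrob : ∀ (j : ℕ) (χ : A → K), χ ∈ weightSet σ A → (fun a => χ a ^ q ^ j) ∈ weightSet σ A := by
    intro j
    induction j with
    | zero => intro χ h; simpa using h
    | succ j ih =>
      intro χ h
      have h1 : (fun a => φ (χ a)) ∈ weightSet σ A := by
        obtain ⟨v, hv, hv0⟩ := Submodule.exists_mem_ne_zero_of_ne_bot h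
        intro hb
        have hm' : (φ ∘ v) ∈ weightSpace σ A (fun a => φ (χ a)) := by
          simp only [weightSpace, Submodule.mem_iInf, Module.End.mem_maxGenEigenspace] at hv ⊢
          intro a
          obtain ⟨k, hk⟩ := hv a
          exact ⟨k, by rw [hS, hk]; funext r; simp⟩
        rw [hb, Submodule.mem_bot] at hm'
        apply hv0
        funext r
        exact φ.injective (by simpa using congrFun hm' r)
      have h2 := ih _ h1
      convert h2 using 1
      funext a
      rw [hφ, ← pow_mul, pow_succ']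
  set Qn := q ^ p ^ N with hQn
  let T : ℕ → (A → K) → (A → K) := fun r χ a => χ a ^ Qn ^ r
  have hTmem : ∀ r χ, χ ∈ weightSet σ A → T r χ ∈ weightSet σ A := fun r χ h => by
    show (fun a => χ a ^ Qn ^ r) ∈ _
    simp only [hQn, ← pow_mul]
    exact hfrob _ χ h
  have hTT : ∀ r s χ, T r (T s χ) = T (s + r) χ := fun r s χ => funext fun a => by
    show (χ a ^ Qn ^ s) ^ Qn ^ r = χ a ^ Qn ^ (s + r)
    rw [← pow_mul, ← pow_add]
  have hQmod : ∀ r, ((Qn ^ r : ℕ) : ZMod p) = (q : ZMod p) ^ r := fun r => by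
    rw [hQn, Nat.cast_pow, Nat.cast_pow, ZMod.pow_card_pow]
  have hordN : ∀ χ, χ ∈ weightSet σ A → ∀ a : A, orderOf (χ a) ∣ p ^ N := fun χ h a => by
    refine (orderOf_dvd_of_pow_eq_one (weight_pow_orderOf h a)).trans ?_
    rw [← hN]; exact orderOf_dvd_natCard _
  have hTe : ∀ χ, χ ∈ weightSet σ A → T e χ = χ := by
    intro χ h
    funext a
    show χ a ^ Qn ^ e = χ a
    have hd : ((p : ℕ) : ℤ) ^ (N + 1) ∣ ((q ^ e) ^ p ^ N : ℤ) - 1 := by
      have h1 : ((p : ℕ) : ℤ) ∣ ((q : ℤ) ^ e) - 1 := by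
        rw [← ZMod.intCast_zmod_eq_zero_iff_dvd]
        push_cast
        rw [hqe, sub_self]
      have h2 := dvd_sub_pow_of_dvd_sub (R := ℤ) h1 N
      rwa [one_pow] at h2
    have hmod : 1 ≡ Qn ^ e [MOD p ^ N] := by
      rw [Nat.modEq_iff_dvd]
      push_cast [hQn]
      rw [← pow_mul, mul_comm, pow_mul]
      exact (pow_dvd_pow _ N.le_succ).trans hd
    have h3 : Qn ^ e % orderOf (χ a) = 1 % orderOf (χ a) := Nat.ModEq.of_dvd (hordN χ h a) hmod.symm
    rw [← pow_mod_orderOf, h3, pow_mod_orderOf, pow_one]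
  have hTfix : ∀ χ, χ ∈ weightSet σ A → (∃ a, χ a ≠ 1) → ∀ r, T r χ = χ → e ∣ r := by
    intro χ h ⟨a, ha⟩ r hr
    have h1 : χ a ^ Qn ^ r = χ a ^ 1 := by rw [pow_one]; exact congrFun hr a
    have hunit : IsUnit (χ a) := IsUnit.of_pow_eq_one (weight_pow_orderOf h a) (orderOf_pos _).ne'
    obtain ⟨u, hu⟩ := hunit
    rw [← hu, ← Units.val_pow_eq_pow_val, ← Units.val_pow_eq_pow_val, Units.val_inj, pow_eq_pow_iff_modEq] at h1
    have hdu : p ∣ orderOf u := by
      have hd := hordN χ h a
      rw [← hu, orderOf_units] at hd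
      obtain ⟨t, -, ht⟩ := (Nat.dvd_prime_pow hpp).mp hd
      rcases Nat.eq_zero_or_pos t with h0 | h0
      · exfalso
        rw [h0, pow_zero, orderOf_eq_one_iff] at ht
        exact ha (by rw [← hu, ht, Units.val_one])
      · rw [ht]; exact dvd_pow_self p h0.ne'
    have h2 := (ZMod.natCast_eq_natCast_iff _ _ _).mpr (h1.of_dvd hdu)
    rw [hQmod, Nat.cast_one] at h2
    exact orderOf_dvd_of_pow_eq_one h2
  have hTmodulo : ∀ χ, χ ∈ weightSet σ A → ∀ r, T r χ = T (r % e) χ := by
    intro χ h r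
    induction r using Nat.strong_induction_on with
    | _ r ih =>
      rcases Nat.lt_or_ge r e with hlt | hge
      · rw [Nat.mod_eq_of_lt hlt]
      · rw [Nat.mod_eq_sub_mod hge, ← ih (r - e) (by omega)]
        conv_lhs => rw [show r = e + (r - e) by omega, ← hTT, hTe χ h]
  -- the nontrivial weights
  let W' : Set (A → K) := {χ | χ ∈ weightSet σ A ∧ ∃ a, χ a ≠ 1}
  let O : (A → K) → Finset (A → K) := fun χ => (Finset.range e).image fun r => T r χ
  have hTW : ∀ r χ, χ ∈ W' → T r χ ∈ W' := by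
    intro r χ h
    refine ⟨hTmem r χ h.1, ?_⟩
    by_contra hc
    push Not at hc
    obtain ⟨a, ha⟩ := h.2
    apply ha
    have h1 : T r χ = fun _ => 1 := funext hc
    have h2 := hTmodulo χ h.1 r
    have h3 : T (e - r % e) (T (r % e) χ) = χ := by
      rw [hTT, show r % e + (e - r % e) = e by have := Nat.mod_lt r hepos; omega, hTe χ h.1]
    rw [← h2, h1] at h3
    rw [← h3]
    exact one_pow _
  have hOcard : ∀ χ ∈ W', (O χ).card = e := by
    intro χ h
    rw [Finset.card_image_of_injOn, Finset.card_range]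
    have key : ∀ r s, r < e → s < e → r ≤ s → T r χ = T s χ → r = s := by
      intro r s hr hs hrs hT'
      have h1 : T (e - r) (T r χ) = T (e - r) (T s χ) := by rw [hT']
      rw [hTT, hTT, show r + (e - r) = e by omega, hTe χ h.1] at h1
      have h2 := hTfix χ h.1 h.2 _ h1.symm
      rw [show s + (e - r) = e + (s - r) by omega, Nat.dvd_add_right (dvd_refl e)] at h2
      rcases Nat.eq_zero_or_pos (s - r) with h3 | h3
      · omega
      · have := Nat.le_of_dvd h3 h2; omega
    intro r hr s hs hT'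
    simp only [Finset.coe_range, Set.mem_Iio] at hr hs
    rcases le_total r s with h' | h'
    · exact key r s hr hs h' hT'
    · exact (key s r hs hr h' hT'.symm).symm
  have hOeq : ∀ χ ∈ W', ∀ ψ ∈ O χ, O ψ = O χ := by
    intro χ h ψ hψ
    obtain ⟨r, -, rfl⟩ := Finset.mem_image.mp hψ
    refine Finset.eq_of_subset_of_card_le ?_ (by rw [hOcard χ h, hOcard _ (hTW r χ h)])
    intro θ hθ
    obtain ⟨s, -, rfl⟩ := Finset.mem_image.mp hθ
    refine Finset.mem_image.mpr ⟨(r + s) % e, Finset.mem_range.mpr (Nat.mod_lt _ hepos), ?_⟩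
    rw [hTT, ← hTmodulo χ h.1]
  have hconjW : ∀ (x : P) χ, χ ∈ W' → conjFn A x χ ∈ W' := by
    intro x χ ⟨h, a, ha⟩
    refine ⟨conjFn_mem x h, MulAut.conjNormal x a, ?_⟩
    show χ (MulAut.conjNormal x⁻¹ (MulAut.conjNormal x a)) ≠ 1
    rwa [map_inv, MulAut.inv_apply_self]
  intro χ hχ
  by_cases hnt : ∃ a, χ a ≠ 1
  swap
  · push Not at hnt
    funext a
    show χ (MulAut.conjNormal g⁻¹ a) = χ a
    rw [hnt, hnt]
  have hχW : χ ∈ W' := ⟨hχ, hnt⟩
  have hcc : ∀ (x y : P) (ψ : A → K), conjFn A x (conjFn A y ψ) = conjFn A (x * y) ψ := fun x y ψ => funext fun a => by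
    show ψ (MulAut.conjNormal y⁻¹ (MulAut.conjNormal x⁻¹ a)) = ψ (MulAut.conjNormal (x * y)⁻¹ a)
    rw [mul_inv_rev, map_mul, MulAut.mul_apply]
  have hc1 : ∀ (ψ : A → K), conjFn A (1 : P) ψ = ψ := fun ψ => funext fun a => by
    show ψ (MulAut.conjNormal (1 : P)⁻¹ a) = ψ a
    simp
  letI : MulAction P (Finset (A → K)) :=
    { smul := fun x s => s.image (conjFn A x)
      one_smul := fun s => by
        show s.image (conjFn A 1) = s
        rw [show conjFn A (1 : P) = (id : (A → K) → (A → K)) from funext hc1, Finset.image_id]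
      mul_smul := fun x y s => by
        show s.image (conjFn A (x * y)) = (s.image (conjFn A y)).image (conjFn A x)
        rw [Finset.image_image]
        exact congrArg (s.image ·) (funext fun ψ => (hcc x y ψ).symm) }
  have hsmulO : ∀ (x : P) (ψ : A → K), x • O ψ = O (conjFn A x ψ) := fun x ψ => by
    show (O ψ).image (conjFn A x) = O (conjFn A x ψ)
    simp only [O, Finset.image_image]
    rfl
  obtain ⟨hfin, hcard⟩ := finite_weightSet (ρ := σ) hA
  have hWfin : W'.Finite := hfin.subset fun ψ h => h.1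
  let S := hWfin.toFinset.image O
  have hSw : e * S.card ≤ n := by
    calc e * S.card = S.card • e := by rw [smul_eq_mul, mul_comm]
      _ ≤ ∑ s ∈ S, (hWfin.toFinset.filter fun ψ => O ψ = s).card := by
          refine Finset.card_nsmul_le_sum _ _ _ fun s hs => ?_
          obtain ⟨ψ, hψ, rfl⟩ := Finset.mem_image.mp hs
          rw [Set.Finite.mem_toFinset] at hψ
          rw [← hOcard ψ hψ]
          refine Finset.card_le_card fun θ hθ => ?_
          rw [Finset.mem_filter, Set.Finite.mem_toFinset]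
          refine ⟨?_, hOeq ψ hψ θ hθ⟩
          obtain ⟨r, -, rfl⟩ := Finset.mem_image.mp hθ
          exact hTW r ψ hψ
      _ = hWfin.toFinset.card := (Finset.card_eq_sum_card_image O _).symm
      _ = W'.ncard := (Set.ncard_eq_toFinset_card _ hWfin).symm
      _ ≤ (weightSet σ A).ncard := Set.ncard_le_ncard (fun ψ h => h.1) hfin
      _ ≤ n := hcard.trans (by rw [Module.finrank_fin_fun])
  have horb : (MulAction.orbit P (O χ)).ncard < p ^ (m + 1) := by
    refine lt_of_le_of_lt ?_ hm
    have hsub : MulAction.orbit P (O χ) ⊆ (S : Set (Finset (A → K))) := by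
      rintro _ ⟨x, rfl⟩
      show x • O χ ∈ _
      rw [hsmulO]
      exact Finset.mem_image_of_mem O (hWfin.mem_toFinset.mpr (hconjW x χ hχW))
    refine (Set.ncard_le_ncard hsub (Finset.finite_toSet S)).trans ?_
    rw [Set.ncard_coe_finset, Nat.le_div_iff_mul_le hepos, mul_comm]
    exact hSw
  have hfix : g • O χ = O χ := derivedSeries_le_stabilizer m P hP _ horb hg
  have hmem : conjFn A g χ ∈ O χ := by
    rw [← hfix, hsmulO]
    exact Finset.mem_image.mpr ⟨0, Finset.mem_range.mpr hepos, funext fun a => by simp [T]⟩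
  obtain ⟨r, hr, hgr⟩ := Finset.mem_image.mp hmem
  have hiter : ∀ t : ℕ, conjFn A (g ^ t) χ = T (t * r) χ := by
    intro t
    induction t with
    | zero => rw [pow_zero, hc1, zero_mul]; funext a; simp [T]
    | succ t ih =>
      rw [pow_succ', ← hcc, ih]
      show T (t * r) (conjFn A g χ) = _
      rw [← hgr, hTT, Nat.succ_mul, Nat.add_comm]
  have hgN : g ^ p ^ N = 1 := by rw [← hN]; exact pow_card_eq_one'
  have h1 := hiter (p ^ N)
  rw [hgN, hc1] at h1
  have h2 := hTfix χ hχ hnt _ h1.symm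
  have h3 : e ∣ r := (Nat.Coprime.pow_right N hecop).dvd_of_dvd_mul_left h2
  have h4 : r = 0 := Nat.eq_zero_of_dvd_of_lt h3 (Finset.mem_range.mp hr)
  rw [← hgr, h4]
  funext a
  simp [T]

/-- The bound, with the algebraic closure supplied. -/
theorem derivedSeries_eq_bot_finiteField {F P : Type*} [Field F] [Fintype F] [Group P] [Finite P] {p : ℕ}
    [hp : Fact p.Prime] (hP : IsPGroup p P) {q : ℕ} (hq : Fintype.card F = q) (hpq : ¬ p ∣ q) {n : ℕ}
    (ρ : P →* Matrix.GeneralLinearGroup (Fin n) F) (hρ : Function.Injective ρ) {m : ℕ}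
    (hm : n / orderOf (q : ZMod p) < p ^ (m + 1)) : derivedSeries P (m + 1) = ⊥ :=
  derivedSeries_eq_bot_finiteField_aux (algebraMap F (AlgebraicClosure F)) hP hq hpq ρ hρ hm

end Cfsg.Agent.Lib.Elem69
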