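import Mathlib
import Cfsg.Agent.Lib.Elem69.HalfTransitive

/-!
# Half-transitive actions with blocks
-/

namespace Cfsg.Agent.Lib.Elem69.Half

open scoped Classical

variable {q : ℕ} [hq : Fact q.Prime] {V : Type*} [AddCommGroup V] [Module (ZMod q) V] [Finite V] [Nontrivial V]
  {G : Type*} [Group G] [Finite G] {p : ℕ} [hp : Fact p.Prime] (ρ : G →* (V ≃ₗ[ZMod q] V))

omit [Finite V] [Nontrivial V] [Finite G] hp in
theorem app_inv_app (g : G) (v : V) : ρ g⁻¹ (ρ g v) = v := by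
  rw [← app_mul ρ, inv_mul_cancel, app_one ρ]

omit [Finite V] [Nontrivial V] [Finite G] hp in
theorem ne_zero_app (g : G) {v : V} (hv : v ≠ 0) : ρ g v ≠ 0 :=
  fun h => hv (by rw [← app_inv_app ρ g v, h, map_zero])

/-- Blocks force `p = 2` and one of the two non-semiregular possibilities. -/
theorem blocks_case (hρ : Function.Injective ρ) (hG : IsPGroup p G) (hqp : p ≠ q) (hs : EqStab ρ)
    (H : Subgroup G) (W : Fin p → Submodule (ZMod q) V) (hHi : H.index = p)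
    (hsup : iSup W = ⊤) (hind : iSupIndep W)
    (hHW : ∀ h ∈ H, ∀ i, ∀ w ∈ W i, ρ h w ∈ W i)
    (hker : ∀ i, ∃ h ∈ H, h ≠ 1 ∧ ∀ w ∈ W i, ρ h w = w)
    (hperm : ∀ g : G, g ∉ H → ∃ σ : Equiv.Perm (Fin p), orderOf σ = p ∧
      ∀ i, (W i).map (ρ g : V →ₗ[ZMod q] V) = W (σ i)) :
    p = 2 ∧ ((Nat.card V = 81 ∧ q = 3) ∨
    (Nat.card V = q ^ 2 ∧ (∃ m : ℕ, q = 2 ^ m + 1) ∧
      ∃ e : V ≃ₗ[ZMod q] (Fin 2 → ZMod q), ∀ f : (Fin 2 → ZMod q) ≃ₗ[ZMod q] (Fin 2 → ZMod q),
        (∃ g : G, f = e.symm.trans ((ρ g).trans e)) ↔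
        ∃ a s : ZMod q, a ≠ 0 ∧ (s = 1 ∨ s = -1) ∧
          ((∀ v, f v = ![a * v 0, s * a⁻¹ * v 1]) ∨ (∀ v, f v = ![s * a⁻¹ * v 1, a * v 0])))) := by
  have hpp := hp.out
  have hqq := hq.out
  -- moving elements move every block
  have hmove : ∀ g : G, g ∉ H → ∃ σ : Equiv.Perm (Fin p),
      (∀ i j, σ.SameCycle i j) ∧ (∀ i, σ i ≠ i) ∧ orderOf σ = p ∧ ∀ i, ∀ w ∈ W i, ρ g w ∈ W (σ i) := by
    intro g hg
    obtain ⟨σ, hσo, hσ⟩ := hperm g hg
    have hcyc : σ.IsCycle := Equiv.Perm.isCycle_of_prime_order'' (by rw [Fintype.card_fin]; exact hpp)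
      (by rw [hσo, Fintype.card_fin])
    have hsupp : σ.support = Finset.univ := Finset.eq_univ_of_card _ (by rw [← hcyc.orderOf, hσo, Fintype.card_fin])
    have hne : ∀ i, σ i ≠ i := fun i => Equiv.Perm.mem_support.mp (hsupp ▸ Finset.mem_univ i)
    exact ⟨σ, fun i j => hcyc.sameCycle (hne i) (hne j), hne, hσo, fun i w hw => hσ i ▸ Submodule.mem_map_of_mem hw⟩
  have hdisj : ∀ i j, i ≠ j → ∀ w ∈ W i, w ∈ W j → w = 0 := fun i j hij =>
    Submodule.disjoint_def.mp (hind.pairwiseDisjoint hij)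
  have hid : ∀ g : G, (∀ i, ∀ w ∈ W i, ρ g w = w) → g = 1 := by
    intro g hg
    refine eq_one_of_fix_all ρ hρ fun v => ?_
    have h1 : iSup W ≤ fixSet ρ {g} := iSup_le fun i w hw => (mem_fixSet ρ).mpr (by rintro _ rfl; exact hg i w hw)
    exact (mem_fixSet ρ).mp (h1 (hsup ▸ Submodule.mem_top)) g rfl
  obtain ⟨g0, hg0⟩ : ∃ g, g ∉ H := by
    by_contra hno
    push Not at hno
    rw [show H = ⊤ from eq_top_iff.mpr fun x _ => hno x, Subgroup.index_top] at hHi
    exact hpp.one_lt.ne hHi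
  have hWne : ∀ i, ∃ w ∈ W i, w ≠ (0 : V) := by
    obtain ⟨σ, hσo, hσ⟩ := hperm g0 hg0
    have hcyc : σ.IsCycle := Equiv.Perm.isCycle_of_prime_order'' (by rw [Fintype.card_fin]; exact hpp)
      (by rw [hσo, Fintype.card_fin])
    have hsupp : σ.support = Finset.univ := Finset.eq_univ_of_card _ (by rw [← hcyc.orderOf, hσo, Fintype.card_fin])
    by_contra hno
    push Not at hno
    obtain ⟨i, hi⟩ := hno
    have hall : ∀ k : ℕ, W ((σ ^ k) i) = ⊥ := by
      intro k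
      induction k with
      | zero => exact (Submodule.eq_bot_iff _).mpr hi
      | succ k ih => rw [pow_succ', Equiv.Perm.mul_apply, ← hσ, ih, Submodule.map_bot]
    have hbot : iSup W = ⊥ := iSup_eq_bot.mpr fun j => by
      obtain ⟨k, rfl⟩ := hcyc.exists_pow_eq (Equiv.Perm.mem_support.mp (hsupp ▸ Finset.mem_univ i))
        (Equiv.Perm.mem_support.mp (hsupp ▸ Finset.mem_univ j))
      exact hall k
    exact bot_ne_top (α := Submodule (ZMod q) V) (hbot.symm.trans hsup)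
  have hstabH : ∀ i, ∀ w ∈ W i, w ≠ 0 → stab ρ w ≤ H := by
    intro i w hw hw0 g hg
    by_contra hgH
    obtain ⟨σ, -, hne, -, hσ⟩ := hmove g hgH
    exact hw0 (hdisj (σ i) i (hne i) w (by have := hσ i w hw; rwa [show ρ g w = w from hg] at this) hw)
  -- two components determine the stabiliser when it lies in `H`
  have htwo : ∀ i j, i ≠ j → ∀ a ∈ W i, a ≠ 0 → ∀ b ∈ W j, b ≠ 0 → stab ρ (a + b) ≤ H → stab ρ a = stab ρ b := by
    intro i j hij a ha ha0 b hb hb0 hle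
    have hab : a + b ≠ 0 := fun h => ha0 (hdisj i j hij a ha (by
      rw [eq_neg_of_add_eq_zero_left h]; exact (W j).neg_mem hb))
    have h1 : stab ρ (a + b) ≤ stab ρ a ⊓ stab ρ b := by
      intro g hg
      have hgH := hle hg
      rw [mem_stab, map_add] at hg
      have h2 : ρ g a - a = b - ρ g b := by linear_combination (norm := abel) hg
      have h3 : ρ g a - a = 0 := hdisj i j hij _ ((W i).sub_mem (hHW g hgH i a ha) ha)
        (h2 ▸ (W j).sub_mem hb (hHW g hgH j b hb))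
      have h4 : ρ g a = a := sub_eq_zero.mp h3
      refine ⟨h4, ?_⟩
      show ρ g b = b
      rw [h4] at hg
      exact add_left_cancel hg
    have e1 : stab ρ (a + b) = stab ρ a :=
      Subgroup.eq_of_le_of_card_ge (h1.trans inf_le_left) (hs a (a + b) ha0 hab).le
    have e2 : stab ρ (a + b) = stab ρ b :=
      Subgroup.eq_of_le_of_card_ge (h1.trans inf_le_right) (hs b (a + b) hb0 hab).le
    rw [← e1, e2]
  have hp2 : p = 2 := by
    by_contra hp2
    have hp3 : 3 ≤ p := by have := hpp.two_le; omega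
    have hle : ∀ i j, i ≠ j → ∀ a ∈ W i, a ≠ 0 → ∀ b ∈ W j, b ≠ 0 → stab ρ (a + b) ≤ H := by
      intro i j hij a ha ha0 b hb hb0 g hg
      by_contra hgH
      obtain ⟨σ, -, hne, hσo, hσ⟩ := hmove g hgH
      rw [mem_stab, map_add] at hg
      have hout : ∀ k l : Fin p, ∀ c ∈ W k, c ≠ 0 → ∀ d ∈ W l, ρ g c + ρ g d = a + b →
          σ k ≠ i → σ k ≠ j → k ≠ l → False := by
        intro k l c hc hc0 d hd hcd h1 h2 hkl
        refine ne_zero_app ρ g hc0 (Submodule.disjoint_def.mp (iSupIndep_def.mp hind (σ k)) _ (hσ k c hc) ?_)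
        rw [eq_sub_of_add_eq hcd]
        refine Submodule.sub_mem _ (Submodule.add_mem _ ?_ ?_) ?_
        · exact le_iSup₂ (f := fun m (_ : m ≠ σ k) => W m) i (Ne.symm h1) ha
        · exact le_iSup₂ (f := fun m (_ : m ≠ σ k) => W m) j (Ne.symm h2) hb
        · exact le_iSup₂ (f := fun m (_ : m ≠ σ k) => W m) (σ l) (fun e => hkl (σ.injective e).symm) (hσ l d hd)
      by_cases h1 : σ i = j
      · refine hout j i b hb hb0 a ha (by rw [add_comm]; exact hg) ?_ (hne j) hij.symm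
        intro h2
        -- then `σ²` fixes `i`
        have hfix : (σ ^ 2) i = i := by rw [pow_two, Equiv.Perm.mul_apply, h1, h2]
        obtain ⟨c, hc⟩ : ∃ c, p = 2 * c + 1 := hpp.odd_of_ne_two hp2
        have h3 : (σ ^ p) i = σ i := by
          refine (congrArg (fun n => (σ ^ n) i) hc).trans ?_
          show (σ ^ (2 * c + 1)) i = σ i
          rw [pow_succ', Equiv.Perm.mul_apply, pow_mul,
            Equiv.Perm.pow_apply_eq_self_of_apply_eq_self hfix]
        rw [orderOf_dvd_iff_pow_eq_one.mp (dvd_of_eq hσo), Equiv.Perm.one_apply] at h3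
        exact hne i h3.symm
      · exact hout i j a ha ha0 b hb hg (hne i) h1 hij
    haveI : Nontrivial (Fin p) := Fin.nontrivial_iff_two_le.mpr hpp.two_le
    obtain ⟨i0⟩ : Nonempty (Fin p) := inferInstance
    obtain ⟨h, hhH, hh1, hh⟩ := hker i0
    refine hh1 (hid h fun j w hw => ?_)
    by_cases hj : j = i0
    · exact hh w (hj ▸ hw)
    by_cases hw0 : w = 0
    · rw [hw0, map_zero]
    obtain ⟨a, ha, ha0⟩ := hWne i0
    exact (htwo i0 j (Ne.symm hj) a ha ha0 w hw hw0 (hle i0 j (Ne.symm hj) a ha ha0 w hw hw0)).le (hh a ha)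
  subst hp2
  refine ⟨rfl, ?_⟩
  have hq2 : q ≠ 2 := Ne.symm hqp
  have hfin : ∀ i : Fin 2, i = 0 ∨ i = 1 := by decide
  have h01 : ∀ g : G, g ∉ H → (∀ w ∈ W 0, ρ g w ∈ W 1) ∧ (∀ w ∈ W 1, ρ g w ∈ W 0) := by
    intro g hg
    obtain ⟨σ, -, hne, -, hσ⟩ := hmove g hg
    exact ⟨fun w hw => (hfin (σ 0)).resolve_left (hne 0) ▸ hσ 0 w hw,
      fun w hw => (hfin (σ 1)).resolve_right (hne 1) ▸ hσ 1 w hw⟩
  obtain ⟨w0, hw0, hw00⟩ := hWne 0
  set u1 := ρ g0 w0 with hu1
  have hu1m : u1 ∈ W 1 := (h01 g0 hg0).1 w0 hw0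
  have hu10 : u1 ≠ 0 := ne_zero_app ρ g0 hw00
  obtain ⟨h0, hh0H, hh01, hh0⟩ := hker 0
  set F1 : Submodule (ZMod q) V := fixSet ρ (stab ρ w0 : Set G) ⊓ W 1 with hF1
  have hF1lt : F1 < W 1 := lt_of_le_of_ne inf_le_right fun h => hh01 (hid h0 fun i w hw => by
    rcases hfin i with rfl | rfl
    · exact hh0 w hw
    · exact (mem_fixSet ρ).mp (h.ge hw).1 h0 (hh0 w0 hw0))
  let O : V → Set V := fun w => {u | ∃ g : H, (ρ.comp H.subtype) g w = u}
  have hOcard : ∀ w ∈ W 1, w ≠ 0 → Nat.card (O w) * Nat.card (stab ρ w0) = Nat.card H := by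
    intro w hw hwne
    rw [← hs w w0 hwne hw00, ← Nat.card_congr (Subgroup.subgroupOfEquivOfLe (hstabH 1 w hw hwne)).toEquiv]
    exact card_orbit_mul (ρ.comp H.subtype) w
  have hOsub : ∀ w ∈ W 1, w ≠ 0 → O w ⊆ (W 1 : Set V) \ {0} := by
    rintro w hw hwne _ ⟨g, rfl⟩
    exact ⟨hHW g g.2 1 w hw, fun h => ne_zero_app ρ (g : G) hwne h⟩
  have hB : (W 1 : Set V) \ (F1 : Set V) ⊆ O u1 := by
    rintro w ⟨hw, hwF⟩
    have hwne : w ≠ 0 := fun h => hwF (h ▸ F1.zero_mem)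
    have hnot : ¬ stab ρ (w0 + w) ≤ H := fun hle => hwF ⟨(mem_fixSet ρ).mpr fun g hg =>
      (htwo 0 1 (by decide) w0 hw0 hw00 w hw hwne hle).le hg, hw⟩
    obtain ⟨g, hg, hgH⟩ := SetLike.not_le_iff_exists.mp hnot
    rw [mem_stab, map_add] at hg
    have h1 : ρ g w0 = w := by
      have h2 : ρ g w0 - w = w0 - ρ g w := by linear_combination (norm := abel) hg
      exact sub_eq_zero.mp (hdisj 0 1 (by decide) _ (h2 ▸ (W 0).sub_mem hw0 ((h01 g hgH).2 w hw))
        ((W 1).sub_mem ((h01 g hgH).1 w0 hw0) hw))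
    have hmem : g * g0⁻¹ ∈ H := by
      rw [Subgroup.mul_mem_iff_of_index_two hHi, inv_mem_iff]
      exact iff_of_false hgH hg0
    refine ⟨⟨g * g0⁻¹, hmem⟩, ?_⟩
    show ρ (g * g0⁻¹) u1 = w
    rw [hu1, ← app_mul ρ, inv_mul_cancel_right, h1]
  -- `H` is transitive on the non-zero vectors of the second block
  have hcardW : Nat.card (W 1) = q ^ Module.finrank (ZMod q) (W 1) := by
    rw [Module.natCard_eq_pow_finrank (K := ZMod q), Nat.card_zmod]
  have hcardF : Nat.card F1 = q ^ Module.finrank (ZMod q) F1 := by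
    rw [Module.natCard_eq_pow_finrank (K := ZMod q), Nat.card_zmod]
  have hfr : Module.finrank (ZMod q) F1 < Module.finrank (ZMod q) (W 1) := Submodule.finrank_lt_finrank_of_lt hF1lt
  have hWd : ((W 1 : Set V) \ {0}).ncard = Nat.card (W 1) - 1 := by
    rw [Set.ncard_diff_singleton_of_mem (show (0 : V) ∈ (W 1 : Set V) from (W 1).zero_mem), ← Nat.card_coe_set_eq]
    rfl
  have htrans : O u1 = (W 1 : Set V) \ {0} := by
    refine (hOsub u1 hu1m hu10).antisymm fun w hw => ?_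
    by_contra hwO
    have hwne : w ≠ 0 := fun h => hw.2 h
    have hdis : Disjoint (O w) (O u1) := Set.disjoint_left.mpr fun u hu hu' => hwO (by
      obtain ⟨a, rfl⟩ := hu
      obtain ⟨b, hb⟩ := hu'
      refine ⟨a⁻¹ * b, ?_⟩
      rw [map_mul]
      show (ρ.comp H.subtype) a⁻¹ ((ρ.comp H.subtype) b u1) = w
      rw [hb]
      exact app_inv_app (ρ.comp H.subtype) a w)
    have h1 := Set.ncard_le_ncard (Set.union_subset (hOsub w hw.1 hwne) (hOsub u1 hu1m hu10)) (Set.toFinite _)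
    rw [Set.ncard_union_eq hdis (Set.toFinite _) (Set.toFinite _), hWd] at h1
    have h2 : Nat.card (O w) = Nat.card (O u1) :=
      Nat.eq_of_mul_eq_mul_right Nat.card_pos ((hOcard w hw.1 hwne).trans (hOcard u1 hu1m hu10).symm)
    rw [Nat.card_coe_set_eq, Nat.card_coe_set_eq] at h2
    have h3 := Set.ncard_le_ncard hB (Set.toFinite _)
    have hF1le : (F1 : Set V) ⊆ (W 1 : Set V) := fun x hx => hx.2
    rw [Set.ncard_diff hF1le (Set.toFinite _), ← Nat.card_coe_set_eq, ← Nat.card_coe_set_eq] at h3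
    have h4 : 2 * Nat.card F1 ≤ Nat.card (W 1) := by
      rw [hcardW, hcardF]
      calc 2 * q ^ Module.finrank (ZMod q) F1 ≤ q * q ^ Module.finrank (ZMod q) F1 :=
            Nat.mul_le_mul_right _ hqq.two_le
        _ = q ^ (Module.finrank (ZMod q) F1 + 1) := (pow_succ' _ _).symm
        _ ≤ _ := Nat.pow_le_pow_right hqq.pos hfr
    have h5 : 0 < Nat.card (W 1) := Nat.card_pos
    simp only [SetLike.coe_sort_coe, Nat.card_coe_set_eq] at h3
    omega
  obtain ⟨c, hc⟩ : ∃ c, Nat.card (W 1) = 2 ^ c + 1 := by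
    obtain ⟨n, hn⟩ := IsPGroup.iff_card.mp (hG.to_subgroup H)
    have h1 := hOcard u1 hu1m hu10
    rw [hn, htrans, Nat.card_coe_set_eq, hWd] at h1
    obtain ⟨c, -, hc⟩ := (Nat.dvd_prime_pow Nat.prime_two).mp (Dvd.intro _ h1)
    exact ⟨c, by have : 0 < Nat.card (W 1) := Nat.card_pos; omega⟩
  have hVcard : Nat.card V = Nat.card (W 1) * Nat.card (W 1) := by
    have hcompl : IsCompl (W 0) (W 1) := by
      refine ⟨hind.pairwiseDisjoint (by decide), codisjoint_iff.mpr (eq_top_iff.mpr ?_)⟩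
      rw [← hsup]
      exact iSup_le fun i => by rcases hfin i with rfl | rfl; exacts [le_sup_left, le_sup_right]
    rw [← Nat.card_congr (Submodule.prodEquivOfIsCompl _ _ hcompl).toEquiv, Nat.card_prod]
    congr 1
    refine le_antisymm ?_ ?_
    · exact Nat.card_le_card_of_injective (fun x : W 0 => (⟨ρ g0 x, (h01 g0 hg0).1 x x.2⟩ : W 1))
        fun x y h => Subtype.ext ((ρ g0).injective (congrArg Subtype.val h))
    · exact Nat.card_le_card_of_injective (fun x : W 1 => (⟨ρ g0 x, (h01 g0 hg0).2 x x.2⟩ : W 0))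
        fun x y h => Subtype.ext ((ρ g0).injective (congrArg Subtype.val h))
  have hepos : 0 < Module.finrank (ZMod q) (W 1) := by omega
  rcases pow_eq_two_pow_add_one hepos hqq (hcardW ▸ hc) with he | ⟨rfl, he⟩ | h
  swap
  · exact Or.inl ⟨by rw [hVcard, hcardW, he]; norm_num, rfl⟩
  swap
  · exact absurd h hq2
  rw [he, pow_one] at hcardW
  right
  refine ⟨by rw [hVcard, hcardW, pow_two], ⟨c, hcardW ▸ hc⟩, ?_⟩
  -- coordinates
  let L : (Fin 2 → ZMod q) →ₗ[ZMod q] V :=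
    (LinearMap.proj 0).smulRight w0 + (LinearMap.proj 1).smulRight u1
  have hL : ∀ x, L x = x 0 • w0 + x 1 • u1 := fun x => rfl
  have hLinj : Function.Injective L := by
    rw [← LinearMap.ker_eq_bot, LinearMap.ker_eq_bot']
    intro x hx
    rw [hL] at hx
    have h1 : x 0 • w0 = 0 := hdisj 0 1 (by decide) _ ((W 0).smul_mem _ hw0)
      (by rw [eq_neg_of_add_eq_zero_left hx]; exact (W 1).neg_mem ((W 1).smul_mem _ hu1m))
    rw [h1, zero_add] at hx
    funext i
    rcases hfin i with rfl | rfl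
    exacts [(smul_eq_zero.mp h1).resolve_right hw00, (smul_eq_zero.mp hx).resolve_right hu10]
  have hLb : Function.Bijective L := (Nat.bijective_iff_injective_and_card L).mpr ⟨hLinj, by
    rw [Nat.card_fun, Nat.card_zmod, Nat.card_fin, hVcard, hcardW, pow_two]⟩
  have hW0 : ∀ v ∈ W 0, ∃ a : ZMod q, v = a • w0 := by
    intro v hv
    obtain ⟨x, rfl⟩ := hLb.2 v
    rw [hL] at hv ⊢
    have h1 : x 1 • u1 = 0 := hdisj 0 1 (by decide) _ (((W 0).add_mem_iff_right ((W 0).smul_mem _ hw0)).mp hv)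
      ((W 1).smul_mem _ hu1m)
    exact ⟨x 0, by rw [h1, add_zero]⟩
  have hW1 : ∀ v ∈ W 1, ∃ a : ZMod q, v = a • u1 := by
    intro v hv
    obtain ⟨x, rfl⟩ := hLb.2 v
    rw [hL] at hv ⊢
    have h1 : x 0 • w0 = 0 := hdisj 0 1 (by decide) _ ((W 0).smul_mem _ hw0)
      (((W 1).add_mem_iff_left ((W 1).smul_mem _ hu1m)).mp hv)
    exact ⟨x 1, by rw [h1, zero_add]⟩
  have hext : ∀ g : G, ρ g w0 = w0 → ρ g u1 = u1 → g = 1 := fun g h1 h2 => hid g fun i w hw => by
    rcases hfin i with rfl | rfl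
    · obtain ⟨a, rfl⟩ := hW0 w hw; rw [map_smul, h1]
    · obtain ⟨a, rfl⟩ := hW1 w hw; rw [map_smul, h2]
  have hswap : ∀ b : ZMod q, b ≠ 0 → ∀ t : G, ρ t (w0 + b • u1) = w0 + b • u1 → t ≠ 1 →
      t ∉ H ∧ ρ t w0 = b • u1 ∧ ρ t u1 = b⁻¹ • w0 := by
    intro b hb t ht ht1
    rw [map_add, map_smul] at ht
    have htH : t ∉ H := by
      intro htH
      have h1 : ρ t w0 - w0 = b • u1 - b • ρ t u1 := by linear_combination (norm := abel) ht
      have h2 : ρ t w0 = w0 := sub_eq_zero.mp (hdisj 0 1 (by decide) _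
        ((W 0).sub_mem (hHW t htH 0 w0 hw0) hw0)
        (h1 ▸ (W 1).sub_mem ((W 1).smul_mem _ hu1m) ((W 1).smul_mem _ (hHW t htH 1 u1 hu1m))))
      rw [h2, add_left_cancel_iff] at ht
      exact ht1 (hext t h2 (smul_right_injective V hb ht))
    have h1 : ρ t w0 - b • u1 = w0 - b • ρ t u1 := by linear_combination (norm := abel) ht
    have h2 : ρ t w0 - b • u1 = 0 := hdisj 0 1 (by decide) _
      (h1 ▸ (W 0).sub_mem hw0 ((W 0).smul_mem _ ((h01 t htH).2 u1 hu1m)))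
      ((W 1).sub_mem ((h01 t htH).1 w0 hw0) ((W 1).smul_mem _ hu1m))
    rw [h2] at h1
    refine ⟨htH, sub_eq_zero.mp h2, ?_⟩
    rw [eq_inv_smul_iff₀ hb]
    exact (sub_eq_zero.mp h1.symm).symm
  have hvb : ∀ b : ZMod q, b ≠ 0 → w0 + b • u1 ≠ 0 := fun b hb h => by
    have := hLinj (a₁ := ![1, b]) (a₂ := 0) (by rw [map_zero, hL]; simpa using h)
    simpa using congrFun this 0
  have hT : ∀ b : ZMod q, b ≠ 0 → ∃ t : G, t ∉ H ∧ ρ t w0 = b • u1 ∧ ρ t u1 = b⁻¹ • w0 := by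
    intro b hb
    obtain ⟨t, ht, ht1⟩ : ∃ t ∈ stab ρ (w0 + b • u1), t ≠ 1 := by
      by_contra hno
      push Not at hno
      have h1 : stab ρ (w0 + b • u1) = ⊥ := (Subgroup.eq_bot_iff_forall _).mpr hno
      have h2 := hs w0 _ hw00 (hvb b hb)
      rw [h1, Subgroup.card_bot] at h2
      exact hh01 ((Subgroup.eq_bot_iff_forall _).mp (Subgroup.card_eq_one.mp h2) h0 (hh0 w0 hw0))
    exact ⟨t, hswap b hb t ht ht1⟩
  obtain ⟨T, hTH, hTw, hTu⟩ := hT 1 one_ne_zero
  rw [inv_one, one_smul] at hTu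
  rw [one_smul] at hTw
  have hS0 : ∀ h : G, ρ h w0 = w0 → h = 1 ∨ h = h0 := by
    intro h hh'
    have hone : (stab ρ (w0 + (1 : ZMod q) • u1) : Set G) ⊆ {1, T} := fun t ht => by
      by_cases ht1 : t = 1
      · exact Or.inl ht1
      obtain ⟨-, h1, h2⟩ := hswap 1 one_ne_zero t ht ht1
      rw [inv_one, one_smul] at h2
      rw [one_smul] at h1
      refine Or.inr ((inv_mul_eq_one (G := G)).mp (hext (t⁻¹ * T) ?_ ?_))
      · rw [app_mul ρ, hTw, ← h1, app_inv_app]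
      · rw [app_mul ρ, hTu, ← h2, app_inv_app]
    have hcard : Nat.card (stab ρ w0) ≤ 2 := by
      rw [hs w0 _ hw00 (hvb 1 one_ne_zero)]
      have := Set.ncard_le_ncard hone (Set.toFinite _)
      rw [← Nat.card_coe_set_eq] at this
      exact this.trans ((Set.ncard_insert_le _ _).trans (by rw [Set.ncard_singleton]))
    by_contra hne
    push Not at hne
    have h3 : (({1, h0, h} : Finset G)).card = 3 :=
      Finset.card_eq_three.mpr ⟨1, h0, h, Ne.symm hh01, Ne.symm hne.1, Ne.symm hne.2, rfl⟩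
    have hsub : ((({1, h0, h} : Finset G)) : Set G) ⊆ (stab ρ w0 : Set G) := by
      simp only [Finset.coe_insert, Finset.coe_singleton, Set.insert_subset_iff, Set.singleton_subset_iff]
      exact ⟨(stab ρ w0).one_mem, hh0 w0 hw0, hh'⟩
    have h4 := Set.ncard_le_ncard hsub (Set.toFinite _)
    rw [Set.ncard_coe_finset, h3, ← Nat.card_coe_set_eq] at h4
    exact absurd (h4.trans hcard) (by norm_num)
  have hh0u : ρ h0 u1 = -u1 := by
    obtain ⟨β, hβ⟩ := hW1 _ (hHW h0 hh0H 1 u1 hu1m)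
    have h2 : h0 * h0 = 1 := (hS0 _ (by rw [app_mul ρ, hh0 w0 hw0, hh0 w0 hw0])).resolve_right
      fun h => hh01 (mul_eq_left.mp h)
    have h3 : β * β = 1 := by
      refine smul_left_injective (ZMod q) hu10 ?_
      show (β * β) • u1 = (1 : ZMod q) • u1
      rw [mul_smul, ← hβ, ← map_smul, ← hβ, ← app_mul ρ, h2, app_one ρ, one_smul]
    rcases mul_self_eq_one_iff.mp h3 with h | h
    · exact absurd (hext h0 (hh0 w0 hw0) (by rw [hβ, h, one_smul])) hh01
    · rw [hβ, h, neg_one_smul]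
  -- shapes of all elements
  have hdiag : ∀ g ∈ H, ∃ a s : ZMod q, a ≠ 0 ∧ (s = 1 ∨ s = -1) ∧ ρ g w0 = a • w0 ∧ ρ g u1 = (s * a⁻¹) • u1 := by
    intro g hg
    obtain ⟨a, ha⟩ := hW0 _ (hHW g hg 0 w0 hw0)
    have ha0 : a ≠ 0 := fun h => ne_zero_app ρ g hw00 (by rw [ha, h, zero_smul])
    obtain ⟨β, hβ⟩ := hW1 _ (hHW g hg 1 u1 hu1m)
    obtain ⟨t, -, htw, htu⟩ := hT a ha0
    have e1 : ρ (g * (t * T)) w0 = w0 := by
      rw [app_mul ρ, app_mul ρ, hTw, htu, map_smul, ha, smul_smul, inv_mul_cancel₀ ha0, one_smul]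
    have e2 : ρ (g * (t * T)) u1 = (a * β) • u1 := by
      rw [app_mul ρ, app_mul ρ, hTu, htw, map_smul, hβ, smul_smul]
    have e3 : a * β = 1 ∨ a * β = -1 := by
      rcases hS0 _ e1 with h | h <;> rw [h] at e2
      · rw [app_one ρ] at e2
        exact Or.inl (smul_left_injective (ZMod q) hu10 (show (a * β) • u1 = (1 : ZMod q) • u1 by rw [← e2, one_smul]))
      · rw [hh0u] at e2
        exact Or.inr (smul_left_injective (ZMod q) hu10 (show (a * β) • u1 = (-1 : ZMod q) • u1 by rw [← e2, neg_one_smul]))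
    refine ⟨a, a * β, ha0, e3, ha, ?_⟩
    rw [hβ, mul_comm a β, mul_assoc, mul_inv_cancel₀ ha0, mul_one]
  let e := (LinearEquiv.ofBijective L hLb).symm
  refine ⟨e, fun f => ?_⟩
  have hes : ∀ x, e.symm x = L x := fun x => rfl
  have hfg : ∀ g : G, f = e.symm.trans ((ρ g).trans e) ↔ ∀ x, L (f x) = ρ g (L x) := by
    intro g
    constructor
    · intro h x
      rw [h, ← hes, LinearEquiv.trans_apply, LinearEquiv.trans_apply, e.symm_apply_apply, hes]
    · intro h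
      refine LinearEquiv.ext fun x => e.symm.injective ?_
      rw [LinearEquiv.trans_apply, LinearEquiv.trans_apply, e.symm_apply_apply, hes, hes, h]
  constructor
  · rintro ⟨g, hg⟩
    rw [hfg] at hg
    by_cases hgH : g ∈ H
    · obtain ⟨a, s, ha0, hs', h1, h2⟩ := hdiag g hgH
      refine ⟨a, s, ha0, hs', Or.inl fun x => hLinj ?_⟩
      rw [hg, hL, hL, map_add, map_smul, map_smul, h1, h2]
      simp [smul_smul, mul_comm]
    · obtain ⟨a, s, ha0, hs', h1, h2⟩ := hdiag (g * T) (by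
        rw [Subgroup.mul_mem_iff_of_index_two hHi]; exact iff_of_false hgH hTH)
      rw [app_mul ρ, hTw] at h1
      rw [app_mul ρ, hTu] at h2
      have hs2 : s * s = 1 := by rcases hs' with rfl | rfl <;> norm_num
      refine ⟨s * a⁻¹, s, mul_ne_zero (by rintro rfl; simp at hs2) (inv_ne_zero ha0), hs', Or.inr fun x => hLinj ?_⟩
      have hsa : s * (s * a⁻¹)⁻¹ = a := by
        rw [mul_inv, inv_inv, ← mul_assoc, mul_inv_cancel₀ (by rintro rfl; simp at hs2), one_mul]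
      rw [hg, hL, hL, map_add, map_smul, map_smul, h1, h2, hsa]
      simp [smul_smul, mul_comm, add_comm]
  · rintro ⟨a, s, ha0, hs', hf⟩
    obtain ⟨u, hu⟩ : ∃ u : G, ρ u w0 = w0 ∧ ρ u u1 = s • u1 := by
      rcases hs' with rfl | rfl
      · exact ⟨1, app_one ρ _, by rw [app_one ρ, one_smul]⟩
      · exact ⟨h0, hh0 w0 hw0, by rw [hh0u, neg_one_smul]⟩
    rcases hf with hf | hf
    · obtain ⟨t, -, htw, htu⟩ := hT a⁻¹ (inv_ne_zero ha0)
      refine ⟨u * (t * T), (hfg _).mpr fun x => ?_⟩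
      rw [hf, hL, hL, map_add, map_smul, map_smul, app_mul ρ, app_mul ρ, app_mul ρ, app_mul ρ, hTw, hTu, htw, htu,
        map_smul, map_smul, hu.1, hu.2, inv_inv]
      simp [smul_smul, mul_comm, mul_left_comm]
    · obtain ⟨t, -, htw, htu⟩ := hT a ha0
      refine ⟨t * u, (hfg _).mpr fun x => ?_⟩
      rw [hf, hL, hL, map_add, map_smul, map_smul, app_mul ρ, app_mul ρ, hu.1, hu.2, map_smul, htw, htu]
      simp [smul_smul, mul_comm, mul_left_comm, add_comm]

end Cfsg.Agent.Lib.Elem69.Half
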