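import Mathlib
import Cfsg.Agent.Lib.Elem69.HalfTransitive

/-!
# Half-transitive actions of dihedral and semidihedral groups
-/

namespace Cfsg.Agent.Lib.Elem69.Half

open scoped Classical

section

variable {G : Type*} [Group G] [Finite G] {x y : G} {n : ℕ} {c : ℤ}

theorem mem_or_mul_mem (hx : orderOf x = 2 ^ n) (hy : y ∉ Subgroup.zpowers x)
    (hcard : Nat.card G = 2 ^ (n + 1)) (g : G) :
    g ∈ Subgroup.zpowers x ∨ ∃ i : ℤ, g = y * x ^ i := by
  have hi : (Subgroup.zpowers x).index = 2 := by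
    have h := Subgroup.card_mul_index (Subgroup.zpowers x)
    rw [Nat.card_zpowers, hx, hcard, pow_succ] at h
    exact Nat.eq_of_mul_eq_mul_left (by positivity) h
  by_cases hg : g ∈ Subgroup.zpowers x
  · exact Or.inl hg
  refine Or.inr ?_
  have h : y⁻¹ * g ∈ Subgroup.zpowers x := by
    rw [Subgroup.mul_mem_iff_of_index_two hi, inv_mem_iff]
    exact iff_of_false hy hg
  obtain ⟨i, hi'⟩ := Subgroup.mem_zpowers_iff.mp h
  exact ⟨i, by rw [hi', mul_inv_cancel_left]⟩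

omit [Finite G] in
theorem conj_zpow_of (hyx : y * x * y⁻¹ = x ^ c) (i : ℤ) : y * x ^ i * y⁻¹ = x ^ (c * i) := by
  rw [← conj_zpow, hyx, ← zpow_mul]

omit [Finite G] in
theorem outer_sq (hy2 : y ^ 2 = 1) (hyx : y * x * y⁻¹ = x ^ c) (i : ℤ) :
    (y * x ^ i) ^ 2 = x ^ ((c + 1) * i) := by
  have hinv : y⁻¹ = y := inv_eq_of_mul_eq_one_right (by rw [← pow_two, hy2])
  calc (y * x ^ i) ^ 2 = y * x ^ i * y⁻¹ * x ^ i := by rw [pow_two, hinv]; simp only [mul_assoc]
    _ = _ := by rw [conj_zpow_of hyx, ← zpow_add]; congr 1; ring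

theorem card_outer_involutions (hx : orderOf x = 2 ^ n) (hy2 : y ^ 2 = 1) (hy : y ∉ Subgroup.zpowers x)
    (hyx : y * x * y⁻¹ = x ^ c) (hcard : Nat.card G = 2 ^ (n + 1)) (d M : ℕ) (hdM : d * M = 2 ^ n)
    (hchar : ∀ i : ℤ, ((2 ^ n : ℕ) : ℤ) ∣ (c + 1) * i ↔ (d : ℤ) ∣ i) :
    Nat.card {t : G // t ∉ Subgroup.zpowers x ∧ t ^ 2 = 1} = M := by
  have hd : 0 < d := Nat.pos_of_ne_zero (fun h => pow_ne_zero n (two_ne_zero (α := ℕ)) (by rw [← hdM, h]; ring))
  have hM : 0 < M := Nat.pos_of_ne_zero (fun h => pow_ne_zero n (two_ne_zero (α := ℕ)) (by rw [← hdM, h]; ring))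
  let f : Fin M → {t : G // t ∉ Subgroup.zpowers x ∧ t ^ 2 = 1} := fun j =>
    ⟨y * x ^ ((d : ℤ) * (j : ℕ)), fun h => hy (by
        rw [Subgroup.mul_mem_cancel_right _ (Subgroup.zpow_mem _ (Subgroup.mem_zpowers x) _)] at h
        exact h), by
      rw [outer_sq hy2 hyx, ← orderOf_dvd_iff_zpow_eq_one, hx, hchar]
      exact dvd_mul_right _ _⟩
  have hf : Function.Bijective f := by
    constructor
    · intro a b h
      have h1 : x ^ ((d : ℤ) * (a : ℕ)) = x ^ ((d : ℤ) * (b : ℕ)) :=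
        mul_left_cancel (congrArg Subtype.val h)
      rw [← Nat.cast_mul, ← Nat.cast_mul, zpow_natCast, zpow_natCast] at h1
      have h2 : d * (a : ℕ) = d * (b : ℕ) := by
        refine pow_injOn_Iio_orderOf ?_ ?_ h1 <;> rw [Set.mem_Iio, hx, ← hdM]
        · exact Nat.mul_lt_mul_of_pos_left a.2 hd
        · exact Nat.mul_lt_mul_of_pos_left b.2 hd
      exact Fin.ext (Nat.eq_of_mul_eq_mul_left hd h2)
    · rintro ⟨t, ht, ht2⟩
      obtain ⟨i, rfl⟩ := (mem_or_mul_mem hx hy hcard t).resolve_left ht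
      rw [outer_sq hy2 hyx, ← orderOf_dvd_iff_zpow_eq_one, hx, hchar] at ht2
      obtain ⟨k, rfl⟩ := ht2
      refine ⟨⟨(k % (M : ℤ)).toNat, by
        have := Int.emod_lt_of_pos k (show (0 : ℤ) < M by omega)
        omega⟩, Subtype.ext ?_⟩
      show y * x ^ ((d : ℤ) * ((k % (M : ℤ)).toNat : ℤ)) = y * x ^ ((d : ℤ) * k)
      rw [Int.toNat_of_nonneg (Int.emod_nonneg _ (by omega)), ← Int.mul_emod_mul_of_pos (a := (d : ℤ)) _ _ (by omega),
        show (d : ℤ) * M = (orderOf x : ℕ) by rw [hx, ← hdM]; push_cast; ring, zpow_mod_orderOf]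
  rw [← Nat.card_eq_of_bijective f hf, Nat.card_fin]

end

variable {q : ℕ} [hq : Fact q.Prime] {V : Type*} [AddCommGroup V] [Module (ZMod q) V] [Finite V] [Nontrivial V]
  {G : Type*} [Group G] [Finite G] (ρ : G →* (V ≃ₗ[ZMod q] V))

/-- A half-transitive dihedral or semidihedral group acts on a plane. -/
theorem dihedral_like (hρ : Function.Injective ρ) (hq2 : q ≠ 2)
    (hirr : ∀ W : Submodule (ZMod q) V, (∀ g : G, ∀ w ∈ W, ρ g w ∈ W) → W = ⊥ ∨ W = ⊤)
    (hs : EqStab ρ) (hns : ∃ v : V, v ≠ 0 ∧ stab ρ v ≠ ⊥)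
    {x y : G} {n : ℕ} {c : ℤ} (hn : 2 ≤ n) (hx : orderOf x = 2 ^ n) (hy2 : y ^ 2 = 1)
    (hy : y ∉ Subgroup.zpowers x) (hyx : y * x * y⁻¹ = x ^ c) (hc : (4 : ℤ) ∣ c + 1)
    (hcard : Nat.card G = 2 ^ (n + 1)) {m : ℕ} (hm : 2 ≤ m)
    (hT : Nat.card {t : G // t ∉ Subgroup.zpowers x ∧ t ^ 2 = 1} = 2 ^ m) :
    Nat.card V = q ^ 2 ∧ q = 2 ^ m - 1 := by
  have hqq := hq.out
  obtain ⟨k, hk⟩ := hc
  have h2n : (2 : ℕ) ^ n = 2 ^ (n - 2) * 4 := by
    rw [show (4 : ℕ) = 2 ^ 2 from rfl, ← pow_add]; congr 1; omega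
  have h2n1 : (2 : ℕ) ^ (n - 1) = 2 ^ (n - 2) * 2 := by
    rw [← pow_succ]; congr 1; omega
  set z := x ^ 2 ^ (n - 1) with hzdef
  have hxn : x ^ 2 ^ n = 1 := hx ▸ pow_orderOf_eq_one x
  have hz2 : z ^ 2 = 1 := by
    rw [hzdef, ← pow_mul, ← pow_succ, show n - 1 + 1 = n by omega, hxn]
  have hz1 : z ≠ 1 := fun h => by
    have h1 := orderOf_dvd_of_pow_eq_one h
    rw [hx, Nat.pow_dvd_pow_iff_le_right one_lt_two] at h1
    omega
  have hzc : z ∈ Subgroup.center G := by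
    rw [Subgroup.mem_center_iff]
    intro g
    have hyz : y * z = z * y := by
      have h1 := conj_zpow_of hyx ((2 ^ (n - 1) : ℕ) : ℤ)
      rw [zpow_natCast, ← hzdef, mul_inv_eq_iff_eq_mul] at h1
      rw [h1]
      congr 1
      have h2 : c * ((2 ^ (n - 1) : ℕ) : ℤ) = ((2 ^ (n - 1) : ℕ) : ℤ) + ((2 ^ n : ℕ) : ℤ) * (2 * k - 1) := by
        rw [h2n, h2n1, show c = 4 * k - 1 by linarith]; push_cast; ring
      rw [h2, zpow_add, zpow_natCast, zpow_mul, zpow_natCast, hxn, one_zpow, mul_one, hzdef]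
    rcases mem_or_mul_mem hx hy hcard g with hg | ⟨i, rfl⟩
    · obtain ⟨i, rfl⟩ := Subgroup.mem_zpowers_iff.mp hg
      exact (((Commute.refl x).zpow_left i).pow_right _).eq
    · rw [mul_assoc, (((Commute.refl x).zpow_left i).pow_right (2 ^ (n - 1))).eq, ← hzdef, ← mul_assoc, hyz,
        mul_assoc]
  have h2V : ∀ v : V, v = -v → v = 0 := fun v h => by
    have h1 : (2 : ZMod q) • v = 0 := by
      rw [two_smul]
      nth_rewrite 1 [h]
      exact neg_add_cancel v
    refine (smul_eq_zero.mp h1).resolve_left fun h2 => ?_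
    have h3 : ((2 : ℕ) : ZMod q) = 0 := by exact_mod_cast h2
    rw [ZMod.natCast_eq_zero_iff] at h3
    exact hq2 ((Nat.prime_dvd_prime_iff_eq hqq Nat.prime_two).mp h3)
  have hzneg : ∀ v, ρ z v = -v := by
    intro v
    rcases hirr (fixSet ρ {z}) (fun g w hw => by
      rw [mem_fixSet] at hw ⊢
      rintro _ rfl
      rw [← app_mul ρ, ← Subgroup.mem_center_iff.mp hzc g, app_mul ρ, hw z rfl]) with h | h
    · have : ρ z v + v ∈ fixSet ρ {z} := (mem_fixSet ρ).mpr (by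
        rintro _ rfl
        rw [map_add, ← app_mul ρ, ← pow_two, hz2, app_one ρ, add_comm])
      rw [h, Submodule.mem_bot] at this
      exact eq_neg_of_add_eq_zero_left this
    · exact absurd (eq_one_of_fix_all ρ hρ fun w =>
        (mem_fixSet ρ).mp (h ▸ Submodule.mem_top : w ∈ fixSet ρ {z}) z rfl) hz1
  have hCfree : ∀ g ∈ Subgroup.zpowers x, ∀ v : V, v ≠ 0 → ρ g v = v → g = 1 := by
    intro g hg v hv hgv
    by_contra hg1
    obtain ⟨j, hj⟩ := Nat.dvd_prime_pow Nat.prime_two |>.mp (hx ▸ orderOf_dvd_of_mem_zpowers hg)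
    obtain ⟨j, rfl⟩ : ∃ j', j = j' + 1 := by
      refine Nat.exists_eq_add_one_of_ne_zero ?_
      rintro rfl
      exact hg1 (orderOf_eq_one_iff.mp (by simpa using hj.2))
    have hinv : (g ^ 2 ^ j) ^ 2 = 1 := by rw [← pow_mul, ← pow_succ, ← hj.2, pow_orderOf_eq_one]
    have hne : g ^ 2 ^ j ≠ 1 := fun h => by
      have h1 := orderOf_dvd_of_pow_eq_one h
      rw [hj.2, Nat.pow_dvd_pow_iff_le_right one_lt_two] at h1
      omega
    obtain ⟨i, hi⟩ := Subgroup.mem_zpowers_iff.mp (Subgroup.pow_mem _ hg (2 ^ j))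
    rw [← hi, ← zpow_natCast, ← zpow_mul, ← orderOf_dvd_iff_zpow_eq_one, hx,
      show n = n - 1 + 1 by omega, pow_succ] at hinv
    obtain ⟨l, rfl⟩ : ((2 ^ (n - 1) : ℕ) : ℤ) ∣ i := by
      rw [Nat.cast_mul] at hinv
      exact (mul_dvd_mul_iff_right (by norm_num)).mp hinv
    rw [zpow_mul, zpow_natCast, ← hzdef] at hi
    rcases Int.even_or_odd' l with ⟨l, rfl | rfl⟩
    · exact hne (by rw [← hi, zpow_mul, show z ^ (2 : ℤ) = 1 from (zpow_ofNat z 2).trans hz2, one_zpow])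
    · have hgz : g ^ 2 ^ j = z := by
        rw [← hi, zpow_add, zpow_mul, show z ^ (2 : ℤ) = 1 from (zpow_ofNat z 2).trans hz2, one_zpow, one_mul, zpow_one]
      have hfix : ρ (g ^ 2 ^ j) v = v := (stab ρ v).pow_mem (show g ∈ stab ρ v from hgv) _
      rw [hgz, hzneg] at hfix
      exact hv (h2V v hfix.symm)
  have hidx : (Subgroup.zpowers x).index = 2 := by
    have h := Subgroup.card_mul_index (Subgroup.zpowers x)
    rw [Nat.card_zpowers, hx, hcard, pow_succ] at h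
    exact Nat.eq_of_mul_eq_mul_left (by positivity) h
  -- every non-zero vector is fixed by exactly one outer involution
  have huniq : ∀ v : V, v ≠ 0 → ∃! t : {t : G // t ∉ Subgroup.zpowers x ∧ t ^ 2 = 1}, ρ t v = v := by
    intro v hv
    obtain ⟨v0, hv0, hv0s⟩ := hns
    obtain ⟨t, ht, ht1⟩ : ∃ t ∈ stab ρ v, t ≠ 1 := by
      by_contra hno
      push Not at hno
      have h1 := hs v0 v hv0 hv
      rw [(Subgroup.eq_bot_iff_forall (stab ρ v)).mpr hno, Subgroup.card_bot] at h1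
      exact hv0s (Subgroup.card_eq_one.mp h1)
    have hout : ∀ s ∈ stab ρ v, s ≠ 1 → s ∉ Subgroup.zpowers x := fun s hs' hs1 hsC => hs1 (hCfree s hsC v hv hs')
    have h2mem : ∀ s ∈ stab ρ v, s ≠ 1 → s * t = 1 := by
      intro s hs' hs1
      exact hCfree _ (by rw [Subgroup.mul_mem_iff_of_index_two hidx]; exact iff_of_false (hout s hs' hs1) (hout t ht ht1))
        v hv ((stab ρ v).mul_mem hs' ht)
    have htt := h2mem t ht ht1
    refine ⟨⟨t, hout t ht ht1, by rw [pow_two, htt]⟩, ht, fun s hsv => Subtype.ext ?_⟩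
    have hs1 : (s : G) ≠ 1 := fun h => s.2.1 (by rw [h]; exact one_mem _)
    exact mul_right_cancel ((h2mem s hsv hs1).trans htt.symm)
  let Fx : {t : G // t ∉ Subgroup.zpowers x ∧ t ^ 2 = 1} → Submodule (ZMod q) V := fun t => fixSet ρ {(t : G)}
  have hFx : ∀ t v, v ∈ Fx t ↔ ρ (t : G) v = v := fun t v => by
    rw [mem_fixSet]; exact ⟨fun h => h _ rfl, fun h g hg => hg ▸ h⟩
  -- all these fixed spaces are halves of `V`
  have hhalf : ∀ t, Nat.card V = Nat.card (Fx t) * Nat.card (Fx t) := by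
    intro t
    set a := x ^ 2 ^ (n - 2) with hadef
    have hconj : a * t * a⁻¹ = t * z := by
      obtain ⟨i, hi⟩ := (mem_or_mul_mem hx hy hcard t).resolve_left t.2.1
      rw [hi]
      have h1 : y⁻¹ * x * y = x ^ c := by
        have hinv : y⁻¹ = y := inv_eq_of_mul_eq_one_right (by rw [← pow_two, hy2])
        rw [hinv]; rw [hinv] at hyx; exact hyx
      have h2 : y⁻¹ * a * y = a ^ c := by
        have h3 := conj_pow (i := 2 ^ (n - 2)) (a := y⁻¹) (b := x)
        rw [inv_inv] at h3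
        rw [hadef, ← h3, h1, ← zpow_natCast, ← zpow_mul, ← zpow_natCast, ← zpow_mul, mul_comm]
      have h4 : a ^ c * a⁻¹ = z := by
        rw [← zpow_neg_one, ← zpow_add, hadef, ← zpow_natCast, ← zpow_mul, hzdef, ← zpow_natCast,
          ← mul_inv_eq_one, ← zpow_neg, ← zpow_add, ← orderOf_dvd_iff_zpow_eq_one, hx]
        refine ⟨k - 1, ?_⟩
        rw [h2n, h2n1, show c = 4 * k - 1 by linarith]; push_cast; ring
      have hcomm : Commute (x ^ i) a⁻¹ := (((Commute.refl x).zpow_left i).pow_right _).inv_right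
      calc a * (y * x ^ i) * a⁻¹ = y * (y⁻¹ * a * y) * (x ^ i * a⁻¹) := by group
        _ = y * ((a ^ c * a⁻¹) * x ^ i) := by rw [h2, hcomm.eq, mul_assoc, mul_assoc]
        _ = y * x ^ i * z := by rw [h4, ← Subgroup.mem_center_iff.mp hzc, mul_assoc]
    let Fm : Submodule (ZMod q) V := fixSet ρ {(t : G) * z}
    have hFm : ∀ v, v ∈ Fm ↔ ρ (t : G) v = -v := fun v => by
      rw [mem_fixSet]
      constructor
      · intro h
        have h1 := h _ rfl
        rw [app_mul ρ, hzneg, map_neg] at h1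
        rw [← neg_neg (ρ (t : G) v), h1]
      · rintro h _ rfl
        rw [app_mul ρ, hzneg, map_neg, h, neg_neg]
    have hcard2 : Nat.card Fm = Nat.card (Fx t) := by
      refine (Nat.card_congr (Equiv.subtypeEquiv (ρ a).toEquiv fun v => ?_)).symm
      show v ∈ Fx t ↔ ρ a v ∈ Fm
      rw [hFx]
      constructor
      · intro h
        rw [mem_fixSet]; rintro _ rfl
        rw [← hconj, ← app_mul ρ, inv_mul_cancel_right, app_mul ρ, h]
      · intro h
        have h1 := (mem_fixSet ρ).mp h _ rfl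
        rw [← hconj, ← app_mul ρ, inv_mul_cancel_right, app_mul ρ] at h1
        exact (ρ a).injective h1
    have hcompl : IsCompl (Fx t) Fm := by
      constructor
      · rw [Submodule.disjoint_def]
        intro v hv hv'
        rw [hFx] at hv; rw [hFm] at hv'
        exact h2V v (hv.symm.trans hv')
      · rw [codisjoint_iff, eq_top_iff]
        intro v _
        have htt : ρ (t : G) (ρ (t : G) v) = v := by rw [← app_mul ρ, ← pow_two, t.2.2, app_one ρ]
        have h2 : (2 : ZMod q) ≠ 0 := fun h2 => by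
          have h3 : ((2 : ℕ) : ZMod q) = 0 := by exact_mod_cast h2
          rw [ZMod.natCast_eq_zero_iff] at h3
          exact hq2 ((Nat.prime_dvd_prime_iff_eq hqq Nat.prime_two).mp h3)
        rw [Submodule.mem_sup]
        refine ⟨(2 : ZMod q)⁻¹ • (v + ρ (t : G) v), (hFx _ _).mpr ?_, (2 : ZMod q)⁻¹ • (v - ρ (t : G) v), (hFm _).mpr ?_, ?_⟩
        · rw [map_smul, map_add, htt, add_comm]
        · rw [map_smul, map_sub, htt, ← smul_neg, neg_sub]
        · rw [← smul_add, add_add_sub_cancel, ← two_smul (ZMod q), smul_smul, inv_mul_cancel₀ h2, one_smul]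
    rw [← Nat.card_congr (Submodule.prodEquivOfIsCompl _ _ hcompl).toEquiv, Nat.card_prod, hcard2]
  obtain ⟨v1, hv1⟩ := exists_ne (0 : V)
  obtain ⟨t1, ht1, -⟩ := huniq v1 hv1
  set F := Nat.card (Fx t1) with hF
  have hall : ∀ t, Nat.card (Fx t) = F := fun t =>
    Nat.mul_self_inj.mp ((hhalf t).symm.trans (hhalf t1))
  have key : Nat.card V - 1 = 2 ^ m * (F - 1) := by
    letI := Fintype.ofFinite {t : G // t ∉ Subgroup.zpowers x ∧ t ^ 2 = 1}
    choose τ hτ hτ' using huniq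
    have hiso : {v : V // v ≠ 0} ≃ Σ t, {v : Fx t // v ≠ 0} :=
      { toFun := fun v => ⟨τ v v.2, ⟨⟨v, (hFx _ _).mpr (hτ v v.2)⟩, fun h => v.2 (congrArg Subtype.val h)⟩⟩
        invFun := fun s => ⟨(s.2.1 : V), fun h => s.2.2 (Subtype.ext h)⟩
        left_inv := fun v => rfl
        right_inv := fun ⟨t, ⟨⟨v, hvt⟩, hv⟩⟩ => by
          have hv0 : v ≠ 0 := fun h => hv (Subtype.ext h)
          have heq : τ v hv0 = t := (hτ' v hv0 t ((hFx _ _).mp hvt)).symm
          subst heq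
          rfl }
    have h1 : ∀ (A : Type _) [Finite A] [Zero A], Nat.card {a : A // a ≠ 0} = Nat.card A - 1 := fun A _ _ => by
      have := Fintype.ofFinite A
      simp [Nat.card_eq_fintype_card, Fintype.card_subtype_compl]
    rw [← h1 V, Nat.card_congr hiso, Nat.card_sigma, Finset.sum_congr rfl fun t _ => (h1 (Fx t)).trans (by rw [hall t]),
      Finset.sum_const, Finset.card_univ, ← Nat.card_eq_fintype_card, hT, smul_eq_mul]
  have hF2 : 2 ≤ F := by
    haveI : Nontrivial (Fx t1) := ⟨⟨⟨v1, (hFx _ _).mpr ht1⟩, 0, fun h => hv1 (congrArg Subtype.val h)⟩⟩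
    exact Finite.one_lt_card
  have hFm : F + 1 = 2 ^ m := by
    rw [hhalf t1, ← hF] at key
    obtain ⟨G', hG'⟩ : ∃ G', F = G' + 2 := ⟨F - 2, by omega⟩
    rw [hG'] at key ⊢
    have h5 : (G' + 2) * (G' + 2) - 1 = (G' + 3) * (G' + 1) := by
      have : (G' + 2) * (G' + 2) = (G' + 3) * (G' + 1) + 1 := by ring
      omega
    rw [h5, show G' + 2 - 1 = G' + 1 by omega] at key
    exact Nat.eq_of_mul_eq_mul_right (by omega) key
  have hFq : F = q ^ Module.finrank (ZMod q) (Fx t1) := by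
    rw [hF, Module.natCard_eq_pow_finrank (K := ZMod q), Nat.card_zmod]
  have he : Module.finrank (ZMod q) (Fx t1) = 1 := by
    refine pow_add_one_eq_two_pow (Nat.pos_of_ne_zero fun h => ?_) hqq hq2 hm (hFq ▸ hFm)
    rw [h, pow_zero] at hFq
    omega
  rw [he, pow_one] at hFq
  exact ⟨by rw [hhalf t1, ← hF, hFq, pow_two], by omega⟩

end Cfsg.Agent.Lib.Elem69.Half
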