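import Cfsg.Agent.Lib.Elem69.BlockPairFusion
import Cfsg.Agent.Lib.Elem69.ContribGalois
import Cfsg.Agent.Lib.BrauerPairs.Deficiency
import Cfsg.Agent.Lib.BrauerFeit.DefectGroup
import Mathlib

/-!
# Heights, the centre of a defect group and the inertial index
-/

set_option autoImplicit false

namespace Cfsg.Agent.Lib.Elem69.HeightInertia

open Cfsg
open Cfsg.Agent.Lib
open Cfsg.Agent.Lib.BrauerPairs (IsPair PairLE conjPair coeffFun)
open Cfsg.Agent.Lib.Blocks (pPartExp)
open Cfsg.Agent.Lib.Star (part pairsOn mem_pairsOn)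
open scoped ComplexConjugate

attribute [local instance] Classical.propDecidable

universe u

variable {G : Type u} [Group G] [Fintype G] {p : ℕ} [Fact p.Prime] {M : Ideal AlgInt} [M.IsPrime]
  {B : Set (IrrCharacter G)}

/-- The squared norm of a part of `χ` on the section of `v`. -/
noncomputable def secNorm (p : ℕ) [Fact p.Prime] (χ : G → ℂ) (v : G) (a : BrauerPairIdx G) : ℝ :=
  ∑ z ∈ Finset.univ.filter (fun z : G => z ^ pPartExp G p = v), ‖part a χ z‖ ^ 2

theorem coe_norm_sq (w : ℂ) : ((‖w‖ ^ 2 : ℝ) : ℂ) = w * conj w := by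
  rw [Complex.mul_conj']
  push_cast
  rfl

theorem secNorm_nonneg (χ : G → ℂ) (v : G) (a : BrauerPairIdx G) : 0 ≤ secNorm p χ v a :=
  Finset.sum_nonneg fun _ _ => sq_nonneg _

theorem secNorm_conj {χ : G → ℂ} (hχ : IsClassFunction G χ) (v x : G) (a : BrauerPairIdx G) :
    secNorm p χ (x * v * x⁻¹) (conjPair x a) = secNorm p χ v a := by
  symm
  refine Finset.sum_equiv (MulAut.conj x).toEquiv (fun z => ?_) fun z _ => ?_
  · simp only [Finset.mem_filter, Finset.mem_univ, true_and, MulEquiv.toEquiv_eq_coe,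
      MulEquiv.coe_toEquiv, MulAut.conj_apply]
    rw [conj_pow]
    exact ⟨fun h => by rw [h], fun h => mul_left_cancel (mul_right_cancel h)⟩
  · simp only [MulEquiv.toEquiv_eq_coe, MulEquiv.coe_toEquiv, MulAut.conj_apply]
    rw [Star.part_conj hχ]

theorem sum_section' {v : G} (hv : ∃ k : ℕ, orderOf v = p ^ k)
    [Fintype (Subgroup.centralizer (Subgroup.zpowers v : Set G))] (f : G → ℂ) :
    ∑ z ∈ Finset.univ.filter (fun z : G => z ^ pPartExp G p = v), f z =
      ∑ y : Subgroup.centralizer (Subgroup.zpowers v : Set G),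
        (if p ∣ orderOf y then 0 else f (v * (y : G))) := by
  convert Star.sum_section hv f

theorem secNorm_eq_sum {v : G} (hv : ∃ k : ℕ, orderOf v = p ^ k) (a : BrauerPairIdx G)
    (ha : a.1 = Subgroup.zpowers v) [Fintype (Subgroup.centralizer (a.1 : Set G))] {χ : G → ℂ}
    (hχ : IsClassFunction G χ) :
    ((secNorm p χ v a : ℝ) : ℂ) = ∑ y : Subgroup.centralizer (a.1 : Set G),
      (if p ∣ orderOf y then 0 else
        blockPart a.2 (fun c : Subgroup.centralizer (a.1 : Set G) => χ (v * (c : G))) y *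
          conj (blockPart a.2 (fun c : Subgroup.centralizer (a.1 : Set G) => χ (v * (c : G))) y)) := by
  classical
  obtain ⟨Q, f⟩ := a
  change Q = Subgroup.zpowers v at ha
  subst ha
  rw [secNorm, Complex.ofReal_sum, Finset.sum_congr rfl fun z _ => coe_norm_sq _]
  refine (sum_section' hv fun z => part (⟨Subgroup.zpowers v, f⟩ : BrauerPairIdx G) χ z *
    conj (part (⟨Subgroup.zpowers v, f⟩ : BrauerPairIdx G) χ z)).trans
    (Finset.sum_congr rfl fun y _ => ?_)
  rw [Star.part_shift (⟨Subgroup.zpowers v, f⟩ : BrauerPairIdx G) hχ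
    Star.commute_of_centralizer_zpowers y]

/-- On a section the squared norm splits along the pairs. -/
theorem sum_secNorm (hM : IsPModular p M) {χ : G → ℂ} (hχ : IsClassFunction G χ) (v : G) :
    ∑ a ∈ pairsOn M (Subgroup.zpowers v), secNorm p χ v a =
      ∑ z ∈ Finset.univ.filter (fun z : G => z ^ pPartExp G p = v), ‖χ z‖ ^ 2 := by
  classical
  by_cases hne : ∃ z : G, z ^ pPartExp G p = v
  · obtain ⟨z₀, hz₀⟩ := hne
    have hv : ∃ k : ℕ, orderOf v = p ^ k :=
      (Blocks.isPPart_iff.2 hz₀.symm : IsPPart p z₀ v).choose_spec.2.2.1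
    apply Complex.ofReal_injective
    simp only [secNorm, Complex.ofReal_sum, coe_norm_sq]
    haveI := Fintype.ofFinite (Subgroup.centralizer (Subgroup.zpowers v : Set G))
    have hrhs : ∀ z, χ z * conj (χ z) = ∑ a ∈ pairsOn M (Subgroup.zpowers v),
        ∑ a' ∈ pairsOn M (Subgroup.zpowers v), part a χ z * conj (part a' χ z) := fun z => by
      rw [← Finset.sum_mul_sum, ← map_sum, Star.sum_part]
    rw [Finset.sum_congr (s₁ := Finset.univ.filter (fun z : G => z ^ pPartExp G p = v)) rfl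
      (fun z _ => hrhs z), Finset.sum_comm (s := Finset.univ.filter _)]
    refine Finset.sum_congr rfl fun a ha => ?_
    rw [Finset.sum_comm, Finset.sum_eq_single a]
    · intro a' ha' hne'
      obtain ⟨Q, f⟩ := a
      obtain ⟨Q', f'⟩ := a'
      obtain ⟨h1, h2⟩ := mem_pairsOn.1 ha
      obtain ⟨h3, h4⟩ := mem_pairsOn.1 ha'
      simp only at h1 h2 h3 h4
      subst h1
      subst h3
      rw [sum_section' hv, Finset.sum_congr rfl fun y _ => by
        rw [Star.part_shift (⟨Subgroup.zpowers v, f⟩ : BrauerPairIdx G) hχ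
          Star.commute_of_centralizer_zpowers y,
          Star.part_shift (⟨Subgroup.zpowers v, f'⟩ : BrauerPairIdx G) hχ
          Star.commute_of_centralizer_zpowers y]]
      exact Star.sum_regular_blockPart_mul_eq_zero hM h2 h4 (fun h => hne' (h ▸ rfl)) _ _
    · exact fun h => absurd ha h
  · push Not at hne
    have : Finset.univ.filter (fun z : G => z ^ pPartExp G p = v) = ∅ :=
      Finset.filter_eq_empty_iff.2 fun z _ => hne z
    simp [secNorm, this]

theorem sum_norm_sq_irr (χ : IrrCharacter G) :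
    ∑ z : G, ‖(χ : G → ℂ) z‖ ^ 2 = (Nat.card G : ℝ) := by
  have h := Chars.classInner_irr χ χ
  rw [if_pos rfl, classInner, inv_mul_eq_one₀ (Nat.cast_ne_zero.2 Nat.card_pos.ne')] at h
  apply Complex.ofReal_injective
  rw [Complex.ofReal_sum, Complex.ofReal_natCast, h]
  exact Finset.sum_congr rfl fun z _ => coe_norm_sq _

/-- Distinct elements with pairs take part of the squared norm. -/
theorem sum_secNorm_le (hM : IsPModular p M) (χ : IrrCharacter G)
    (S : Finset (G × BrauerPairIdx G))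
    (hS : ∀ o ∈ S, o.2 ∈ pairsOn M (Subgroup.zpowers o.1)) :
    ∑ o ∈ S, secNorm p (χ : G → ℂ) o.1 o.2 ≤ (Nat.card G : ℝ) := by
  classical
  refine (Finset.sum_le_sum_of_subset_of_nonneg
    (t := (Finset.univ : Finset G).biUnion fun v =>
      (pairsOn M (Subgroup.zpowers v)).image fun a => (v, a)) (fun o ho => ?_)
    fun _ _ _ => secNorm_nonneg _ _ _).trans_eq ?_
  · exact Finset.mem_biUnion.2 ⟨o.1, Finset.mem_univ _, Finset.mem_image.2 ⟨o.2, hS o ho, rfl⟩⟩
  · rw [Finset.sum_biUnion]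
    · rw [← sum_norm_sq_irr χ, ← Finset.sum_fiberwise Finset.univ (fun z : G => z ^ pPartExp G p)
        fun z => ‖(χ : G → ℂ) z‖ ^ 2]
      refine Finset.sum_congr rfl fun v _ => ?_
      rw [Finset.sum_image fun a _ a' _ h => (Prod.ext_iff.1 h).2,
        sum_secNorm hM (Chars.irr_isClassFunction χ)]
    · intro v _ w _ hvw
      refine Finset.disjoint_left.2 fun o h1 h2 => hvw ?_
      obtain ⟨a, -, rfl⟩ := Finset.mem_image.1 h1
      obtain ⟨a', -, h⟩ := Finset.mem_image.1 h2
      exact ((Prod.ext_iff.1 h).1).symm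

/-- The scaled contribution at a pair. -/
theorem scaled_secNorm_eq (hM : IsPModular p M) {v : G} (hv : ∃ k : ℕ, orderOf v = p ^ k)
    (a : BrauerPairIdx G) (ha : a.1 = Subgroup.zpowers v) (hb : IsPBlock M a.2)
    [Fintype (Subgroup.centralizer (a.1 : Set G))] (χ : IrrCharacter G) :
    (p : ℂ) ^ blockDefect p a.2 * Contrib.contrib p v a.2 χ χ =
      (((p : ℝ) ^ blockDefect p a.2 * secNorm p (χ : G → ℂ) v a /
        Nat.card (Subgroup.centralizer (a.1 : Set G)) : ℝ) : ℂ) := by
  have hC : Subgroup.centralizer (a.1 : Set G) = Subgroup.centralizer ({v} : Set G) := by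
    rw [ha, BrauerPairs.centralizer_zpowers]
  rw [← contrib_eq_sum_blockPart hM hC hb χ, Complex.ofReal_div, Complex.ofReal_mul,
    Complex.ofReal_pow, Complex.ofReal_natCast, Complex.ofReal_natCast,
    secNorm_eq_sum hv a ha (Chars.irr_isClassFunction χ)]
  ring

theorem zpowers_pow_eq {u : G} {t : ℕ} (h : t.Coprime (orderOf u)) :
    Subgroup.zpowers (u ^ t) = Subgroup.zpowers u :=
  le_antisymm (Subgroup.zpowers_le.2 ⟨t, by simp⟩) (Subgroup.zpowers_le.2 (by
    obtain ⟨m, hm⟩ := exists_pow_eq_self_of_coprime h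
    exact ⟨m, by simpa using hm⟩))

/-- The height is bounded through the centre of a maximal pair and an overgroup of its stabilizer. -/
theorem card_center_mul_pow_le (hM : IsPModular p M) {b : BrauerPairIdx G}
    (hmax : IsMaximalBrauerPair p M B b.1 b.2) {H T : Subgroup G}
    (hH : H = b.1 ⊔ Subgroup.centralizer (b.1 : Set G)) (hHT : H ≤ T)
    (hstab : ∀ x, conjPair x b = b → x ∈ T) {χ : IrrCharacter G} (hχ : χ ∈ B) :
    Nat.card (Subgroup.center b.1) * p ^ blockHeight p B (χ : G → ℂ) ≤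
      H.relIndex T * p ^ blockDefect p B := by
  classical
  set D := b.1 with hD
  have hbP : IsPair p M b := hmax.1.1
  have hB := hmax.1.2.1
  set Z : Finset G := Finset.univ.filter fun u => u ∈ D ∧ u ∈ Subgroup.centralizer (D : Set G)
    with hZdef
  have hZcard : Z.card = Nat.card (Subgroup.center D) := by
    rw [Nat.card_eq_fintype_card, ← Finset.card_univ]
    refine Finset.card_bij' (fun u hu => ⟨⟨u, (Finset.mem_filter.1 hu).2.1⟩,
      Subgroup.mem_center_iff.2 fun g => Subtype.ext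
        (Subgroup.mem_centralizer_iff.1 (Finset.mem_filter.1 hu).2.2 (g : G) g.2)⟩)
      (fun w _ => ((w : D) : G)) (fun _ _ => Finset.mem_univ _)
      (fun w _ => Finset.mem_filter.2 ⟨Finset.mem_univ _, (w : D).2,
        Subgroup.mem_centralizer_iff.2 fun g hg =>
          congrArg Subtype.val (Subgroup.mem_center_iff.1 w.2 ⟨g, hg⟩)⟩)
      (fun _ _ => rfl) (fun _ _ => rfl)
  -- the pairs below `b`
  have hex : ∀ Q : Subgroup G, ∃ a : BrauerPairIdx G, Q ≤ D → a.1 = Q ∧ PairLE p M a b := fun Q => by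
    by_cases hQ : Q ≤ D
    · obtain ⟨a, h1, h2⟩ := BrauerPairs.exists_pairLE hM hbP hQ
      exact ⟨a, fun _ => ⟨h1, h2⟩⟩
    · exact ⟨b, fun h => absurd h hQ⟩
  choose A hA using hex
  have hZ : ∀ u ∈ Z, (∃ j : ℕ, orderOf u = p ^ j) ∧ (A (Subgroup.zpowers u)).1 = Subgroup.zpowers u ∧
      PairLE p M (A (Subgroup.zpowers u)) b ∧
      D ≤ Subgroup.centralizer ((A (Subgroup.zpowers u)).1 : Set G) ∧
      IsBrauerPairOf p M B (A (Subgroup.zpowers u)).1 (A (Subgroup.zpowers u)).2 ∧
      blockDefect p (A (Subgroup.zpowers u)).2 = blockDefect p B := by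
    intro u hu
    obtain ⟨huD, huC⟩ := (Finset.mem_filter.1 hu).2
    obtain ⟨h1, h2⟩ := hA (Subgroup.zpowers u) (Subgroup.zpowers_le.2 huD)
    have hcen : D ≤ Subgroup.centralizer ((A (Subgroup.zpowers u)).1 : Set G) := by
      rw [h1, BrauerPairs.centralizer_zpowers]
      exact fun d hd => Subgroup.mem_centralizer_singleton_iff.2
        (Subgroup.mem_centralizer_iff.1 huC d hd)
    have hpair := (BrauerMap.isBrauerPairOf_iff_of_subpairLE hM
      (Q := (A (Subgroup.zpowers u)).1) (P := b.1) h2 hbP hB).1 hmax.1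
    obtain ⟨k, hk⟩ := IsPGroup.iff_orderOf.1 hbP.1 ⟨u, huD⟩
    exact ⟨⟨k, (Subgroup.orderOf_mk u huD).symm.trans hk⟩, h1, h2, hcen, hpair,
      le_antisymm (BrauerPairs.blockDefect_le_of_pair hM hpair)
        (BrauerPairs.blockDefect_ge_of_central hM hmax h2 hcen)⟩
  set g : G → ℝ := fun u => (p : ℝ) ^ blockDefect p B *
    secNorm p (χ : G → ℂ) u (A (Subgroup.zpowers u)) /
      Nat.card (Subgroup.centralizer ((A (Subgroup.zpowers u)).1 : Set G)) with hg
  -- the lower bound
  have hlow : (Z.card : ℝ) * (p : ℝ) ^ blockHeight p B (χ : G → ℂ) ≤ ∑ u ∈ Z, g u := by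
    rw [← Finset.sum_fiberwise_of_maps_to (t := Z.image orderOf)
      (fun u hu => Finset.mem_image_of_mem _ hu) g,
      Finset.card_eq_sum_card_image orderOf Z, Nat.cast_sum, Finset.sum_mul]
    refine Finset.sum_le_sum fun m hm => ?_
    obtain ⟨u₀, hu₀, rfl⟩ := Finset.mem_image.1 hm
    obtain ⟨⟨j, hj⟩, -⟩ := hZ u₀ hu₀
    rw [hj]
    set Zj := Z.filter fun u => orderOf u = p ^ j with hZj
    haveI : NeZero (p ^ (j + 1)) := ⟨pow_ne_zero _ hM.1.ne_zero⟩
    set U := Fintype.card (ZMod (p ^ (j + 1)))ˣ with hU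
    have hUpos : (0 : ℝ) < U := Nat.cast_pos.2 Fintype.card_pos
    refine le_of_mul_le_mul_left (a := (U : ℝ)) ?_ hUpos
    have hcop : ∀ x : (ZMod (p ^ (j + 1)))ˣ, ∀ u ∈ Zj,
        (x : ZMod (p ^ (j + 1))).val.Coprime (orderOf u) := fun x u hu => by
      rw [(Finset.mem_filter.1 hu).2]
      exact (ZMod.val_coe_unit_coprime x).coprime_dvd_right (pow_dvd_pow p j.le_succ)
    have hperm : ∀ x : (ZMod (p ^ (j + 1)))ˣ,
        ∑ u ∈ Zj, g (u ^ (x : ZMod (p ^ (j + 1))).val) = ∑ u ∈ Zj, g u := by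
      intro x
      have hinj : Set.InjOn (fun u : G => u ^ (x : ZMod (p ^ (j + 1))).val) Zj := by
        intro u hu w hw h
        have h' : u ^ (x : ZMod (p ^ (j + 1))).val = w ^ (x : ZMod (p ^ (j + 1))).val := h
        have e : ∀ y ∈ Zj, y ^ p ^ (j + 1) = 1 := fun y hy => by
          rw [pow_succ, pow_mul, ← (Finset.mem_filter.1 hy).2, pow_orderOf_eq_one, one_pow]
        obtain ⟨m, hm⟩ : ∃ m, (x : ZMod (p ^ (j + 1))).val * m % p ^ (j + 1) = 1 := by
          refine ⟨((x⁻¹ : (ZMod (p ^ (j + 1)))ˣ) : ZMod (p ^ (j + 1))).val, ?_⟩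
          haveI : Fact (1 < p ^ (j + 1)) := ⟨Nat.one_lt_pow j.succ_ne_zero hM.1.one_lt⟩
          rw [← ZMod.val_mul, ← Units.val_mul, mul_inv_cancel, Units.val_one, ZMod.val_one]
        calc u = (u ^ (x : ZMod (p ^ (j + 1))).val) ^ m := by
              rw [← pow_mul, pow_eq_pow_mod _ (e u hu), hm, pow_one]
          _ = (w ^ (x : ZMod (p ^ (j + 1))).val) ^ m := by rw [h']
          _ = w := by rw [← pow_mul, pow_eq_pow_mod _ (e w hw), hm, pow_one]
      rw [← Finset.sum_image hinj]
      refine Finset.sum_congr (Finset.eq_of_subset_of_card_le ?_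
        (Finset.card_image_of_injOn hinj).ge) fun _ _ => rfl
      intro w hw
      obtain ⟨u, hu, rfl⟩ := Finset.mem_image.1 hw
      obtain ⟨huZ, huj⟩ := Finset.mem_filter.1 hu
      obtain ⟨huD, huC⟩ := (Finset.mem_filter.1 huZ).2
      exact Finset.mem_filter.2 ⟨Finset.mem_filter.2 ⟨Finset.mem_univ _, pow_mem huD _, pow_mem huC _⟩,
        by rw [Nat.Coprime.orderOf_pow (hcop x u hu).symm, huj]⟩
    calc (U : ℝ) * ((Zj.card : ℝ) * (p : ℝ) ^ blockHeight p B (χ : G → ℂ))
        = ∑ _u ∈ Zj, (U : ℝ) * (p : ℝ) ^ blockHeight p B (χ : G → ℂ) := by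
          rw [Finset.sum_const, nsmul_eq_mul]; ring
      _ ≤ ∑ u ∈ Zj, ∑ x : (ZMod (p ^ (j + 1)))ˣ, g (u ^ (x : ZMod (p ^ (j + 1))).val) := by
          refine Finset.sum_le_sum fun u hu => ?_
          obtain ⟨huZ, huj⟩ := Finset.mem_filter.1 hu
          obtain ⟨-, h1, -, -, hpair, hmaj⟩ := hZ u huZ
          haveI := Fintype.ofFinite
            (Subgroup.centralizer ((A (Subgroup.zpowers u)).1 : Set G))
          refine (card_mul_pow_le_sum hM huj
            (by rw [h1, BrauerPairs.centralizer_zpowers])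
            (Star.isInducedBlock_of_isBrauerPairOf hM hpair) hmaj hχ).trans_eq
            (Finset.sum_congr rfl fun x _ => ?_)
          have hzp := zpowers_pow_eq (hcop x u hu)
          rw [scaled_secNorm_eq hM ⟨j, by rw [Nat.Coprime.orderOf_pow (hcop x u hu).symm, huj]⟩
            (A (Subgroup.zpowers u)) (h1.trans hzp.symm) hpair.1.2 χ, Complex.ofReal_re, hmaj]
          simp only [hg, hzp]
      _ = (U : ℝ) * ∑ u ∈ Zj, g u := by
          rw [Finset.sum_comm, Finset.sum_congr rfl fun x _ => hperm x, Finset.sum_const,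
            Finset.card_univ, nsmul_eq_mul]
  -- the upper bound
  let O : G → Finset (G × BrauerPairIdx G) := fun u =>
    Finset.univ.image fun x : G => (x * u * x⁻¹, conjPair x (A (Subgroup.zpowers u)))
  have hup : ∑ u ∈ Z, g u ≤ (H.relIndex T : ℝ) * (p : ℝ) ^ blockDefect p B := by
    have hG : (0 : ℝ) < Nat.card G := Nat.cast_pos.2 Nat.card_pos
    refine le_of_mul_le_mul_left (a := (Nat.card G : ℝ)) ?_ hG
    have hOu : ∀ u ∈ Z, (Nat.card G : ℝ) * g u ≤ (p : ℝ) ^ blockDefect p B *
        ∑ o ∈ O u, secNorm p (χ : G → ℂ) o.1 o.2 := by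
      intro u hu
      obtain ⟨-, h1, -⟩ := hZ u hu
      have hconst : ∀ o ∈ O u,
          secNorm p (χ : G → ℂ) o.1 o.2 = secNorm p (χ : G → ℂ) u (A (Subgroup.zpowers u)) := by
        intro o ho
        obtain ⟨x, -, rfl⟩ := Finset.mem_image.1 ho
        exact secNorm_conj (Chars.irr_isClassFunction χ) u x _
      have hC : Subgroup.centralizer ((A (Subgroup.zpowers u)).1 : Set G) =
          Subgroup.centralizer ({u} : Set G) := by rw [h1, BrauerPairs.centralizer_zpowers]
      have hcard : (Nat.card G : ℝ) ≤ ((O u).card : ℝ) *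
          Nat.card (Subgroup.centralizer ((A (Subgroup.zpowers u)).1 : Set G)) := by
        rw [hC]
        have h : (Subgroup.centralizer ({u} : Set G)).index ≤ (O u).card := by
          rw [← Chars.card_conjClass_eq_index, Nat.card_eq_fintype_card, Fintype.card_subtype]
          refine le_trans (Finset.card_le_card ?_) (Finset.card_image_le (f := Prod.fst) (s := O u))
          intro w hw
          obtain ⟨x, hx⟩ := isConj_iff.1 (Finset.mem_filter.1 hw).2
          exact Finset.mem_image.2 ⟨_, Finset.mem_image.2 ⟨x, Finset.mem_univ _, rfl⟩, hx⟩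
        exact_mod_cast (Subgroup.index_mul_card _).symm.le.trans (Nat.mul_le_mul_right _ h)
      rw [Finset.sum_congr rfl hconst, Finset.sum_const, nsmul_eq_mul]
      simp only [hg]
      set c : ℝ := (Nat.card (Subgroup.centralizer ((A (Subgroup.zpowers u)).1 : Set G)) : ℝ)
      have hc : 0 < c := Nat.cast_pos.2 Nat.card_pos
      rw [mul_div_assoc', div_le_iff₀ hc]
      have := secNorm_nonneg (p := p) (χ : G → ℂ) u (A (Subgroup.zpowers u))
      calc (Nat.card G : ℝ) * ((p : ℝ) ^ blockDefect p B *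
            secNorm p (χ : G → ℂ) u (A (Subgroup.zpowers u)))
          ≤ ((O u).card : ℝ) * c * ((p : ℝ) ^ blockDefect p B *
            secNorm p (χ : G → ℂ) u (A (Subgroup.zpowers u))) :=
            mul_le_mul_of_nonneg_right hcard (by positivity)
        _ = _ := by ring
    rw [Finset.mul_sum]
    refine (Finset.sum_le_sum hOu).trans ?_
    rw [← Finset.mul_sum]
    set S := Z.biUnion O with hS
    have hfib : ∀ o ∈ S, (Z.filter fun u => o ∈ O u).card ≤ H.relIndex T := by
      intro o ho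
      obtain ⟨u, hu, hou⟩ := Finset.mem_biUnion.1 ho
      obtain ⟨x, -, rfl⟩ := Finset.mem_image.1 hou
      obtain ⟨-, h1, h2, h3, hpair, -⟩ := hZ u hu
      let R : T ⧸ H.subgroupOf T → G := fun q => (q.out : G) * u * (q.out : G)⁻¹
      haveI := Fintype.ofFinite (T ⧸ H.subgroupOf T)
      refine le_trans (Finset.card_le_card (t := Finset.univ.image R) fun w hw => ?_)
        (Finset.card_image_le.trans_eq ?_)
      · obtain ⟨hwZ, hwo⟩ := Finset.mem_filter.1 hw
        obtain ⟨y, -, hy⟩ := Finset.mem_image.1 hwo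
        obtain ⟨hy1, hy2⟩ := Prod.ext_iff.1 hy
        simp only at hy1 hy2
        obtain ⟨-, h1', h2', h3', hpair', -⟩ := hZ w hwZ
        have hconj : conjPair (y⁻¹ * x) (A (Subgroup.zpowers u)) = A (Subgroup.zpowers w) := by
          rw [← BrauerPairs.conjPair_mul hpair.1.2, ← hy2,
            BrauerPairs.conjPair_inv_cancel hpair'.1.2]
        obtain ⟨k, hk, hkb⟩ := exists_stab_conj hM hmax h2 h2' h3 h3' hconj
        have hw' : y⁻¹ * x * u * (y⁻¹ * x)⁻¹ = w := by
          calc y⁻¹ * x * u * (y⁻¹ * x)⁻¹ = y⁻¹ * (x * u * x⁻¹) * y := by group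
            _ = y⁻¹ * (y * w * y⁻¹) * y := by rw [hy1]
            _ = w := by group
        rw [h1', BrauerPairs.centralizer_zpowers, Subgroup.mem_centralizer_singleton_iff] at hk
        set t : T := ⟨k * (y⁻¹ * x), hstab _ hkb⟩ with ht
        refine Finset.mem_image.2 ⟨(t : T ⧸ H.subgroupOf T), Finset.mem_univ _, ?_⟩
        obtain ⟨s, hs⟩ := QuotientGroup.mk_out_eq_mul (H.subgroupOf T) t
        have hsu : ((s : T) : G) * u = u * ((s : T) : G) := by
          have hsH : ((s : T) : G) ∈ b.1 ⊔ Subgroup.centralizer (b.1 : Set G) := hH.le s.2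
          refine Subgroup.mem_centralizer_singleton_iff.1 ((sup_le ?_ ?_ : b.1 ⊔
            Subgroup.centralizer (b.1 : Set G) ≤ Subgroup.centralizer ({u} : Set G)) hsH)
          · rw [← BrauerPairs.centralizer_zpowers, ← h1]
            exact h3
          · exact fun c hc => Subgroup.mem_centralizer_singleton_iff.2
              (Subgroup.mem_centralizer_iff.1 hc u (Finset.mem_filter.1 hu).2.1).symm
        show ((Quotient.out (t : T ⧸ H.subgroupOf T) : T) : G) * u *
          ((Quotient.out (t : T ⧸ H.subgroupOf T) : T) : G)⁻¹ = w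
        rw [hs, Subgroup.coe_mul]
        calc (t : G) * ((s : T) : G) * u * ((t : G) * ((s : T) : G))⁻¹
            = (t : G) * (((s : T) : G) * u) * ((t : G) * ((s : T) : G))⁻¹ := by group
          _ = k * (y⁻¹ * x * u * (y⁻¹ * x)⁻¹) * k⁻¹ := by rw [hsu, ht]; group
          _ = w := by rw [hw', hk]; group
      · rw [Finset.card_univ, ← Nat.card_eq_fintype_card]
        rfl
    have hdouble : ∑ u ∈ Z, ∑ o ∈ O u, secNorm p (χ : G → ℂ) o.1 o.2 =
        ∑ o ∈ S, ((Z.filter fun u => o ∈ O u).card : ℝ) * secNorm p (χ : G → ℂ) o.1 o.2 := by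
      rw [Finset.sum_comm' (t' := S) (s' := fun o => Z.filter fun u => o ∈ O u)]
      · simp [Finset.sum_const]
      · intro u o
        simp only [Finset.mem_filter, hS, Finset.mem_biUnion]
        exact ⟨fun h => ⟨h, u, h.1, h.2⟩, fun h => h.1⟩
    have hSle : ∑ o ∈ S, secNorm p (χ : G → ℂ) o.1 o.2 ≤ (Nat.card G : ℝ) := by
      refine sum_secNorm_le hM χ S fun o ho => ?_
      obtain ⟨u, hu, hou⟩ := Finset.mem_biUnion.1 ho
      obtain ⟨x, -, rfl⟩ := Finset.mem_image.1 hou
      obtain ⟨-, h1, -, -, hpair, -⟩ := hZ u hu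
      refine mem_pairsOn.2 ⟨?_, BrauerPairs.isPBlock_conjPair hpair.1.2 x⟩
      rw [BrauerPairs.conjPair_fst, h1, MonoidHom.map_zpowers]
      rfl
    rw [hdouble]
    calc (p : ℝ) ^ blockDefect p B * ∑ o ∈ S, ((Z.filter fun u => o ∈ O u).card : ℝ) *
          secNorm p (χ : G → ℂ) o.1 o.2
        ≤ (p : ℝ) ^ blockDefect p B * ((H.relIndex T : ℝ) * (Nat.card G : ℝ)) := by
          refine mul_le_mul_of_nonneg_left ?_ (by positivity)
          refine le_trans (Finset.sum_le_sum fun o ho => mul_le_mul_of_nonneg_right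
            (Nat.cast_le.2 (hfib o ho)) (secNorm_nonneg _ _ _)) ?_
          rw [← Finset.mul_sum]
          exact mul_le_mul_of_nonneg_left hSle (by positivity)
      _ = _ := by ring
  have := hlow.trans hup
  rw [hZcard] at this
  exact_mod_cast this

end Cfsg.Agent.Lib.Elem69.HeightInertia
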