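import Mathlib

/-!
# Theta series of positive definite unimodular integral forms
-/

namespace Cfsg.Agent.Lib.Elem69.LatticeTheta

open Matrix MeasureTheory Complex Filter Topology
open scoped Real MatrixOrder ComplexConjugate

variable {ι : Type*} [Fintype ι]

/-- The value of the form. -/
def qf (B : Matrix ι ι ℤ) (x : ι → ℤ) : ℤ := x ⬝ᵥ (B *ᵥ x)

/-- The sum of squares. -/
def sq (v : ι → ℝ) : ℝ := ∑ i, v i ^ 2

/-- Real extension of the form. -/
noncomputable def qr (B : Matrix ι ι ℤ) (v : ι → ℝ) : ℝ := v ⬝ᵥ ((B.map (Int.cast : ℤ → ℝ)) *ᵥ v)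

theorem cast_mulVec (B : Matrix ι ι ℤ) (x : ι → ℤ) :
    (B.map (Int.cast : ℤ → ℝ)) *ᵥ (fun i => (x i : ℝ)) = fun i => (((B *ᵥ x) i : ℤ) : ℝ) := by
  funext i
  simp [Matrix.mulVec, dotProduct]

theorem qr_cast (B : Matrix ι ι ℤ) (x : ι → ℤ) : qr B (fun i => (x i : ℝ)) = (qf B x : ℝ) := by
  rw [qr, cast_mulVec, qf]
  simp [dotProduct]

/-- A real square root of an integral positive form with invertible matrix. -/
theorem exists_root [DecidableEq ι] (B : Matrix ι ι ℤ) (hsymm : B.IsSymm)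
    (hpos : ∀ x : ι → ℤ, x ≠ 0 → 0 < qf B x) (hdet : B.det = 1) :
    ∃ A : Matrix ι ι ℝ, |A.det| = 1 ∧ (∀ v, qr B v = sq (A *ᵥ v)) ∧ B.map (Int.cast : ℤ → ℝ) = Aᵀ * A := by
  set M := B.map (Int.cast : ℤ → ℝ) with hM
  have hnn : ∀ v, 0 ≤ qr B v := by
    intro v
    have hclosed : IsClosed {w : ι → ℝ | 0 ≤ qr B w} := by
      refine isClosed_le continuous_const ?_
      unfold qr
      fun_prop
    have hd : DenseRange (Pi.map fun _ : ι => ((↑) : ℚ → ℝ)) := DenseRange.piMap fun _ => Rat.denseRange_cast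
    refine hd.induction_on v hclosed fun w => ?_
    let N : ℕ := ∏ i, (w i).den
    have hN : 0 < N := Finset.prod_pos fun i _ => (w i).pos
    let x : ι → ℤ := fun i => (w i).num * ((N / (w i).den : ℕ) : ℤ)
    have hx : (fun i => (x i : ℝ)) = (N : ℝ) • (Pi.map (fun _ : ι => ((↑) : ℚ → ℝ)) w) := by
      funext i
      obtain ⟨c, hc⟩ : (w i).den ∣ N := Finset.dvd_prod_of_mem _ (Finset.mem_univ i)
      have hc' : N / (w i).den = c := by rw [hc, Nat.mul_div_cancel_left _ (w i).pos]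
      have hq : ((x i : ℤ) : ℚ) = (N : ℚ) * w i := by
        simp only [x, hc']
        rw [hc]
        push_cast
        rw [mul_comm (((w i).den : ℚ)) (c : ℚ), mul_assoc, Rat.den_mul_eq_num]
        ring
      show ((x i : ℤ) : ℝ) = (N : ℝ) * ((w i : ℚ) : ℝ)
      exact_mod_cast hq
    have h0 : (0 : ℝ) ≤ qr B (fun i => (x i : ℝ)) := by
      rw [qr_cast]
      by_cases h : x = 0
      · simp [h, qf]
      · exact_mod_cast (hpos x h).le
    rw [hx] at h0
    have : qr B ((N : ℝ) • Pi.map (fun _ : ι => ((↑) : ℚ → ℝ)) w) =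
        (N : ℝ) * N * qr B (Pi.map (fun _ : ι => ((↑) : ℚ → ℝ)) w) := by
      simp [qr, Matrix.mulVec_smul, dotProduct_smul, smul_dotProduct, mul_assoc]
    rw [this] at h0
    exact (mul_nonneg_iff_of_pos_left (by positivity)).mp h0
  have hH : M.IsHermitian := by
    ext i j
    have := congrFun (congrFun hsymm i) j
    simp only [Matrix.transpose_apply] at this
    simp [hM, this]
  have hps : M.PosSemidef := Matrix.PosSemidef.of_dotProduct_mulVec_nonneg hH fun v => by simpa [qr] using hnn v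
  obtain ⟨A, hA⟩ := CStarAlgebra.nonneg_iff_eq_star_mul_self.mp hps.nonneg
  rw [Matrix.star_eq_conjTranspose, Matrix.conjTranspose_eq_transpose_of_trivial] at hA
  have hdM : M.det = 1 := by
    have := (Int.castRingHom ℝ).map_det B
    rw [hdet] at this
    simpa [hM] using this.symm
  refine ⟨A, ?_, fun v => ?_, hA⟩
  · rw [hA, Matrix.det_mul, Matrix.det_transpose] at hdM
    nlinarith [abs_mul_abs_self A.det, abs_nonneg A.det]
  · rw [qr, ← hM, hA, ← Matrix.mulVec_mulVec, Matrix.dotProduct_mulVec, Matrix.vecMul_transpose, sq]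
    simp [dotProduct, pow_two]

/-- A lower bound of the form by the sum of squares. -/
theorem exists_lower [DecidableEq ι] {A : Matrix ι ι ℝ} (hA : |A.det| = 1) :
    ∃ c : ℝ, 0 < c ∧ ∀ v, c * sq v ≤ sq (A *ᵥ v) := by
  have hu : IsUnit A.det := isUnit_iff_ne_zero.mpr fun h => by rw [h, abs_zero] at hA; exact zero_ne_one hA
  refine ⟨(1 + ∑ i, ∑ j, A⁻¹ i j ^ 2)⁻¹, by positivity, fun v => ?_⟩
  have hv : v = A⁻¹ *ᵥ (A *ᵥ v) := by rw [Matrix.mulVec_mulVec, Matrix.nonsing_inv_mul _ hu, Matrix.one_mulVec]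
  rw [inv_mul_le_iff₀ (by positivity)]
  have h0 : 0 ≤ sq (A *ᵥ v) := Finset.sum_nonneg fun i _ => sq_nonneg _
  calc sq v = ∑ i, (∑ j, A⁻¹ i j * (A *ᵥ v) j) ^ 2 := Finset.sum_congr rfl fun i _ => by
        conv_lhs => rw [hv]
        rfl
    _ ≤ ∑ i, (∑ j, A⁻¹ i j ^ 2) * sq (A *ᵥ v) :=
        Finset.sum_le_sum fun i _ => Finset.sum_mul_sq_le_sq_mul_sq _ _ _
    _ ≤ (1 + ∑ i, ∑ j, A⁻¹ i j ^ 2) * sq (A *ᵥ v) := by rw [← Finset.sum_mul]; nlinarith

theorem summable_exp_int {c : ℝ} (hc : 0 < c) : Summable fun k : ℤ => Real.exp (-c * (k : ℝ) ^ 2) := by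
  have hbound : ∀ n : ℕ, Real.exp (-c * (n : ℝ) ^ 2) ≤ Real.exp (-c) ^ n := fun n => by
    rw [← Real.exp_nat_mul, Real.exp_le_exp]
    have : (n : ℝ) ≤ (n : ℝ) ^ 2 := by exact_mod_cast Nat.le_self_pow two_ne_zero n
    nlinarith
  have hsum : Summable fun n : ℕ => Real.exp (-c * (n : ℝ) ^ 2) :=
    Summable.of_nonneg_of_le (fun n => (Real.exp_pos _).le) hbound
      (summable_geometric_of_lt_one (Real.exp_pos _).le (Real.exp_lt_one_iff.mpr (neg_lt_zero.mpr hc)))
  exact Summable.of_nat_of_neg (by simpa using hsum) (by simpa using hsum)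

theorem summable_prod_pi {g : ℤ → ℝ} (hg : Summable g) (hg0 : ∀ k, 0 ≤ g k) :
    Summable fun k : ι → ℤ => ∏ i, g (k i) := by
  classical
  refine summable_of_sum_le (c := (∑' k, g k) ^ Fintype.card ι)
    (fun k => Finset.prod_nonneg fun i _ => hg0 _) fun u => ?_
  let box : Finset ℤ := u.biUnion fun k => Finset.univ.image k
  calc ∑ k ∈ u, ∏ i, g (k i) ≤ ∑ k ∈ Fintype.piFinset (fun _ : ι => box), ∏ i, g (k i) := by
        refine Finset.sum_le_sum_of_subset_of_nonneg (fun k hk => Fintype.mem_piFinset.mpr fun i =>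
          Finset.mem_biUnion.mpr ⟨k, hk, Finset.mem_image_of_mem k (Finset.mem_univ i)⟩)
          fun k _ _ => Finset.prod_nonneg fun i _ => hg0 _
    _ = ∏ _i : ι, ∑ a ∈ box, g a := (Finset.prod_univ_sum (fun _ : ι => box) fun _ a => g a).symm
    _ ≤ (∑' k, g k) ^ Fintype.card ι := by
        rw [Finset.prod_const, Finset.card_univ]
        exact pow_le_pow_left₀ (Finset.sum_nonneg fun a _ => hg0 a) (hg.sum_le_tsum box fun a _ => hg0 a) _

theorem summable_exp_sq {c : ℝ} (hc : 0 < c) :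
    Summable fun k : ι → ℤ => Real.exp (-c * sq fun i => (k i : ℝ)) := by
  refine (summable_prod_pi (summable_exp_int hc) fun k => (Real.exp_pos _).le).congr fun k => ?_
  rw [← Real.exp_sum, sq, Finset.mul_sum]

/-- The term of the theta series. -/
noncomputable def term (B : Matrix ι ι ℤ) (τ : ℂ) (k : ι → ℤ) : ℂ := cexp (π * I * τ * (qf B k : ℂ))

/-- The theta series. -/
noncomputable def theta (B : Matrix ι ι ℤ) (τ : ℂ) : ℂ := ∑' k, term B τ k

theorem norm_term (B : Matrix ι ι ℤ) (τ : ℂ) (k : ι → ℤ) :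
    ‖term B τ k‖ = Real.exp (-π * τ.im * (qf B k : ℝ)) := by
  simp [term, Complex.norm_exp, mul_re, mul_im]

variable [DecidableEq ι] {B : Matrix ι ι ℤ} (hsymm : B.IsSymm)
    (hpos : ∀ x : ι → ℤ, x ≠ 0 → 0 < qf B x) (hdet : B.det = 1)

include hsymm hpos hdet

theorem summable_qf {c : ℝ} (hc : 0 < c) : Summable fun k : ι → ℤ => Real.exp (-c * (qf B k : ℝ)) := by
  obtain ⟨A, hA1, hA, -⟩ := exists_root B hsymm hpos hdet
  obtain ⟨d, hd, hd'⟩ := exists_lower hA1
  refine Summable.of_nonneg_of_le (fun k => (Real.exp_pos _).le) (fun k => ?_)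
    (summable_exp_sq (ι := ι) (mul_pos hc hd))
  rw [Real.exp_le_exp, ← qr_cast, hA]
  nlinarith [hd' fun i => (k i : ℝ)]

theorem qf_nonneg (k : ι → ℤ) : 0 ≤ qf B k := by
  by_cases h : k = 0
  · simp [h, qf]
  · exact (hpos k h).le

theorem summable_term {τ : ℂ} (hτ : 0 < τ.im) : Summable (term B τ) := by
  refine Summable.of_norm_bounded (summable_qf hsymm hpos hdet (mul_pos Real.pi_pos hτ)) fun k => ?_
  rw [norm_term, ← neg_mul]

theorem differentiableOn_theta : DifferentiableOn ℂ (theta B) {τ : ℂ | 0 < τ.im} := by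
  intro τ hτ
  rw [Set.mem_setOf_eq] at hτ
  have hU : IsOpen {w : ℂ | τ.im / 2 < w.im} := isOpen_lt continuous_const Complex.continuous_im
  have h := differentiableOn_tsum_of_summable_norm (F := fun k w => term B w k)
    (summable_qf hsymm hpos hdet (mul_pos Real.pi_pos (half_pos hτ)))
    (fun k => by unfold term; fun_prop) hU (fun k w hw => by
      rw [norm_term, Real.exp_le_exp]
      rw [Set.mem_setOf_eq] at hw
      have h1 : (0 : ℝ) ≤ (qf B k : ℝ) := by exact_mod_cast qf_nonneg hsymm hpos hdet k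
      have h2 := mul_le_mul_of_nonneg_left hw.le Real.pi_pos.le
      nlinarith)
  exact (h.differentiableAt (hU.mem_nhds (by rw [Set.mem_setOf_eq]; linarith))).differentiableWithinAt

theorem norm_theta_le {τ : ℂ} (hτ : 1 ≤ τ.im) :
    ‖theta B τ‖ ≤ ∑' k : ι → ℤ, Real.exp (-π * (qf B k : ℝ)) := by
  have hs := summable_qf hsymm hpos hdet Real.pi_pos
  refine tsum_of_norm_bounded hs.hasSum fun k => ?_
  rw [norm_term, Real.exp_le_exp]
  have h1 : (0 : ℝ) ≤ (qf B k : ℝ) := by exact_mod_cast qf_nonneg hsymm hpos hdet k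
  have h2 := mul_le_mul_of_nonneg_left hτ Real.pi_pos.le
  nlinarith

end Cfsg.Agent.Lib.Elem69.LatticeTheta
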