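import Mathlib
import Cfsg.Agent.Lib.Elem69.LatticeTheta

/-!
# The transformation formula of the theta series of a unimodular form
-/

namespace Cfsg.Agent.Lib.Elem69.LatticeTheta

open Matrix MeasureTheory Complex Filter Topology
open scoped Real

variable {ι : Type*} [Fintype ι]

/-- The Gaussian attached to the form. -/
noncomputable def gauss (B : Matrix ι ι ℤ) (b : ℂ) (x : ι → ℝ) : ℂ := cexp (-(π * b) * (qr B x : ℂ))

/-- The character attached to an integral vector. -/
noncomputable def chr (m : ι → ℤ) (x : ι → ℝ) : ℂ := cexp (-(2 * π * I) * ∑ i, (m i : ℂ) * (x i : ℂ))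

/-- The periodisation of the Gaussian. -/
noncomputable def period (B : Matrix ι ι ℤ) (b : ℂ) (x : ι → ℝ) : ℂ :=
  ∑' k : ι → ℤ, gauss B b (x + fun i => (k i : ℝ))

theorem norm_chr (m : ι → ℤ) (x : ι → ℝ) : ‖chr m x‖ = 1 := by
  simp [chr, Complex.norm_exp, mul_re, mul_im]

theorem chr_add_int (m k : ι → ℤ) (x : ι → ℝ) : chr m (x + fun i => (k i : ℝ)) = chr m x := by
  rw [chr, chr, Complex.exp_eq_exp_iff_exists_int]
  refine ⟨-(m ⬝ᵥ k), ?_⟩
  simp only [Pi.add_apply, ofReal_add, ofReal_intCast, mul_add, Finset.sum_add_distrib, dotProduct]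
  push_cast
  ring

theorem continuous_chr (m : ι → ℤ) : Continuous (chr m) := by unfold chr; fun_prop

theorem continuous_gauss (B : Matrix ι ι ℤ) (b : ℂ) : Continuous (gauss B b) := by
  unfold gauss qr; fun_prop

theorem mFourier_neg_coe (m : ι → ℤ) (x : ι → ℝ) :
    UnitAddTorus.mFourier (-m) (fun i => (x i : UnitAddCircle)) = chr m x := by
  simp only [UnitAddTorus.mFourier, ContinuousMap.coe_mk, fourier_coe_apply, chr, ← Complex.exp_sum, Finset.mul_sum]
  refine congrArg cexp (Finset.sum_congr rfl fun i _ => ?_)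
  simp only [Pi.neg_apply, Int.cast_neg, ofReal_one, div_one]
  ring

variable [DecidableEq ι] {B : Matrix ι ι ℤ} (hsymm : B.IsSymm)
    (hpos : ∀ x : ι → ℤ, x ≠ 0 → 0 < qf B x) (hdet : B.det = 1) {b : ℂ} (hb : 0 < b.re)

include hsymm hpos hdet hb

theorem gauss_bound : ∃ α : ℝ, 0 < α ∧ ∀ (x : ι → ℝ) (k : ι → ℤ),
    ‖gauss B b (x + fun i => (k i : ℝ))‖ ≤ Real.exp (α * sq x) * Real.exp (-(α / 2) * sq fun i => (k i : ℝ)) := by
  obtain ⟨A, hA1, hA, -⟩ := exists_root B hsymm hpos hdet
  obtain ⟨d, hd, hd'⟩ := exists_lower hA1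
  have hpb : 0 < π * b.re := mul_pos Real.pi_pos hb
  refine ⟨π * b.re * d, mul_pos hpb hd, fun x k => ?_⟩
  have hn : ‖gauss B b (x + fun i => (k i : ℝ))‖ = Real.exp (-(π * b.re) * qr B (x + fun i => (k i : ℝ))) := by
    simp [gauss, Complex.norm_exp, mul_re, mul_im]
  rw [hn, ← Real.exp_add, Real.exp_le_exp, hA]
  have h1 : sq (fun i => (k i : ℝ)) ≤ 2 * sq (x + fun i => (k i : ℝ)) + 2 * sq x := by
    rw [sq, sq, sq, Finset.mul_sum, Finset.mul_sum, ← Finset.sum_add_distrib]
    refine Finset.sum_le_sum fun i _ => ?_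
    rw [Pi.add_apply]
    nlinarith [sq_nonneg (2 * x i + (k i : ℝ))]
  have h2 := mul_le_mul_of_nonneg_left (hd' (x + fun i => (k i : ℝ))) hpb.le
  have h3 := mul_le_mul_of_nonneg_left h1 (mul_pos hpb hd).le
  nlinarith

theorem continuous_period : Continuous (period B b) := by
  obtain ⟨α, hα, hg⟩ := gauss_bound hsymm hpos hdet hb
  rw [continuous_iff_continuousAt]
  intro x
  have hU : IsOpen {y : ι → ℝ | sq y < sq x + 1} := isOpen_lt (by unfold sq; fun_prop) continuous_const
  refine (continuousOn_tsum (fun k => ((continuous_gauss B b).comp (continuous_id.add continuous_const)).continuousOn)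
    ((summable_exp_sq (ι := ι) (half_pos hα)).mul_left (Real.exp (α * (sq x + 1)))) fun k y hy => ?_).continuousAt
    (hU.mem_nhds (by rw [Set.mem_setOf_eq]; linarith))
  refine (hg y k).trans ?_
  gcongr
  exact hy.le

omit hsymm hpos hdet hb in
theorem period_add_int (x : ι → ℝ) (j : ι → ℤ) : period B b (x + fun i => (j i : ℝ)) = period B b x := by
  rw [period, period, ← (Equiv.addLeft (-j)).tsum_eq]
  refine tsum_congr fun k => congrArg (gauss B b) (funext fun i => ?_)
  simp

/-- The Fourier transform of the Gaussian. -/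
theorem integral_gauss_chr (k : ι → ℤ) :
    ∫ x, chr (B *ᵥ k) x * gauss B b x = (1 / b) ^ (Fintype.card ι / 2 : ℂ) * cexp (-(π / b) * (qf B k : ℂ)) := by
  obtain ⟨A, hA1, hA, hM⟩ := exists_root B hsymm hpos hdet
  have hdet0 : A.det ≠ 0 := fun h => by rw [h, abs_zero] at hA1; exact zero_ne_one hA1
  let w : ι → ℝ := A *ᵥ fun i => (k i : ℝ)
  let h : (ι → ℝ) → ℂ := fun v =>
    cexp (-((π : ℂ) * b) * ∑ i, (v i : ℂ) ^ 2 + ∑ i, (-(2 * π * I) * (w i : ℂ)) * v i)
  have hcomp : ∀ x, chr (B *ᵥ k) x * gauss B b x = h (A *ᵥ x) := by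
    intro x
    simp only [chr, gauss, h, ← Complex.exp_add]
    rw [hA, sq]
    have hin : ∑ i, (((B *ᵥ k) i : ℤ) : ℝ) * x i = ∑ i, w i * (A *ᵥ x) i := by
      calc ∑ i, (((B *ᵥ k) i : ℤ) : ℝ) * x i = ((B.map (Int.cast : ℤ → ℝ)) *ᵥ fun i => (k i : ℝ)) ⬝ᵥ x := by
            rw [cast_mulVec]; rfl
        _ = w ⬝ᵥ (A *ᵥ x) := by
            rw [hM, ← Matrix.mulVec_mulVec, Matrix.mulVec_transpose, ← Matrix.dotProduct_mulVec]
        _ = _ := rfl
    have hin' : ∑ i, (((B *ᵥ k) i : ℤ) : ℂ) * (x i : ℂ) = ∑ i, (w i : ℂ) * ((A *ᵥ x) i : ℂ) := by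
      exact_mod_cast congrArg (fun r : ℝ => (r : ℂ)) hin
    rw [hin']
    push_cast
    rw [Finset.mul_sum, add_comm]
    congr 2
    exact Finset.sum_congr rfl fun i _ => by ring
  have hmap : Measure.map (Matrix.toLin' A) volume = (volume : Measure (ι → ℝ)) := by
    rw [Real.map_matrix_volume_pi_eq_smul_volume_pi hdet0, abs_inv, hA1]
    simp
  have hint : ∫ x, h (A *ᵥ x) = ∫ v, h v := by
    have hcont : Continuous h := by fun_prop
    conv_rhs => rw [← hmap]
    rw [integral_map (LinearMap.continuous_on_pi _).aemeasurable hcont.aestronglyMeasurable]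
    rfl
  rw [integral_congr_ae (Eventually.of_forall hcomp), hint,
    GaussianFourier.integral_cexp_neg_mul_sum_add (b := (π : ℂ) * b) (by simp [mul_re, mul_pos Real.pi_pos hb])]
  have hb0 : b ≠ 0 := fun h => by simp [h] at hb
  have hπ : (π : ℂ) ≠ 0 := by exact_mod_cast Real.pi_ne_zero
  congr 2
  · field_simp
  · rw [show (qf B k : ℂ) = ((qr B fun i => (k i : ℝ) : ℝ) : ℂ) by rw [qr_cast]; simp, hA, sq]
    push_cast
    simp only [mul_pow, ← Finset.mul_sum]
    field_simp
    ring_nf
    rw [I_sq]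
    ring

theorem integrable_gauss_chr (m : ι → ℤ) : Integrable fun x => chr m x * gauss B b x := by
  obtain ⟨α, hα, hg⟩ := gauss_bound hsymm hpos hdet hb
  obtain ⟨A, hA1, hA, -⟩ := exists_root B hsymm hpos hdet
  obtain ⟨d, hd, hd'⟩ := exists_lower hA1
  have hpb : 0 < π * b.re := mul_pos Real.pi_pos hb
  have hmaj : Integrable fun x : ι → ℝ => ‖cexp (-(((π * b.re * d : ℝ)) : ℂ) * ∑ i, (x i : ℂ) ^ 2 + ∑ i, (0 : ℂ) * x i)‖ :=
    (GaussianFourier.integrable_cexp_neg_mul_sum_add (by simpa using mul_pos hpb hd) fun _ => 0).norm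
  refine hmaj.mono' ((continuous_chr m).mul (continuous_gauss B b)).aestronglyMeasurable
    (Eventually.of_forall fun x => ?_)
  rw [norm_mul, norm_chr, one_mul, gauss, Complex.norm_exp, Complex.norm_exp, Real.exp_le_exp, hA]
  have h2 := mul_le_mul_of_nonneg_left (hd' x) hpb.le
  simp [mul_re, mul_im, sq, ← Complex.ofReal_pow] at h2 ⊢
  nlinarith

omit hsymm hpos hdet hb in
/-- The integer translates of the unit cube tile the space. -/
theorem mem_cell_iff (x : ι → ℝ) (k : ι → ℤ) :
    x ∈ {x : ι → ℝ | ∀ i, x i ∈ Set.Ioc (k i : ℝ) (k i + 1)} ↔ k = fun i => ⌈x i⌉ - 1 := by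
  simp only [Set.mem_setOf_eq, Set.mem_Ioc, funext_iff]
  refine forall_congr' fun i => ?_
  constructor
  · rintro ⟨h1, h2⟩
    have : ⌈x i⌉ = k i + 1 := Int.ceil_eq_iff.mpr ⟨by push_cast; linarith, by push_cast; linarith⟩
    omega
  · intro h
    rw [h]
    push_cast
    exact ⟨by linarith [Int.ceil_lt_add_one (x i)], by linarith [Int.le_ceil (x i)]⟩

theorem integral_cube (m : ι → ℤ) :
    ∫ x in {x : ι → ℝ | ∀ i, x i ∈ Set.Ioc (0 : ℝ) (0 + 1)}, chr m x * period B b x =
      ∫ x, chr m x * gauss B b x := by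
  set C := {x : ι → ℝ | ∀ i, x i ∈ Set.Ioc (0 : ℝ) (0 + 1)} with hC
  have hCm : MeasurableSet C := MeasurableSet.univ_pi' fun _ => measurableSet_Ioc
  have hCfin : volume C < ⊤ := by
    refine lt_of_le_of_lt (measure_mono (t := Set.Icc (0 : ι → ℝ) 1) fun x hx => ?_) measure_Icc_lt_top
    exact ⟨fun i => (hx i).1.le, fun i => by simpa using (hx i).2⟩
  let cell : (ι → ℤ) → Set (ι → ℝ) := fun k => {x | ∀ i, x i ∈ Set.Ioc (k i : ℝ) (k i + 1)}
  have hm : ∀ k, MeasurableSet (cell k) := fun k => MeasurableSet.univ_pi' fun _ => measurableSet_Ioc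
  have hd : Pairwise (Function.onFun Disjoint cell) := fun k l hkl => Set.disjoint_left.mpr fun x hk hl =>
    hkl (((mem_cell_iff x k).mp hk).trans ((mem_cell_iff x l).mp hl).symm)
  have hu : (⋃ k, cell k) = Set.univ := Set.eq_univ_of_forall fun x =>
    Set.mem_iUnion.mpr ⟨fun i => ⌈x i⌉ - 1, (mem_cell_iff x _).mpr rfl⟩
  have hint := integrable_gauss_chr hsymm hpos hdet hb m
  rw [← setIntegral_univ (f := fun x => chr m x * gauss B b x), ← hu,
    integral_iUnion hm hd hint.integrableOn]
  have hcell : ∀ k : ι → ℤ, ∫ x in cell k, chr m x * gauss B b x =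
      ∫ x in C, chr m x * gauss B b (x + fun i => (k i : ℝ)) := by
    intro k
    have hmp := measurePreserving_add_right (volume : Measure (ι → ℝ)) (fun i => (k i : ℝ))
    have hpre : (fun x : ι → ℝ => x + fun i => (k i : ℝ)) ⁻¹' cell k = C := by
      ext x
      simp [cell, hC]
      exact forall_congr' fun i => and_congr_right fun _ => by constructor <;> intro <;> linarith
    have := hmp.setIntegral_preimage_emb (measurableEmbedding_addRight (fun i => (k i : ℝ)))
      (fun x => chr m x * gauss B b x) (cell k)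
    rw [hpre] at this
    simp only [chr_add_int] at this
    exact this.symm
  simp only [hcell, period, ← tsum_mul_left]
  obtain ⟨α, hα, hg⟩ := gauss_bound hsymm hpos hdet hb
  haveI : IsFiniteMeasure (volume.restrict C) := isFiniteMeasure_restrict.mpr hCfin.ne
  have hbound : ∀ k : ι → ℤ, ∀ᵐ x ∂(volume.restrict C),
      ‖chr m x * gauss B b (x + fun i => (k i : ℝ))‖ ≤
        Real.exp (α * Fintype.card ι) * Real.exp (-(α / 2) * sq fun i => (k i : ℝ)) := fun k => by
    refine (ae_restrict_mem hCm).mono fun x hx => ?_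
    rw [norm_mul, norm_chr, one_mul]
    refine (hg x k).trans ?_
    gcongr
    calc sq x ≤ ∑ _i : ι, (1 : ℝ) := Finset.sum_le_sum fun i _ => by
          have := hx i
          simp only [Set.mem_Ioc, zero_add] at this
          nlinarith
      _ = _ := by simp
  have hi : ∀ k : ι → ℤ, Integrable (fun x => chr m x * gauss B b (x + fun i => (k i : ℝ))) (volume.restrict C) :=
    fun k => Integrable.mono' (integrable_const _)
      ((continuous_chr m).mul ((continuous_gauss B b).comp (continuous_id.add continuous_const))).aestronglyMeasurable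
      (hbound k)
  refine (integral_tsum_of_summable_integral_norm hi ?_).symm
  refine Summable.of_nonneg_of_le (fun k => integral_nonneg fun x => norm_nonneg _)
    (fun k => (integral_mono_ae (hi k).norm (integrable_const _) (hbound k)).trans_eq (integral_const _))
    (((summable_exp_sq (ι := ι) (half_pos hα)).mul_left _).const_smul _)

theorem theta_transform :
    theta B (I * b) = (1 / b) ^ (Fintype.card ι / 2 : ℂ) * theta B (I / b) := by
  let rep : UnitAddTorus ι → (ι → ℝ) := fun t i => (AddCircle.equivIoc 1 0 (t i)).1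
  have hrep : ∀ x : ι → ℝ, period B b (rep fun i => (x i : UnitAddCircle)) = period B b x := by
    intro x
    have : ∀ i, ∃ j : ℤ, (AddCircle.equivIoc 1 0 ((x i : UnitAddCircle))).1 = x i + j := fun i => by
      refine ⟨-toIocDiv one_pos 0 (x i), ?_⟩
      show toIocMod one_pos 0 (x i) = _
      simp [toIocMod, sub_eq_add_neg]
    choose j hj using this
    exact (congrArg (period B b) (funext hj : _ = x + fun i => (j i : ℝ))).trans (period_add_int x j)
  have hq : IsOpenQuotientMap (Pi.map fun _ : ι => ((↑) : ℝ → UnitAddCircle)) :=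
    IsOpenQuotientMap.piMap fun _ => QuotientAddGroup.isOpenQuotientMap_mk
  let F : C(UnitAddTorus ι, ℂ) := ⟨fun t => period B b (rep t), by
    rw [← hq.continuous_comp_iff]
    exact (continuous_period hsymm hpos hdet hb).congr fun x => (hrep x).symm⟩
  have hu : IsUnit B.det := hdet ▸ isUnit_one
  let eB : (ι → ℤ) ≃ (ι → ℤ) :=
    { toFun := fun k => B *ᵥ k
      invFun := fun m => B⁻¹ *ᵥ m
      left_inv := fun k => by simp [Matrix.mulVec_mulVec, Matrix.nonsing_inv_mul _ hu]
      right_inv := fun m => by simp [Matrix.mulVec_mulVec, Matrix.mul_nonsing_inv _ hu] }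
  have hcoeff : ∀ k, UnitAddTorus.mFourierCoeff F (eB k) =
      (1 / b) ^ (Fintype.card ι / 2 : ℂ) * term B (I / b) k := by
    intro k
    rw [UnitAddTorus.mFourierCoeff_eq_integral F _ (fun _ => 0)]
    have : ∀ x : ι → ℝ, UnitAddTorus.mFourier (-(eB k)) (fun i => (x i : UnitAddCircle)) •
        F (fun i => (x i : UnitAddCircle)) = chr (eB k) x * period B b x := fun x => by
      rw [mFourier_neg_coe, smul_eq_mul]
      exact congrArg _ (hrep x)
    simp only [this]
    rw [integral_cube hsymm hpos hdet hb, show eB k = B *ᵥ k from rfl, integral_gauss_chr hsymm hpos hdet hb,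
      term]
    have hb0 : b ≠ 0 := fun h => by simp [h] at hb
    congr 2
    field_simp
    rw [I_sq]
    ring
  have him : 0 < (I / b).im := by
    simp [div_im]
    exact div_pos hb (normSq_pos.mpr fun h => by simp [h] at hb)
  have hs : Summable fun k => UnitAddTorus.mFourierCoeff F (eB k) := by
    simp only [hcoeff]
    exact (summable_term hsymm hpos hdet him).mul_left _
  have h := UnitAddTorus.hasSum_mFourier_series_apply_of_summable (eB.summable_iff.mp hs) 0
  have h0 : F 0 = theta B (I * b) := by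
    have h1 : F 0 = period B b 0 := hrep 0
    rw [h1, period, theta]
    refine tsum_congr fun k => ?_
    rw [gauss, zero_add, qr_cast, term]
    push_cast
    congr 1
    linear_combination -(π : ℂ) * b * (qf B k : ℂ) * I_sq
  rw [← h0, ← h.tsum_eq, ← eB.tsum_eq, theta, ← tsum_mul_left]
  refine tsum_congr fun k => ?_
  have h1 : UnitAddTorus.mFourier (eB k) (0 : UnitAddTorus ι) = 1 := by
    simp [UnitAddTorus.mFourier, fourier_eval_zero]
  rw [h1, smul_eq_mul, mul_one, hcoeff]

end Cfsg.Agent.Lib.Elem69.LatticeTheta
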