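import Mathlib
import Cfsg.Agent.Lib.Elem69.LatticePoisson

/-!
# The theta series of an even unimodular lattice of rank 24 as a modular form
-/

namespace Cfsg.Agent.Lib.Elem69.LatticeTheta

open Matrix Complex Filter Topology UpperHalfPlane ModularForm CongruenceSubgroup MatrixGroups SlashInvariantForm
open scoped Real ModularForm Manifold

local notation "𝕢" => Function.Periodic.qParam

/-- The number of vectors of norm `2 * m`. -/
noncomputable def reprNum {ι : Type*} [Fintype ι] (B : Matrix ι ι ℤ) (m : ℕ) : ℕ :=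
  {x : ι → ℤ | qf B x = 2 * m}.ncard

/-- The theta series on the upper half plane. -/
noncomputable def thetaH {ι : Type*} [Fintype ι] (B : Matrix ι ι ℤ) (τ : ℍ) : ℂ := theta B τ

section

variable {ι : Type*} [Fintype ι] [DecidableEq ι] {B : Matrix ι ι ℤ} (hsymm : B.IsSymm)
    (hpos : ∀ x : ι → ℤ, x ≠ 0 → 0 < qf B x) (heven : ∀ x : ι → ℤ, (2 : ℤ) ∣ qf B x) (hdet : B.det = 1)

include hsymm hpos heven hdet

theorem hasSum_thetaH (τ : ℍ) :
    HasSum (fun m : ℕ => (reprNum B m : ℂ) • 𝕢 (1 : ℝ) τ ^ m) (thetaH B τ) := by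
  have hs := summable_term hsymm hpos hdet τ.im_pos
  let half : (ι → ℤ) → ℕ := fun x => (qf B x / 2).toNat
  have hhalf : ∀ x (m : ℕ), half x = m ↔ qf B x = 2 * m := fun x m => by
    obtain ⟨c, hc⟩ := heven x
    have := qf_nonneg hsymm hpos hdet x
    simp only [half, hc, Int.mul_ediv_cancel_left c two_ne_zero]
    omega
  refine (hs.hasSum.tsum_fiberwise half).congr_fun fun m => ?_
  have hfin : {x : ι → ℤ | qf B x = 2 * m}.Finite := by
    have h1 := (summable_qf hsymm hpos hdet one_pos).tendsto_cofinite_zero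
    have h2 := h1.eventually_lt_const (Real.exp_pos (-1 * (2 * m : ℝ)))
    refine (Filter.eventually_cofinite.mp h2).subset fun x hx => ?_
    rw [Set.mem_setOf_eq] at hx
    simp [hx]
  have hset : half ⁻¹' {m} = {x : ι → ℤ | qf B x = 2 * m} := Set.ext fun x => hhalf x m
  have hterm : ∀ x : half ⁻¹' {m}, term B (τ : ℂ) x = 𝕢 (1 : ℝ) τ ^ m := by
    rintro ⟨x, hx⟩
    rw [term, (hhalf x m).mp hx, Function.Periodic.qParam, ← Complex.exp_nat_mul]
    congr 1
    push_cast
    ring
  haveI : Fintype (half ⁻¹' {m}) := (hset ▸ hfin).fintype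
  rw [tsum_congr hterm, tsum_fintype, Finset.sum_const, Finset.card_univ, ← Nat.card_eq_fintype_card,
    Nat.card_coe_set_eq, hset, reprNum, smul_eq_mul, nsmul_eq_mul]

set_option backward.isDefEq.respectTransparency.types false in
theorem thetaH_T (k : ℤ) : (thetaH B ∣[k] ModularGroup.T) = thetaH B := by
  ext z
  rw [SL_slash_apply, modular_T_smul]
  have hper : theta B (1 + (z : ℂ)) = theta B z := by
    refine tsum_congr fun x => ?_
    obtain ⟨c, hc⟩ := heven x
    rw [term, term, Complex.exp_eq_exp_iff_exists_int]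
    refine ⟨c, ?_⟩
    rw [hc]
    push_cast
    ring
  simpa [thetaH, UpperHalfPlane.denom, ModularGroup.T] using hper

end

variable {B : Matrix (Fin 24) (Fin 24) ℤ} (hsymm : B.IsSymm)
    (hpos : ∀ x : Fin 24 → ℤ, x ≠ 0 → 0 < qf B x) (heven : ∀ x : Fin 24 → ℤ, (2 : ℤ) ∣ qf B x) (hdet : B.det = 1)

include hsymm hpos hdet

set_option backward.isDefEq.respectTransparency.types false in
theorem thetaH_S : (thetaH B ∣[(12 : ℤ)] ModularGroup.S) = thetaH B := by
  ext z
  rw [SL_slash_apply, UpperHalfPlane.modular_S_smul]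
  suffices theta B (-(z : ℂ))⁻¹ * ((z : ℂ) ^ 12)⁻¹ = theta B z by
    simpa [thetaH, UpperHalfPlane.denom, ModularGroup.S] using this
  have hz : (z : ℂ) ≠ 0 := z.ne_zero
  have hb : 0 < (-Complex.I * (z : ℂ)).re := by simpa [mul_re] using z.im_pos
  have h := theta_transform hsymm hpos hdet hb
  have h1 : Complex.I * (-Complex.I * (z : ℂ)) = z := by linear_combination -(z : ℂ) * Complex.I_sq
  have h2 : Complex.I / (-Complex.I * (z : ℂ)) = (-(z : ℂ))⁻¹ := by
    field_simp
  rw [h1, h2] at h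
  have h3 : ((Fintype.card (Fin 24) : ℕ) : ℂ) / 2 = ((12 : ℕ) : ℂ) := by norm_num
  rw [h3, Complex.cpow_natCast] at h
  have h4 : (1 / (-Complex.I * (z : ℂ))) ^ 12 = ((z : ℂ) ^ 12)⁻¹ := by
    rw [one_div, inv_pow, mul_pow, show (-Complex.I) ^ 12 = (1 : ℂ) by rw [show (-Complex.I) ^ 12 = (Complex.I ^ 2) ^ 6 by ring, Complex.I_sq]; norm_num, one_mul]
  rw [h4] at h
  rw [h, mul_comm]

include heven

/-- The theta series as a modular form of weight 12. -/
noncomputable def thetaForm : ModularForm 𝒮ℒ 12 where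
  toFun := thetaH B
  slash_action_eq' A hA := by
    obtain ⟨A, rfl⟩ := hA
    exact slash_action_generators_SL2Z (thetaH_S hsymm hpos hdet) (thetaH_T hsymm hpos heven hdet 12) A
  holo' := by
    rw [UpperHalfPlane.mdifferentiable_iff]
    refine (differentiableOn_theta hsymm hpos hdet).congr fun z hz => ?_
    simp [thetaH, ofComplex_apply_of_im_pos hz]
  bdd_at_cusps' hc := by
    rw [Subgroup.IsArithmetic.isCusp_iff_isCusp_SL2Z] at hc
    rw [OnePoint.isBoundedAt_iff_forall_SL2Z hc]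
    intro γ _
    rw [slash_action_generators_SL2Z (thetaH_S hsymm hpos hdet) (thetaH_T hsymm hpos heven hdet 12)]
    exact isBoundedAtImInfty_of_hasSum_qExpansion one_pos (hasSum_thetaH hsymm hpos heven hdet)

theorem coeff_thetaForm (m : ℕ) :
    (qExpansion 1 (thetaForm hsymm hpos heven hdet)).coeff m = (reprNum B m : ℂ) :=
  (ModularFormClass.qExpansion_coeff_unique one_pos one_mem_strictPeriods_SL
    (f := thetaForm hsymm hpos heven hdet) (fun τ => hasSum_thetaH hsymm hpos heven hdet τ) m).symm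

theorem reprNum_zero : reprNum B 0 = 1 := by
  rw [reprNum, Set.ncard_eq_one]
  refine ⟨0, Set.ext fun x => ?_⟩
  simp only [Set.mem_setOf_eq, Set.mem_singleton_iff, Nat.cast_zero, mul_zero]
  exact ⟨fun h => by_contra fun hx => (hpos x hx).ne' h, fun h => by simp [h, qf]⟩

/-- The numbers of vectors of norms 4, 6, 8 in the absence of roots. -/
theorem reprNum_values (h2 : ∀ x : Fin 24 → ℤ, qf B x ≠ 2) :
    reprNum B 2 = 196560 ∧ reprNum B 3 = 16773120 ∧ reprNum B 4 = 398034000 := by
  set f := thetaForm hsymm hpos heven hdet with hf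
  let E43 : ModularForm 𝒮ℒ 12 := ModularForm.mcast (by decide) (E₄.pow 3)
  let E62 : ModularForm 𝒮ℒ 12 := ModularForm.mcast (by decide) (E₆.pow 2)
  have hE43 : qExpansion 1 E43 = qExpansion 1 E₄ * qExpansion 1 E₄ * qExpansion 1 E₄ := by
    simp only [E43, coe_mcast, ModularForm.qExpansion_pow one_pos one_mem_strictPeriods_SL]
    ring
  have hE62 : qExpansion 1 E62 = qExpansion 1 E₆ * qExpansion 1 E₆ := by
    simp only [E62, coe_mcast, ModularForm.qExpansion_pow one_pos one_mem_strictPeriods_SL]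
    ring
  -- `θ - E₄³` is a multiple of `E₄³ - E₆²`
  have hq0 : (qExpansion 1 ⇑(f - E43)).coeff 0 = 0 := by
    rw [FunLike.coe_sub, ModularForm.qExpansion_sub one_pos one_mem_strictPeriods_SL, map_sub, hE43, coeff_thetaForm,
      reprNum_zero hsymm hpos heven hdet]
    simp [PowerSeries.coeff_mul, -PowerSeries.coeff_zero_eq_constantCoeff, EisensteinSeries.E_qExpansion_coeff_zero _ ⟨2, rfl⟩]
  obtain ⟨c, hc⟩ := CuspForm.exists_smul_discriminant_of_weight_eq_twelve (toCuspForm (f - E43) hq0)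
  have hfun : (f : ℍ → ℂ) = ⇑E43 + ⇑((c / 1728) • (E43 - E62)) := by
    funext z
    have h1 : c * ModularForm.discriminant z = f z - E43 z := congrArg (fun g : CuspForm 𝒮ℒ 12 => g z) hc
    rw [discriminant_eq_E₄_cube_sub_E₆_sq] at h1
    show f z = E43 z + (c / 1728) * (E43 z - E62 z)
    simp only [E43, E62, coe_mcast, coe_pow, Pi.pow_apply] at h1 ⊢
    linear_combination -h1
  have hq : qExpansion 1 f = qExpansion 1 E43 + (c / 1728) • (qExpansion 1 E43 - qExpansion 1 E62) := by
    rw [hfun, ModularForm.qExpansion_add one_pos one_mem_strictPeriods_SL, FunLike.coe_smul,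
      ModularForm.qExpansion_smul one_pos one_mem_strictPeriods_SL, FunLike.coe_sub,
      ModularForm.qExpansion_sub one_pos one_mem_strictPeriods_SL]
  have hcoef : ∀ m, (reprNum B m : ℂ) = (qExpansion 1 E43).coeff m +
      (c / 1728) * ((qExpansion 1 E43).coeff m - (qExpansion 1 E62).coeff m) := fun m => by
    rw [← coeff_thetaForm hsymm hpos heven hdet m, ← hf, hq]
    simp [-PowerSeries.coeff_zero_eq_constantCoeff]
  have hb4 : bernoulli 4 = -1 / 30 := by decide +kernel
  have hb6 : bernoulli 6 = 1 / 42 := by decide +kernel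
  have hσ : ArithmeticFunction.sigma 3 1 = 1 ∧ ArithmeticFunction.sigma 3 2 = 9 ∧
      ArithmeticFunction.sigma 3 3 = 28 ∧ ArithmeticFunction.sigma 3 4 = 73 ∧
      ArithmeticFunction.sigma 5 1 = 1 ∧ ArithmeticFunction.sigma 5 2 = 33 ∧
      ArithmeticFunction.sigma 5 3 = 244 ∧ ArithmeticFunction.sigma 5 4 = 1057 := by
    simp only [ArithmeticFunction.sigma_apply]
    decide
  have e4 : ∀ m, (qExpansion 1 E₄).coeff m = if m = 0 then 1 else (240 : ℂ) * (ArithmeticFunction.sigma 3 m : ℕ) := fun m => by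
    rw [EisensteinSeries.E_qExpansion_coeff _ ⟨2, rfl⟩, hb4]
    norm_num
  have e6 : ∀ m, (qExpansion 1 E₆).coeff m = if m = 0 then 1 else (-504 : ℂ) * (ArithmeticFunction.sigma 5 m : ℕ) := fun m => by
    rw [EisensteinSeries.E_qExpansion_coeff _ ⟨3, rfl⟩, hb6]
    norm_num
  obtain ⟨s1, s2, s3, s4, t1, t2, t3, t4⟩ := hσ
  have v1 : reprNum B 1 = 0 := by
    rw [reprNum, show {x : Fin 24 → ℤ | qf B x = 2 * ((1 : ℕ) : ℤ)} = ∅ from Set.eq_empty_of_forall_notMem fun x hx => h2 x (by simpa using hx)]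
    exact Set.ncard_empty _
  have k1 := hcoef 1
  have k2 := hcoef 2
  have k3 := hcoef 3
  have k4 := hcoef 4
  rw [v1] at k1
  simp only [hE43, hE62, PowerSeries.coeff_mul, Finset.Nat.sum_antidiagonal_eq_sum_range_succ_mk, Finset.sum_range_succ,
    Finset.sum_range_zero, e4, e6] at k1 k2 k3 k4
  norm_num [s1, s2, s3, s4, t1, t2, t3, t4] at k1 k2 k3 k4
  have hc' : c = -720 := by linear_combination -k1
  subst hc'
  norm_num at k2 k3 k4
  exact ⟨by exact_mod_cast k2, by exact_mod_cast k3, by exact_mod_cast k4⟩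

end Cfsg.Agent.Lib.Elem69.LatticeTheta
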