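import Mathlib
import Cfsg.Agent.Lib.SZ.Conjugacy
import Cfsg.Agent.Lib.Elem69.Basic

/-!
# Lifting coprime elements through a normal subgroup
-/

namespace Cfsg.Agent.Lib.Elem69

open scoped Pointwise

variable {G : Type*} [Group G] [Finite G]

/-- If conjugation by `a` sends `u` to `u ^ k` modulo `N` and the order of `u` is prime to `|N|`,
some element of `N * a` sends `u` to `u ^ k`. -/
theorem exists_conj_lift (N : Subgroup G) [N.Normal] {u a : G} (k : ℤ)
    (hcop : (orderOf u).Coprime (Nat.card N))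
    (h : (u ^ k)⁻¹ * (a * u * a⁻¹) ∈ N) :
    ∃ b ∈ N, b * a * u * (b * a)⁻¹ = u ^ k := by
  set u' := a * u * a⁻¹ with hu'
  let X : Subgroup G := Subgroup.zpowers u ⊔ N
  have huX : Subgroup.zpowers u ≤ X := le_sup_left
  have hNX : N ≤ X := le_sup_right
  have hu'X : u' ∈ X := by
    have := mul_mem (huX (Subgroup.zpow_mem_zpowers u k)) (hNX h)
    rwa [mul_inv_cancel_left] at this
  have hu'le : Subgroup.zpowers u' ≤ X := Subgroup.zpowers_le.mpr hu'X
  have hu'o : orderOf u' = orderOf u := by rw [hu', ← MulAut.conj_apply, MulEquiv.orderOf_eq]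
  have hidx : (N.subgroupOf X).index = orderOf u := by
    have h1 := Subgroup.card_mul_index (N.subgroupOf X)
    rw [SZ.card_subgroupOf hNX, SZ.card_sup_of_coprime _ N (by rwa [Nat.card_zpowers]), Nat.card_zpowers,
      mul_comm (orderOf u)] at h1
    exact Nat.eq_of_mul_eq_mul_left Nat.card_pos h1
  have hsol : Group.IsSolvable ((Subgroup.zpowers u').subgroupOf X) :=
    Group.isSolvable_of_isSolvable_injective (f := (Subgroup.subgroupOfEquivOfLe hu'le).toMonoidHom)
      (MulEquiv.injective _)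
  obtain ⟨b, hbN, hb⟩ := SZ.exists_mem_conj_of_card_eq_index (N.subgroupOf X)
    ((Subgroup.zpowers u').subgroupOf X) ((Subgroup.zpowers u).subgroupOf X)
    (by rw [SZ.card_subgroupOf hNX, hidx]; exact hcop.symm) (Or.inr hsol)
    (by rw [SZ.card_subgroupOf hu'le, Nat.card_zpowers, hu'o, hidx])
    (by rw [SZ.card_subgroupOf huX, Nat.card_zpowers, hidx])
  have hb' := SZ.exists_conj_of_subgroupOf hu'le huX b hb
  refine ⟨b, hbN, ?_⟩
  have hmem : (b : G) * u' * (b : G)⁻¹ ∈ Subgroup.zpowers u := by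
    rw [← hb']
    exact ⟨u', Subgroup.mem_zpowers u', rfl⟩
  have he : (b : G) * a * u * ((b : G) * a)⁻¹ = (b : G) * u' * (b : G)⁻¹ := by rw [hu']; group
  rw [he]
  apply eq_of_inv_mul_eq_one
  rw [← Subgroup.mem_bot, ← Subgroup.inf_eq_bot_of_coprime (H := Subgroup.zpowers u) (K := N)
    (by rwa [Nat.card_zpowers])]
  refine Subgroup.mem_inf.mpr ⟨mul_mem (inv_mem hmem) (Subgroup.zpow_mem_zpowers u k), ?_⟩
  rw [← QuotientGroup.eq_one_iff]
  have hbm : ((b : G) : G ⧸ N) = 1 := (QuotientGroup.eq_one_iff _).mpr hbN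
  have hk : ((u ^ k : G) : G ⧸ N) = (u' : G ⧸ N) := QuotientGroup.eq.mpr h
  simp only [QuotientGroup.mk_mul, QuotientGroup.mk_inv, hbm, hk]
  group

omit [Finite G] in
/-- An element of the quotient lifts to an element whose order has the same prime divisors,
provided its order is prime to `|N|`. -/
theorem exists_lift_same_order (N : Subgroup G) [N.Normal] (y : G ⧸ N)
    (hcop : (orderOf y).Coprime (Nat.card N)) : ∃ u : G, (u : G ⧸ N) = y ∧ orderOf u = orderOf y := by
  obtain ⟨g, rfl⟩ := QuotientGroup.mk_surjective y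
  have hgN : g ^ orderOf (g : G ⧸ N) ∈ N := by
    rw [← QuotientGroup.eq_one_iff, QuotientGroup.mk_pow N]; exact pow_orderOf_eq_one _
  obtain ⟨u, v, huv, hc, hu, hv, -, -⟩ := exists_split (g := g) hcop
    (by rw [pow_mul]; exact orderOf_dvd_iff_pow_eq_one.mp (N.orderOf_dvd_natCard hgN))
  set n := orderOf (g : G ⧸ N) with hn
  have hvu : (v : G ⧸ N) = 1 := by
    rw [← orderOf_eq_one_iff]
    apply Nat.dvd_one.mp
    rw [← hcop]
    refine Nat.dvd_gcd ?_ (orderOf_dvd_of_pow_eq_one (by rw [← QuotientGroup.mk_pow N, hv, QuotientGroup.mk_one]))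
    have hcq : Commute (u : G ⧸ N) (v : G ⧸ N) := hc.map (QuotientGroup.mk' N)
    refine orderOf_dvd_of_pow_eq_one ?_
    have := hcq.mul_pow n
    rwa [← QuotientGroup.mk_mul, huv, ← QuotientGroup.mk_pow N u, hu, QuotientGroup.mk_one, one_mul, hn,
      pow_orderOf_eq_one, ← hn, eq_comm] at this
  have hgu : (g : G ⧸ N) = (u : G ⧸ N) := by rw [← huv, QuotientGroup.mk_mul, hvu, mul_one]
  refine ⟨u, hgu.symm, Nat.dvd_antisymm (orderOf_dvd_of_pow_eq_one hu) ?_⟩
  rw [hn, hgu]
  exact orderOf_map_dvd (QuotientGroup.mk' N) u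

end Cfsg.Agent.Lib.Elem69
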