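import Mathlib
import Cfsg.Agent.Lib.Elem69.DerivedLength

/-!
# Linear representations of wreath products
-/

namespace Cfsg.Agent.Lib.Elem69

universe u

open Module

variable {F M D Q : Type*} [Field F] [AddCommGroup M] [Module F M] [Group D] [Group Q]

/-- The monomial extension of a representation of `D` to `D ≀ᵣ Q`. -/
def wreathEnd (f : D →* Module.End F M) : D ≀ᵣ Q →* Module.End F (Q → M) where
  toFun w :=
    { toFun := fun v x => f (w.left x) (v (w.right⁻¹ * x))
      map_add' := fun v₁ v₂ => funext fun x => by simp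
      map_smul' := fun c v => funext fun x => by simp }
  map_one' := LinearMap.ext fun v => funext fun x => by
    show f ((1 : D ≀ᵣ Q).left x) (v ((1 : D ≀ᵣ Q).right⁻¹ * x)) = v x
    simp
  map_mul' a b := LinearMap.ext fun v => funext fun x => by
    show f ((a * b).left x) (v ((a * b).right⁻¹ * x)) =
      f (a.left x) (f (b.left (a.right⁻¹ * x)) (v (b.right⁻¹ * (a.right⁻¹ * x))))
    simp [mul_assoc]

theorem wreathEnd_injective [Nontrivial M] {f : D →* Module.End F M} (hf : Function.Injective f) :
    Function.Injective (wreathEnd (Q := Q) f) := by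
  classical
  rw [injective_iff_map_eq_one]
  intro w hw
  have hv : ∀ (v : Q → M) (x : Q), f (w.left x) (v (w.right⁻¹ * x)) = v x := fun v x =>
    congrFun (LinearMap.congr_fun hw v) x
  have hr : w.right = 1 := by
    by_contra hr
    obtain ⟨m, hm⟩ := exists_ne (0 : M)
    have h1 := hv (Pi.single 1 m) w.right
    rw [inv_mul_cancel, Pi.single_eq_same, Pi.single_eq_of_ne hr] at h1
    apply hm
    have h2 := congrArg (fun z => f (w.left w.right)⁻¹ z) h1
    simp only [map_zero] at h2
    rw [← Module.End.mul_apply, ← map_mul, inv_mul_cancel, map_one, Module.End.one_apply] at h2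
    exact h2
  have hl : ∀ x, w.left x = 1 := fun x => by
    apply hf
    rw [map_one]
    ext m
    have h1 := hv (Function.const Q m) x
    simpa using h1
  ext x
  · rw [hl x]; rfl
  · exact hr

/-- Transport of a representation along a linear equivalence. -/
def conjEnd {M' : Type*} [AddCommGroup M'] [Module F M'] (e : M ≃ₗ[F] M') (f : D →* Module.End F M) :
    D →* Module.End F M' where
  toFun d := e.toLinearMap.comp ((f d).comp e.symm.toLinearMap)
  map_one' := LinearMap.ext fun v => by simp
  map_mul' a b := LinearMap.ext fun v => by simp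

theorem conjEnd_injective {M' : Type*} [AddCommGroup M'] [Module F M'] (e : M ≃ₗ[F] M')
    {f : D →* Module.End F M} (hf : Function.Injective f) : Function.Injective (conjEnd e f) := by
  intro a b h
  apply hf
  ext v
  have := LinearMap.congr_fun h (e v)
  simpa [conjEnd] using this

/-- A representation of degree `d` extended by a trivial summand. -/
def extendEnd {d r : ℕ} (f : D →* Module.End F (Fin d → F)) :
    D →* Module.End F ((Fin d → F) × (Fin r → F)) where
  toFun x := (f x).prodMap LinearMap.id
  map_one' := LinearMap.ext fun v => by simp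
  map_mul' a b := LinearMap.ext fun v => by simp

theorem exists_wreath_rep {F : Type u} [Field F] {p : ℕ} [hp : Fact p.Prime] {e : ℕ} (he : 0 < e)
    (D₀ : Type u) [Group D₀] (f₀ : D₀ →* Module.End F (Fin e → F)) (hf₀ : Function.Injective f₀)
    (hD₀ : IsPGroup p D₀) [Finite D₀] (hne : derivedSeries D₀ 0 ≠ ⊥) :
    ∀ j, ∃ (D : Type u) (_ : Group D) (_ : Finite D) (f : D →* Module.End F (Fin (e * p ^ j) → F)),
      Function.Injective f ∧ IsPGroup p D ∧ derivedSeries D j ≠ ⊥ := by
  intro j
  induction j with
  | zero =>
    exact ⟨D₀, inferInstance, inferInstance,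
      conjEnd (LinearEquiv.funCongrLeft F F (finCongr (by simp : e * p ^ 0 = e))) f₀,
      conjEnd_injective _ hf₀, hD₀, hne⟩
  | succ j ih =>
    obtain ⟨D, _, _, f, hf, hD, hd⟩ := ih
    let Q := Multiplicative (ZMod p)
    have hQc : Nat.card Q = p := by rw [Nat.card_congr Multiplicative.toAdd, Nat.card_zmod]
    have hnt : Nontrivial (Fin (e * p ^ j) → F) := by
      haveI : Nonempty (Fin (e * p ^ j)) := ⟨⟨0, Nat.mul_pos he (pow_pos hp.out.pos j)⟩⟩
      infer_instance
    let E : (Q → Fin (e * p ^ j) → F) ≃ₗ[F] (Fin (e * p ^ (j + 1)) → F) :=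
      (LinearEquiv.curry F F Q (Fin (e * p ^ j))).symm.trans
        (LinearEquiv.funCongrLeft F F (Fintype.equivFinOfCardEq (by
          rw [Fintype.card_prod, Fintype.card_fin, ← Nat.card_eq_fintype_card, hQc, pow_succ]; ring)).symm)
    refine ⟨D ≀ᵣ Q, inferInstance, inferInstance, conjEnd E (wreathEnd f),
      conjEnd_injective E (wreathEnd_injective hf), ?_, derivedSeries_wreath_ne_bot hd⟩
    obtain ⟨m, hm⟩ := hD.exists_card_eq
    exact IsPGroup.of_card (n := m * p + 1) (by rw [RegularWreathProduct.card, hm, hQc, ← pow_mul, pow_succ])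

end Cfsg.Agent.Lib.Elem69
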