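import Mathlib
import Cfsg.Agent.Lib.Elem69.Basic
import Cfsg.Agent.Lib.Transfer.Criteria
import Cfsg.Agent.Lib.Coprime.Sylow
import Cfsg.Agent.Lib.NilpotentLocal.Basic
import Cfsg.Agent.Lib.PGroup.Thompson
import Cfsg.Agent.Lib.SZ.Card
import Cfsg.Agent.Lib.FusionMod.Basic

/-!
# Solvability of groups with a nilpotent maximal subgroup
-/

namespace Cfsg.Agent.Lib.Elem69

universe u

variable {G : Type u} [Group G] [Finite G]

/-- In a core-free coatom the normaliser of a nontrivial normal subgroup is the coatom itself. -/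
theorem normalizer_eq_of_corefree {M N : Subgroup G} (hmax : IsCoatom M)
    (hcore : ∀ K : Subgroup G, K.Normal → K ≤ M → K = ⊥) (hNM : N ≤ M) (hN : N ≠ ⊥)
    (hn : M ≤ Subgroup.normalizer (N : Set G)) : Subgroup.normalizer (N : Set G) = M := by
  refine (hmax.le_iff.mp hn).resolve_left fun h => ?_
  exact hN (hcore N (Subgroup.normalizer_eq_top_iff.mp h) hNM)

/-- For every prime dividing the order of a core-free nilpotent coatom, a Sylow subgroup of the coatom
is a Sylow subgroup of the group, with normaliser the coatom. -/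
theorem exists_sylow_of_corefree {p : ℕ} [Fact p.Prime] {M : Subgroup G} (hmax : IsCoatom M)
    [Group.IsNilpotent M] (hcore : ∀ K : Subgroup G, K.Normal → K ≤ M → K = ⊥)
    (hpM : p ∣ Nat.card M) :
    ∃ P : Sylow p G, (P : Subgroup G) ≤ M ∧ (P : Subgroup G) ≠ ⊥ ∧
      Subgroup.normalizer ((P : Subgroup G) : Set G) = M := by
  let R : Sylow p M := default
  haveI hRn : (R : Subgroup M).Normal :=
    R.normal_of_normalizerCondition Group.normalizerCondition_of_isNilpotent
  set P0 := (R : Subgroup M).map M.subtype with hP0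
  have hP0M : P0 ≤ M := by rw [hP0]; exact Subgroup.map_subtype_le _
  have hP0ne : P0 ≠ ⊥ := fun h => R.ne_bot_of_dvd_card hpM
    ((Subgroup.map_eq_bot_iff_of_injective _ M.subtype_injective).mp h)
  have hnorm : Subgroup.normalizer (P0 : Set G) = M := by
    refine normalizer_eq_of_corefree hmax hcore hP0M hP0ne ?_
    refine Coprime.le_normalizer_of_conj_mem ?_
    rintro m hm _ ⟨r, hr, rfl⟩
    exact ⟨⟨m, hm⟩ * r * ⟨m, hm⟩⁻¹, hRn.conj_mem r hr _, rfl⟩
  obtain ⟨P, hP⟩ := (R.isPGroup'.map M.subtype).exists_le_sylow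
  suffices h : P0 = (P : Subgroup G) by exact ⟨P, h ▸ hP0M, h ▸ hP0ne, h ▸ hnorm⟩
  by_contra hne
  have hlt := Transfer.lt_inf_normalizer P.isPGroup' (lt_of_le_of_ne hP hne)
  rw [hnorm] at hlt
  have h1 : IsPGroup p (((P : Subgroup G) ⊓ M).subgroupOf M) :=
    (P.isPGroup'.to_le inf_le_left).of_equiv (Subgroup.subgroupOfEquivOfLe inf_le_right).symm
  have h2 : (R : Subgroup M) ≤ ((P : Subgroup G) ⊓ M).subgroupOf M := by
    intro x hx
    exact hlt.le ⟨x, hx, rfl⟩
  have h3 := R.is_maximal' h1 h2
  apply hlt.ne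
  show (R : Subgroup M).map M.subtype = _
  rw [← h3, Subgroup.subgroupOf_map_subtype, inf_eq_left.mpr inf_le_right]

/-- A group with a core-free nilpotent coatom having normal complements at all its primes is solvable. -/
theorem isSolvable_of_corefree {M : Subgroup G} (hmax : IsCoatom M) [Group.IsNilpotent M]
    (hcore : ∀ K : Subgroup G, K.Normal → K ≤ M → K = ⊥) (hM : M ≠ ⊥)
    (hnpc : ∀ (p : ℕ) [Fact p.Prime], p ∣ Nat.card M → Cfsg.HasNormalPComplement p G) :
    Group.IsSolvable G := by
  set K : Subgroup G := ⨅ p ∈ (Nat.card M).primeFactors, Cfsg.pResidual p G with hK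
  have hKn : K.Normal := by
    rw [hK]
    exact Subgroup.normal_iInf_normal fun p => Subgroup.normal_iInf_normal fun _ => inferInstance
  have hcop : (Nat.card M).Coprime (Nat.card K) := by
    refine Nat.coprime_of_dvd' fun p hp h1 h2 => ?_
    exfalso
    haveI : Fact p.Prime := ⟨hp⟩
    have h3 := Transfer.hasNormalPComplement_iff.mp (hnpc p h1)
    exact h3 (h2.trans (Subgroup.card_dvd_of_le
      (iInf₂_le p (Nat.mem_primeFactors.mpr ⟨hp, h1, Nat.card_pos.ne'⟩))))
  have hinf : M ⊓ K = ⊥ := Subgroup.inf_eq_bot_of_coprime hcop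
  have hKne : K ≠ ⊥ := by
    intro h
    have hdvd : M.index = 1 := by
      by_contra hne
      obtain ⟨q, hq, hqd⟩ := Nat.exists_prime_and_dvd hne
      haveI : Fact q.Prime := ⟨hq⟩
      by_cases hqM : q ∣ Nat.card M
      · obtain ⟨P, hPM, -, -⟩ := exists_sylow_of_corefree hmax hcore hqM
        exact P.not_dvd_index (hqd.trans (Subgroup.index_dvd_of_le hPM))
      · obtain ⟨x, hx⟩ := exists_prime_orderOf_dvd_card' (G := G) q
          (hqd.trans M.index_dvd_card)
        have hxK : x ∈ K := by
          rw [hK]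
          simp only [Subgroup.mem_iInf]
          intro p hp
          refine Transfer.mem_pResidual_of_coprime ?_
          rw [hx, Nat.coprime_primes hq (Nat.prime_of_mem_primeFactors hp)]
          rintro rfl
          exact hqM (Nat.dvd_of_mem_primeFactors hp)
        rw [h, Subgroup.mem_bot] at hxK
        rw [hxK, orderOf_one] at hx
        exact hq.ne_one hx.symm
    exact hmax.1 (Subgroup.index_eq_one.mp hdvd)
  have htop : M ⊔ K = ⊤ := by
    refine hmax.2 _ (lt_of_le_of_ne le_sup_left fun h => hKne ?_)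
    rw [← hinf, inf_eq_right.mpr (sup_eq_left.mp h.symm)]
  obtain ⟨q, hq, hqK⟩ := Nat.exists_prime_and_dvd
    (show Nat.card K ≠ 1 from fun h => hKne (Subgroup.card_eq_one.mp h))
  haveI : Fact q.Prime := ⟨hq⟩
  have hMn : M ≤ Subgroup.normalizer (K : Set G) := by rw [Subgroup.normalizer_eq_top K]; exact le_top
  haveI : Group.IsSolvable M := inferInstance
  obtain ⟨S, hS⟩ := Coprime.exists_invariant_sylow (p := q) hMn hcop (Or.inl inferInstance)
  set Q := (S : Subgroup K).map K.subtype with hQ
  have hQK : Q ≤ K := by rw [hQ]; exact Subgroup.map_subtype_le _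
  have hQne : Q ≠ ⊥ := fun h => S.ne_bot_of_dvd_card hqK
    ((Subgroup.map_eq_bot_iff_of_injective _ K.subtype_injective).mp h)
  have htop' : M ⊔ Q = ⊤ := by
    refine hmax.2 _ (lt_of_le_of_ne le_sup_left fun h => hQne ?_)
    exact le_bot_iff.mp (hinf ▸ le_inf (sup_eq_left.mp h.symm) hQK)
  have hQn : Q.Normal := by
    rw [← Subgroup.normalizer_eq_top_iff, eq_top_iff, ← htop']
    exact sup_le hS Subgroup.le_normalizer
  have hQeq : Q = K := by
    refine Subgroup.eq_of_le_of_card_ge hQK ?_
    have h1 := SZ.card_sup_mul_card_inf M K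
    have h2 := SZ.card_sup_mul_card_inf M Q
    have h3 : M ⊓ Q = ⊥ := le_bot_iff.mp (hinf ▸ inf_le_inf_left _ hQK)
    rw [htop, hinf, Subgroup.card_bot, mul_one, Subgroup.card_top] at h1
    rw [htop', h3, Subgroup.card_bot, mul_one, Subgroup.card_top, h1] at h2
    exact (Nat.eq_of_mul_eq_mul_left Nat.card_pos h2).le
  have hKs : Group.IsSolvable K := by
    have hp : IsPGroup q K := hQeq ▸ S.isPGroup'.map K.subtype
    haveI := hp.isNilpotent
    infer_instance
  have hGK : Group.IsSolvable (G ⧸ K) := by
    refine Group.isSolvable_of_surjective (f := (QuotientGroup.mk' K).comp M.subtype) ?_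
    rw [← MonoidHom.range_eq_top, MonoidHom.range_comp, Subgroup.range_subtype]
    have := congrArg (Subgroup.map (QuotientGroup.mk' K)) htop
    rwa [Subgroup.map_sup, (Subgroup.map_eq_bot_iff K).mpr (QuotientGroup.ker_mk' K).ge, sup_bot_eq,
      Subgroup.map_top_of_surjective _ (QuotientGroup.mk'_surjective K)] at this
  exact Group.isSolvable_of_ker_le_range K.subtype (QuotientGroup.mk' K)
    (by rw [QuotientGroup.ker_mk', Subgroup.range_subtype])

/-- Induction: solvability for a class `R` of nilpotent coatoms closed under images. -/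
theorem isSolvable_of_nilpotent_coatom (R : ∀ (H : Type u) [Group H], Prop)
    (hR : ∀ (H H' : Type u) [Group H] [Finite H] [Group.IsNilpotent H] [Group H'] (f : H →* H'),
      Function.Surjective f → R H → R H')
    (hnpc : ∀ (G : Type u) [Group G] [Finite G] (M : Subgroup G) [Group.IsNilpotent M], IsCoatom M → R M →
      (∀ K : Subgroup G, K.Normal → K ≤ M → K = ⊥) →
      ∀ (p : ℕ) [Fact p.Prime], p ∣ Nat.card M → Cfsg.HasNormalPComplement p G)
    (M : Subgroup G) (hmax : IsCoatom M) (hnil : Group.IsNilpotent M) (hRM : R M) :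
    Group.IsSolvable G := by
  induction h : Nat.card G using Nat.strong_induction_on generalizing G with
  | _ n ih =>
    by_cases hcore : ∀ K : Subgroup G, K.Normal → K ≤ M → K = ⊥
    · by_cases hM : M = ⊥
      · subst hM
        obtain ⟨x, hx⟩ : ∃ x : G, x ≠ 1 := by
          by_contra hcon
          push Not at hcon
          exact hmax.1 (eq_top_iff.mpr fun x _ => by rw [hcon x]; exact one_mem _)
        have hcyc : IsCyclic G := by
          refine isCyclic_iff_exists_zpowers_eq_top.mpr ⟨x, hmax.2 _ ?_⟩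
          rw [bot_lt_iff_ne_bot, Subgroup.zpowers_ne_bot]
          exact hx
        letI := hcyc.commGroup
        infer_instance
      · haveI := hnil
        exact isSolvable_of_corefree hmax hcore hM fun p _ hp => hnpc G M hmax hRM hcore p hp
    · push Not at hcore
      obtain ⟨K, hKn, hKM, hKne⟩ := hcore
      haveI := hnil
      let ρ := QuotientGroup.mk' K
      have hsurj : Function.Surjective (ρ.subgroupMap M) := MonoidHom.subgroupMap_surjective ρ M
      have hcomap : (M.map ρ).comap ρ = M := by
        rw [Subgroup.comap_map_eq_self]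
        rw [QuotientGroup.ker_mk']; exact hKM
      have hmax' : IsCoatom (M.map ρ) := by
        refine ⟨fun h => hmax.1 ?_, fun L hL => ?_⟩
        · rw [← hcomap, h, Subgroup.comap_top]
        · have h1 : M < L.comap ρ := by
            rw [← hcomap]
            exact (Subgroup.comap_lt_comap_of_surjective (QuotientGroup.mk'_surjective K)).mpr hL
          have h2 := hmax.2 _ h1
          rw [← Subgroup.map_comap_eq_self_of_surjective (QuotientGroup.mk'_surjective K) L, h2,
            Subgroup.map_top_of_surjective _ (QuotientGroup.mk'_surjective K)]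
      have hlt : Nat.card (G ⧸ K) < n := by
        rw [← h, ← K.index_eq_card, ← K.card_mul_index]
        exact lt_mul_of_one_lt_left (Nat.pos_of_ne_zero Subgroup.index_ne_zero_of_finite)
          (K.one_lt_card_iff_ne_bot.mpr hKne)
      haveI := ih _ hlt (G := G ⧸ K) (M.map ρ) hmax' (Group.nilpotent_of_surjective _ hsurj)
        (hR _ _ _ hsurj hRM) rfl
      haveI : Group.IsNilpotent K :=
        Group.nilpotent_of_mulEquiv (Subgroup.subgroupOfEquivOfLe hKM)
      exact Group.isSolvable_of_ker_le_range K.subtype ρ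
        (by rw [QuotientGroup.ker_mk', Subgroup.range_subtype])

/-- A Sylow subgroup of class at most two: normal `p`-complement from its normal subgroups. -/
theorem coprime_centralizes_of_class_two {p : ℕ} [Fact p.Prime] (P : Sylow p G)
    (hcl : ∀ a ∈ P, ∀ b ∈ P, ∀ c ∈ P, Commute (a * b * a⁻¹ * b⁻¹) c)
    (hloc : ∀ Q : Subgroup G, Q ≤ (P : Subgroup G) → Q ≠ ⊥ →
      (P : Subgroup G) ≤ Subgroup.normalizer (Q : Set G) →
      ∀ g ∈ Subgroup.normalizer (Q : Set G), (orderOf g).Coprime p → g ∈ Subgroup.centralizer (Q : Set G))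
    (Q : Subgroup G) (hQ : IsPGroup p Q) (g : G) (hg : g ∈ Subgroup.normalizer (Q : Set G))
    (hgo : (orderOf g).Coprime p) : g ∈ Subgroup.centralizer (Q : Set G) := by
  induction hn : Nat.card G - Nat.card Q using Nat.strong_induction_on generalizing Q g with
  | _ n ih =>
    by_cases hQb : Q = ⊥
    · subst hQb
      simp [Subgroup.mem_centralizer_iff]
    set N := Subgroup.normalizer (Q : Set G) with hN
    let S : Sylow p N := default
    obtain ⟨T, hST⟩ := (S.isPGroup'.map N.subtype).exists_le_sylow
    have hTN : ((T : Subgroup G) ⊓ N).subgroupOf N = (S : Subgroup N) := by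
      refine S.is_maximal' ((T.isPGroup'.to_le inf_le_left).of_equiv
        (Subgroup.subgroupOfEquivOfLe inf_le_right).symm) ?_
      intro x hx
      exact ⟨hST ⟨x, hx, rfl⟩, x.2⟩
    have hQT : Q ≤ (T : Subgroup G) := by
      have hQS : Q.subgroupOf N ≤ (S : Subgroup N) := by
        haveI : (Q.subgroupOf N).Normal := Subgroup.normal_in_normalizer
        have hp : IsPGroup p (Q.subgroupOf N) :=
          hQ.of_equiv (Subgroup.subgroupOfEquivOfLe Subgroup.le_normalizer).symm
        have := S.is_maximal' (hp.to_sup_of_normal_left S.isPGroup') le_sup_right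
        exact le_sup_left.trans this.le
      exact fun x hx => hST ⟨⟨x, Subgroup.le_normalizer hx⟩, hQS hx, rfl⟩
    set C := Subgroup.centralizer (Q : Set G) with hC
    by_cases hCT : (T : Subgroup G) ⊓ C ≤ Q
    · -- `Q` is normal in `T`
      have hTn : (T : Subgroup G) ≤ N := by
        intro t ht
        obtain ⟨x, hx⟩ := MulAction.exists_smul_eq G P T
        have hmem : ∀ a ∈ (T : Subgroup G), x⁻¹ * a * x ∈ P := by
          intro a ha
          rw [← hx, Sylow.coe_subgroup_smul, Subgroup.mem_pointwise_smul_iff_inv_smul_mem,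
            ← map_inv, MulAut.smul_def, MulAut.conj_apply, inv_inv] at ha
          exact ha
        have hcT : ∀ a ∈ (T : Subgroup G), ∀ b ∈ (T : Subgroup G), a * b * a⁻¹ * b⁻¹ ∈ C := by
          intro a ha b hb
          rw [hC, Subgroup.mem_centralizer_iff]
          intro c hc
          have h1 := hcl _ (hmem a ha) _ (hmem b hb) _ (hmem c (hQT hc))
          have h2 := (h1.map (MulAut.conj x).toMonoidHom).eq
          simp only [MulEquiv.coe_toMonoidHom, MulAut.conj_apply] at h2
          simpa [mul_assoc] using h2.symm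
        have key : ∀ s ∈ (T : Subgroup G), ∀ y ∈ Q, s * y * s⁻¹ ∈ Q := by
          intro s hs y hy
          have h1 : s * y * s⁻¹ * y⁻¹ ∈ Q :=
            @hCT (s * y * s⁻¹ * y⁻¹) ⟨(T : Subgroup G).mul_mem ((T : Subgroup G).mul_mem ((T : Subgroup G).mul_mem hs (hQT hy))
              ((T : Subgroup G).inv_mem hs)) ((T : Subgroup G).inv_mem (hQT hy)),
              hcT s hs y (hQT hy)⟩
          have := mul_mem h1 hy
          rwa [inv_mul_cancel_right] at this
        rw [hN, Subgroup.mem_normalizer_iff]
        refine fun y => ⟨key t ht y, fun hy => ?_⟩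
        have := key t⁻¹ (inv_mem ht) _ hy
        simpa [mul_assoc] using this
      obtain ⟨x, hx⟩ := MulAction.exists_smul_eq G T P
      have hxP : (P : Subgroup G) = (T : Subgroup G).map (MulAut.conj x).toMonoidHom := by
        rw [← hx, Sylow.coe_subgroup_smul]; rfl
      have h1 := hloc (Q.map (MulAut.conj x).toMonoidHom) (hxP ▸ Subgroup.map_mono hQT)
        (fun h => hQb ((Subgroup.map_eq_bot_iff_of_injective _ (MulAut.conj x).injective).mp h))
        (by rw [hxP, ← Subgroup.map_equiv_normalizer_eq]; exact Subgroup.map_mono hTn)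
        (x * g * x⁻¹) (by rw [← Subgroup.map_equiv_normalizer_eq]; exact ⟨g, hg, rfl⟩)
        (by rwa [← MulAut.conj_apply, MulEquiv.orderOf_eq])
      rw [hC, Subgroup.mem_centralizer_iff]
      intro y hy
      have h2 := Subgroup.mem_centralizer_iff.mp h1 _ ⟨y, hy, rfl⟩
      simp only [MulEquiv.coe_toMonoidHom, MulAut.conj_apply] at h2
      have h3 := congrArg (fun w => x⁻¹ * w * x) h2
      simpa [mul_assoc] using h3
    · -- Frattini
      set R := Q ⊔ ((T : Subgroup G) ⊓ C) with hR
      have hQR : Q < R := lt_of_le_of_ne le_sup_left fun h => hCT (h ▸ le_sup_right)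
      have hRp : IsPGroup p R := T.isPGroup'.to_le (sup_le hQT inf_le_left)
      have hRlt : Nat.card G - Nat.card R < n := by
        have h1 : Nat.card Q < Nat.card R := Set.Finite.card_lt_card (Set.toFinite _) hQR
        have h2 := Subgroup.card_le_card_group R
        omega
      have hCN : C ≤ N := Subgroup.centralizer_le_normalizer _
      haveI : (C.subgroupOf N).Normal := by
        rw [hC, hN]; infer_instance
      have hUe : ((S : Subgroup N) ⊓ C.subgroupOf N).map N.subtype = (T : Subgroup G) ⊓ C := by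
        rw [← hTN, Subgroup.map_inf _ _ _ N.subtype_injective, Subgroup.subgroupOf_map_subtype,
          Subgroup.subgroupOf_map_subtype, inf_eq_left.mpr hCN]
        exact le_antisymm (fun y hy => ⟨hy.1.1.1, hy.2⟩) (fun y hy => ⟨⟨⟨hy.1, hCN hy.2⟩, hCN hy.2⟩, hy.2⟩)
      have hfrat := FusionMod.frattini_inf S (C.subgroupOf N)
      obtain ⟨a, ha, b, hb, hab⟩ := Subgroup.mem_sup_of_normal_right.mp
        (hfrat.symm ▸ Subgroup.mem_top (⟨g, hg⟩ : N))
      have haT : (a : G) ∈ Subgroup.normalizer (((T : Subgroup G) ⊓ C : Subgroup G) : Set G) := by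
        rw [← hUe]
        exact Subgroup.le_normalizer_map N.subtype ⟨a, ha, rfl⟩
      have haR : (a : G) ∈ Subgroup.normalizer (R : Set G) := by
        rw [Subgroup.mem_normalizer_iff_map_conj_eq, hR, Subgroup.map_sup,
          Subgroup.mem_normalizer_iff_map_conj_eq.mp a.2, Subgroup.mem_normalizer_iff_map_conj_eq.mp haT]
      obtain ⟨u, v, huv, -, hu, ⟨k, hv⟩, huz, hvz⟩ := exists_prime_split (a : G) (Fact.out (p := p.Prime))
      have huC : u ∈ Subgroup.centralizer (R : Set G) :=
        ih _ hRlt R hRp u (Subgroup.zpowers_le.mpr haR huz) hu rfl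
      let π := QuotientGroup.mk' (C.subgroupOf N)
      let u' : N := ⟨u, Subgroup.zpowers_le.mpr a.2 huz⟩
      let v' : N := ⟨v, Subgroup.zpowers_le.mpr a.2 hvz⟩
      have hu' : π u' = 1 := (QuotientGroup.eq_one_iff u').mpr
        (Subgroup.centralizer_le (SetLike.coe_subset_coe.mpr (le_sup_left : Q ≤ R)) huC)
      have hb' : π b = 1 := (QuotientGroup.eq_one_iff b).mpr hb
      have heq : π ⟨g, hg⟩ = π v' := by
        rw [← hab, map_mul, hb', mul_one, show a = u' * v' from Subtype.ext huv.symm, map_mul, hu', one_mul]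
      have h1 : orderOf (π ⟨g, hg⟩) ∣ p ^ k := by
        rw [heq, ← hv]
        exact (orderOf_map_dvd π v').trans (by rw [← Subgroup.orderOf_coe])
      have h2 : orderOf (π ⟨g, hg⟩) ∣ orderOf g :=
        (orderOf_map_dvd π _).trans (by rw [← Subgroup.orderOf_coe])
      have h3 := orderOf_eq_one_iff.mp
        (Nat.eq_one_of_dvd_coprimes (hgo.pow_right k) h2 h1)
      exact (QuotientGroup.eq_one_iff (⟨g, hg⟩ : N)).mp h3

end Cfsg.Agent.Lib.Elem69
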