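import Mathlib
import Cfsg.Agent.Lib.Core.PiCore
import Cfsg.Agent.Lib.Coprime.Sylow
import Cfsg.Agent.Lib.Elem69.Basic

/-!
# π-closed groups: π-separable plus a condition on normalisers of π'-subgroups
-/

namespace Cfsg.Agent.Lib.Elem69

open Cfsg.Agent.Lib.Hall (IsPiNumber)
open Subgroup

variable {G : Type*} [Group G] [Finite G] {π : Set ℕ}

/-- The π-elements of `G` form the subgroup `K`. -/
def IsPiElements (π : Set ℕ) (K : Subgroup G) : Prop :=
  ∀ x : G, x ∈ K ↔ IsPiNumber π (orderOf x)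

theorem isPiNumber_of_orderOf {L : Subgroup G} (h : ∀ x ∈ L, IsPiNumber π (orderOf x)) :
    IsPiNumber π (Nat.card L) := by
  intro q hq hd
  have := Fact.mk hq
  obtain ⟨x, hx⟩ := exists_prime_orderOf_dvd_card' q hd
  exact h x x.2 q hq (by rw [Subgroup.orderOf_coe, hx])

/-- A normal π-subgroup of π'-index consists of all π-elements. -/
theorem isPiElements_of_normal {L : Subgroup G} [L.Normal] (hL : IsPiNumber π (Nat.card L))
    (hi : IsPiNumber πᶜ L.index) : IsPiElements π L := by
  intro x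
  refine ⟨fun hx => hL.of_dvd (L.orderOf_dvd_natCard hx), fun hx => ?_⟩
  rw [← QuotientGroup.eq_one_iff, ← orderOf_eq_one_iff]
  exact (hx.of_dvd (orderOf_map_dvd (QuotientGroup.mk' L) x)).eq_one
    (hi.of_dvd (orderOf_dvd_natCard (x : G ⧸ L)))

theorem IsPiElements.normal {K : Subgroup G} (h : IsPiElements π K) : K.Normal := by
  refine ⟨fun x hx g => (h _).mpr ?_⟩
  rw [← MulAut.conj_apply, MulEquiv.orderOf_eq]
  exact (h x).mp hx

theorem IsPiElements.card {K : Subgroup G} (h : IsPiElements π K) : IsPiNumber π (Nat.card K) :=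
  isPiNumber_of_orderOf fun x hx => (h x).mp hx

theorem IsPiElements.index {K : Subgroup G} (h : IsPiElements π K) : IsPiNumber πᶜ K.index := by
  intro q hq hd hqπ
  have := Fact.mk hq
  have := h.normal
  obtain ⟨y, hy⟩ := exists_prime_orderOf_dvd_card' q hd
  obtain ⟨g, rfl⟩ := QuotientGroup.mk_surjective y
  obtain ⟨u, v, huv, -, hu, ⟨k, hv⟩, -, -⟩ := exists_prime_split g hq
  have hvK : v ∈ K := (h v).mpr (by rw [hv]; exact Hall.isPiNumber_pow_prime hq hqπ k)
  have he : (g : G ⧸ K) = (u : G ⧸ K) := by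
    rw [← huv, QuotientGroup.mk_mul, (QuotientGroup.eq_one_iff v).mpr hvK, mul_one]
  have h1 : q ∣ orderOf u := by
    rw [← hy, he]; exact orderOf_map_dvd (QuotientGroup.mk' K) u
  exact hq.coprime_iff_not_dvd.mp hu.symm h1

/-- Every element is a product of a π-element and a π'-element. -/
theorem exists_pi_split (π : Set ℕ) (g : G) :
    ∃ u v : G, u * v = g ∧ Commute u v ∧ IsPiNumber π (orderOf u) ∧ IsPiNumber πᶜ (orderOf v) ∧
      u ∈ zpowers g := by
  classical
  let n := orderOf g
  have key : ∀ m : ℕ, m ≠ 0 → ∃ a b : ℕ, a * b = m ∧ a.Coprime b ∧ IsPiNumber π a ∧ IsPiNumber πᶜ b := by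
    intro m hm
    induction m using Nat.strong_induction_on with
    | _ m ih =>
      rcases eq_or_ne m 1 with rfl | hm1
      · exact ⟨1, 1, rfl, Nat.coprime_one_left 1, Hall.isPiNumber_one, Hall.isPiNumber_one⟩
      obtain ⟨q, hq, hqm⟩ := Nat.exists_prime_and_dvd hm1
      obtain ⟨e, r, hr, hmr⟩ := Nat.exists_eq_pow_mul_and_not_dvd hm q hq.ne_one
      have he : e ≠ 0 := by
        rintro rfl
        rw [pow_zero, one_mul] at hmr
        exact hr (hmr ▸ hqm)
      have hr0 : r ≠ 0 := fun h => hr (h ▸ dvd_zero q)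
      obtain ⟨a, b, hab, hcop, ha, hb⟩ := ih r (by
        rw [hmr]
        exact lt_mul_of_one_lt_left (Nat.pos_of_ne_zero hr0) (Nat.one_lt_pow he hq.one_lt)) hr0
      have hqa : (q ^ e).Coprime b :=
        Nat.Coprime.pow_left e (hq.coprime_iff_not_dvd.mpr fun h => hr (hab ▸ h.mul_left a))
      have hqb : (q ^ e).Coprime a :=
        Nat.Coprime.pow_left e (hq.coprime_iff_not_dvd.mpr fun h => hr (hab ▸ h.mul_right b))
      by_cases hqπ : q ∈ π
      · exact ⟨q ^ e * a, b, by rw [hmr, ← hab]; ring, Nat.Coprime.mul_left hqa hcop,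
          (Hall.isPiNumber_pow_prime hq hqπ e).mul ha, hb⟩
      · exact ⟨a, q ^ e * b, by rw [hmr, ← hab]; ring, Nat.Coprime.mul_right hqb.symm hcop,
          ha, (Hall.isPiNumber_pow_prime hq hqπ e).mul hb⟩
  obtain ⟨a, b, hab, hcop, ha, hb⟩ := key n (orderOf_pos g).ne'
  obtain ⟨u, v, h1, h2, h3, h4, h5, -⟩ := exists_split (g := g) hcop (by rw [hab]; exact pow_orderOf_eq_one g)
  exact ⟨u, v, h1, h2, ha.of_dvd (orderOf_dvd_of_pow_eq_one h3), hb.of_dvd (orderOf_dvd_of_pow_eq_one h4), h5⟩

/-- The normaliser hypothesis of the π-closure criterion. -/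
def NormalizerCond (π : Set ℕ) (G : Type*) [Group G] : Prop :=
  ∀ H : Subgroup G, H ≠ ⊥ → IsPiNumber πᶜ (Nat.card H) →
    IsPiNumber πᶜ ((centralizer (H : Set G)).relIndex (normalizer (H : Set G)))

theorem IsPiElements.normalizerCond {K : Subgroup G} (h : IsPiElements π K) : NormalizerCond π G := by
  intro H _ hH q hq hd hqπ
  have := Fact.mk hq
  have hn : ((centralizer (H : Set G)).subgroupOf (normalizer (H : Set G))).Normal := by
    refine ⟨fun c hc m => ?_⟩
    rw [mem_subgroupOf, mem_centralizer_iff] at hc ⊢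
    intro z hz
    have h1 := hc _ ((mem_normalizer_iff''.mp m.2 z).mp hz)
    push_cast
    calc z * ((m : G) * c * (m : G)⁻¹) = m * (((m : G)⁻¹ * z * m) * c) * (m : G)⁻¹ := by group
      _ = m * (c * ((m : G)⁻¹ * z * m)) * (m : G)⁻¹ := by rw [h1]
      _ = (m : G) * c * (m : G)⁻¹ * z := by group
  obtain ⟨y, hy⟩ := exists_prime_orderOf_dvd_card' q hd
  obtain ⟨g, rfl⟩ := QuotientGroup.mk_surjective y
  obtain ⟨u, v, huv, -, hu, ⟨k, hv⟩, -, -⟩ := exists_prime_split g hq
  have hvK : (v : G) ∈ K := (h _).mpr (by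
    rw [Subgroup.orderOf_coe, hv]; exact Hall.isPiNumber_pow_prime hq hqπ k)
  have hKn := h.normal
  have hvC : v ∈ (centralizer (H : Set G)).subgroupOf (normalizer (H : Set G)) := by
    rw [mem_subgroupOf, mem_centralizer_iff]
    intro z hz
    have hz1 : z * v * z⁻¹ * (v : G)⁻¹ ∈ K := mul_mem (hKn.conj_mem _ hvK z) (inv_mem hvK)
    have hz2 : z * v * z⁻¹ * (v : G)⁻¹ ∈ H := by
      rw [mul_assoc, mul_assoc]
      refine mul_mem hz ?_
      rw [← mul_assoc]
      exact (mem_normalizer_iff.mp v.2 z⁻¹).mp (inv_mem hz)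
    have : orderOf (z * v * z⁻¹ * (v : G)⁻¹) = 1 :=
      ((h _).mp hz1).eq_one (hH.of_dvd (H.orderOf_dvd_natCard hz2))
    rw [orderOf_eq_one_iff] at this
    calc z * (v : G) = z * v * z⁻¹ * (v : G)⁻¹ * v * z := by group
      _ = (v : G) * z := by rw [this, one_mul]
  have he : (QuotientGroup.mk g : normalizer (H : Set G) ⧸ _) =
      QuotientGroup.mk (s := (centralizer (H : Set G)).subgroupOf (normalizer (H : Set G))) u := by
    rw [← huv, QuotientGroup.mk_mul, (QuotientGroup.eq_one_iff v).mpr hvC, mul_one]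
  have h1 : q ∣ orderOf u := by
    rw [← hy, he]
    exact orderOf_map_dvd (QuotientGroup.mk' ((centralizer (H : Set G)).subgroupOf (normalizer (H : Set G)))) u
  exact hq.coprime_iff_not_dvd.mp hu.symm h1

/-- Under the normaliser hypothesis a π-element of `G ⧸ L` (`L` a normal π-subgroup) that
normalises a `q`-subgroup, `q ∉ π`, centralises it. -/
theorem commute_of_normalizerCond (hhom : NormalizerCond π G) (L : Subgroup G) [L.Normal]
    (hL : IsPiNumber π (Nat.card L)) {q : ℕ} [Fact q.Prime] (hq : q ∉ π)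
    (S : Subgroup (G ⧸ L)) (hS : IsPGroup q S) {x : G ⧸ L} (hx : IsPiNumber π (orderOf x))
    (hxS : x ∈ normalizer (S : Set (G ⧸ L))) : ∀ s ∈ S, s * x = x * s := by
  classical
  have hqp : q.Prime := Fact.out
  let f := QuotientGroup.mk' L
  let T := S.comap f
  obtain ⟨P⟩ : Nonempty (Sylow q T) := inferInstance
  obtain ⟨g, rfl⟩ := QuotientGroup.mk_surjective x
  have hLT : L ≤ T := QuotientGroup.le_comap_mk' L S
  obtain ⟨j, hj⟩ := hS.exists_card_eq
  have hTc : Nat.card T = Nat.card L * q ^ j := by rw [PSolvable.card_comap_mk', hj]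
  have hqL : ¬ q ∣ Nat.card L := fun h => hq (hL q hqp h)
  set H := (P : Subgroup T).map T.subtype with hH
  have hHc : Nat.card H = q ^ j := by
    rw [← Nat.card_congr ((P : Subgroup T).equivMapOfInjective _ T.subtype_injective).toEquiv,
      P.card_eq_multiplicity, hTc, Nat.factorization_mul Nat.card_pos.ne' (pow_ne_zero _ hqp.ne_zero),
      Finsupp.add_apply, Nat.factorization_eq_zero_of_not_dvd hqL, hqp.factorization_pow]
    simp
  have hdisj : ∀ z, z ∈ H → z ∈ L → z = 1 := by
    intro z hz1 hz2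
    have h1 : orderOf z ∣ q ^ j := hHc ▸ H.orderOf_dvd_natCard hz1
    rw [← orderOf_eq_one_iff]
    exact Nat.eq_one_of_dvd_coprimes ((hqp.coprime_iff_not_dvd.mpr hqL).pow_left j) h1
      (L.orderOf_dvd_natCard hz2)
  have hmap : H.map f = S := by
    refine Subgroup.eq_of_le_of_card_ge ?_ ?_
    · rintro _ ⟨z, ⟨t, -, rfl⟩, rfl⟩; exact t.2
    · rw [hj, ← hHc]
      refine le_of_eq (Nat.card_image_of_injOn (s := (H : Set G)) (f := f) ?_).symm
      intro a ha b hb hab
      have h1 : a⁻¹ * b = 1 := hdisj _ (H.mul_mem (H.inv_mem ha) hb) (QuotientGroup.eq.mp hab)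
      exact inv_mul_eq_one.mp h1
  rcases eq_or_ne H ⊥ with hbot | hne
  · intro s hs
    rw [← hmap, hbot, Subgroup.map_bot, Subgroup.mem_bot] at hs
    rw [hs, one_mul, mul_one]
  -- `g` normalises `T`, so it can be moved by an element of `T` into the normaliser of `H`
  have hgT : ∀ t, t ∈ T ↔ g * t * g⁻¹ ∈ T := by
    intro t
    show (t : G ⧸ L) ∈ S ↔ ((g * t * g⁻¹ : G) : G ⧸ L) ∈ S
    rw [QuotientGroup.mk_mul, QuotientGroup.mk_mul, QuotientGroup.mk_inv]
    exact mem_normalizer_iff.mp hxS _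
  have hHT : H ≤ T := Subgroup.map_subtype_le _
  let H' := H.map (MulAut.conj g).toMonoidHom
  have hH'T : H' ≤ T := by rintro _ ⟨z, hz, rfl⟩; exact (hgT z).mp (hHT hz)
  have hH'c : Nat.card (H'.subgroupOf T) = q ^ (Nat.card T).factorization q := by
    rw [Nat.card_congr (Subgroup.subgroupOfEquivOfLe hH'T).toEquiv,
      ← Nat.card_congr (H.equivMapOfInjective _ (MulAut.conj g).injective).toEquiv, hH,
      ← Nat.card_congr ((P : Subgroup T).equivMapOfInjective _ T.subtype_injective).toEquiv,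
      P.card_eq_multiplicity]
  obtain ⟨t, ht⟩ := MulAction.exists_smul_eq T (Sylow.ofCard _ hH'c) P
  let n := (t : G) * g
  have hn : n ∈ normalizer (H : Set G) := by
    refine mem_normalizer_fintype ?_
    intro z hz
    have h1 : g * z * g⁻¹ ∈ H' := ⟨z, hz, rfl⟩
    have h2 : t * ⟨g * z * g⁻¹, hH'T h1⟩ * t⁻¹ ∈ (P : Subgroup T) := by
      rw [← ht]
      exact Subgroup.mem_map.mpr ⟨⟨g * z * g⁻¹, hH'T h1⟩, Subgroup.mem_subgroupOf.mpr h1, rfl⟩
    refine ⟨_, h2, ?_⟩
    simp [n, mul_assoc]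
  have hTsplit : ∀ s ∈ S, ∃ z ∈ H, (z : G ⧸ L) = s := by
    intro s hs; rw [← hmap] at hs; obtain ⟨z, hz, rfl⟩ := hs; exact ⟨z, hz, rfl⟩
  -- replace `n` by an element with the same image as `g`
  obtain ⟨z₀, hz₀, hz₀e⟩ := hTsplit (((t : G) : G ⧸ L)) t.2
  let m := z₀⁻¹ * n
  have hm : m ∈ normalizer (H : Set G) := mul_mem (inv_mem (le_normalizer hz₀)) hn
  have hme : (m : G ⧸ L) = (g : G ⧸ L) := by
    simp only [m, n, QuotientGroup.mk_mul, QuotientGroup.mk_inv, hz₀e, inv_mul_cancel_left]
  -- `m` centralises `H`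
  have hLC : ∀ z ∈ normalizer (H : Set G), z ∈ L → z ∈ centralizer (H : Set G) := by
    intro z hz hzL
    rw [mem_centralizer_iff]
    intro w hw
    have h1 : z * w * z⁻¹ * w⁻¹ ∈ H := mul_mem ((mem_normalizer_iff.mp hz w).mp hw) (inv_mem hw)
    have h2 : z * w * z⁻¹ * w⁻¹ ∈ L := by
      rw [mul_assoc, mul_assoc]
      refine mul_mem hzL ?_
      rw [← mul_assoc]
      exact (inferInstance : L.Normal).conj_mem _ (inv_mem hzL) w
    have h3 := hdisj _ h1 h2
    calc w * z = (z * w * z⁻¹ * w⁻¹) * w * z := by rw [h3, one_mul]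
      _ = z * w := by group
  set C := centralizer (H : Set G) with hC
  set N := normalizer (H : Set G) with hN
  have hCn : (C.subgroupOf N).Normal := by
    refine ⟨fun c hc d => ?_⟩
    rw [mem_subgroupOf, hC, mem_centralizer_iff] at hc ⊢
    intro z hz
    have h1 := hc _ ((mem_normalizer_iff''.mp d.2 z).mp hz)
    push_cast
    calc z * ((d : G) * c * (d : G)⁻¹) = d * (((d : G)⁻¹ * z * d) * c) * (d : G)⁻¹ := by group
      _ = d * (c * ((d : G)⁻¹ * z * d)) * (d : G)⁻¹ := by rw [h1]
      _ = (d : G) * c * (d : G)⁻¹ * z := by group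
  let m' : N ⧸ C.subgroupOf N := QuotientGroup.mk ⟨m, hm⟩
  have hpow : m' ^ orderOf (g : G ⧸ L) = 1 := by
    rw [← QuotientGroup.mk_pow (C.subgroupOf N), QuotientGroup.eq_one_iff, mem_subgroupOf,
      Subgroup.coe_pow]
    refine hLC _ (pow_mem hm _) ?_
    rw [← QuotientGroup.eq_one_iff, QuotientGroup.mk_pow L]
    rw [show ((m : G) : G ⧸ L) = (g : G ⧸ L) from hme]
    exact pow_orderOf_eq_one _
  have hq' : IsPiNumber πᶜ (C.relIndex N) := hhom H hne (by
    rw [hHc]; exact Hall.isPiNumber_pow_prime hqp hq j)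
  have h1 : orderOf m' = 1 :=
    (hx.of_dvd (orderOf_dvd_of_pow_eq_one hpow)).eq_one (hq'.of_dvd (orderOf_dvd_natCard m'))
  rw [orderOf_eq_one_iff, QuotientGroup.eq_one_iff, mem_subgroupOf] at h1
  intro s hs
  obtain ⟨z, hz, rfl⟩ := hTsplit s hs
  show (z : G ⧸ L) * (g : G ⧸ L) = (g : G ⧸ L) * (z : G ⧸ L)
  rw [← hme, ← QuotientGroup.mk_mul, ← QuotientGroup.mk_mul]
  exact congrArg _ (mem_centralizer_iff.mp h1 z hz)

/-- A π-element of `G ⧸ L` centralises every normal π'-subgroup. -/
theorem commute_piPrime_normal (hhom : NormalizerCond π G) (L : Subgroup G) [L.Normal]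
    (hL : IsPiNumber π (Nat.card L)) (M : Subgroup (G ⧸ L)) [M.Normal]
    (hM : IsPiNumber πᶜ (Nat.card M)) {x : G ⧸ L} (hx : IsPiNumber π (orderOf x)) :
    ∀ m ∈ M, m * x = x * m := by
  classical
  let C := (centralizer ({x} : Set (G ⧸ L))).subgroupOf M
  suffices h : C.index = 1 by
    intro m hm
    have : (⟨m, hm⟩ : M) ∈ C := by rw [index_eq_one.mp h]; exact mem_top _
    exact mem_centralizer_singleton_iff.mp (mem_subgroupOf.mp this)
  by_contra hne
  obtain ⟨q, hq, hqd⟩ := Nat.exists_prime_and_dvd hne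
  have := Fact.mk hq
  have hqπ : q ∉ π := hM q hq (hqd.trans C.index_dvd_card)
  have hAK : zpowers x ≤ normalizer (M : Set (G ⧸ L)) := by
    rw [normalizer_eq_top]; exact le_top
  have hcop : (Nat.card (zpowers x)).Coprime (Nat.card M) := by
    rw [Nat.card_zpowers]; exact hx.coprime hM
  obtain ⟨P, hP⟩ := Coprime.exists_invariant_sylow (p := q) hAK hcop (Or.inl inferInstance)
  apply P.not_dvd_index
  refine hqd.trans (index_dvd_of_le fun s hs => ?_)
  rw [mem_subgroupOf, mem_centralizer_singleton_iff]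
  exact commute_of_normalizerCond hhom L hL hqπ _ (P.isPGroup'.map _) hx (hP (mem_zpowers x)) _
    ⟨s, hs, rfl⟩

/-- A π-separable group satisfying the normaliser condition is π-closed. -/
theorem isPiElements_piCore_of_chain (hhom : NormalizerCond π G) {n : ℕ}
    (H : Fin (n + 1) → Subgroup G) (h0 : H 0 = ⊥) (hl : H (Fin.last n) = ⊤) (hnorm : ∀ i, (H i).Normal)
    (hs : ∀ i : Fin n, IsPiNumber π ((H i.castSucc).relIndex (H i.succ)) ∨
      IsPiNumber πᶜ ((H i.castSucc).relIndex (H i.succ))) :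
    IsPiElements π (Cfsg.piCore π G) := by
  classical
  set L := Cfsg.piCore π G with hLdef
  have hLn : L.Normal := by
    have := PiCore.piCore_characteristic (G := G) (π := π)
    infer_instance
  have hL : IsPiNumber π (Nat.card L) := PiCore.isPiNumber_piCore
  refine isPiElements_of_normal hL ?_
  let Q := G ⧸ L
  have hQ1 : Cfsg.piCore π Q = ⊥ := PiCore.piCore_quotient_eq_bot
  let M : Subgroup Q := Cfsg.piCore πᶜ Q
  have hMn : M.Normal := by
    have := PiCore.piCore_characteristic (G := Q) (π := πᶜ)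
    infer_instance
  have hM : IsPiNumber πᶜ (Nat.card M) := PiCore.isPiNumber_piCore
  -- every term of the chain maps into `M`
  suffices hall : ∀ i, (H i).map (QuotientGroup.mk' L) ≤ M by
    have htop : M = ⊤ := by
      have := hall (Fin.last n)
      rw [hl, Subgroup.map_top_of_surjective _ (QuotientGroup.mk'_surjective L)] at this
      exact top_le_iff.mp this
    rw [htop, Subgroup.card_top] at hM
    exact hM
  intro i
  induction i using Fin.induction with
  | zero => rw [h0, Subgroup.map_bot]; exact bot_le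
  | succ i ih =>
    let f := QuotientGroup.mk' L
    let V := (H i.succ).map f
    have hVn : V.Normal := (hnorm _).map f (QuotientGroup.mk'_surjective _)
    let g := QuotientGroup.mk' M
    let W := V.map g
    have hWn : W.Normal := hVn.map g (QuotientGroup.mk'_surjective _)
    have hWd : Nat.card W ∣ (H i.castSucc).relIndex (H i.succ) := by
      have hk : H i.castSucc ≤ (g.comp f).ker := fun z hz => by
        rw [MonoidHom.mem_ker, MonoidHom.comp_apply]
        exact (QuotientGroup.eq_one_iff _).mpr (ih ⟨z, hz, rfl⟩)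
      have := Subgroup.relIndex_dvd_of_le_left (H i.succ) hk
      rwa [Subgroup.relIndex_ker, ← Subgroup.map_map] at this
    have hWπ : IsPiNumber π (Nat.card W) ∨ IsPiNumber πᶜ (Nat.card W) :=
      (hs i).imp (fun h => h.of_dvd hWd) (fun h => h.of_dvd hWd)
    rcases hWπ with hπ | hπ'
    · -- V = M · C_V(M), and C_V(M) has a normal π-part
      let C := V ⊓ centralizer (M : Set Q)
      have hcn : (centralizer (M : Set Q)).Normal := @Subgroup.normal_centralizer Q _ M hMn
      have hCn : C.Normal := inferInstance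
      have hCd : IsPiNumber π ((M.subgroupOf C).index) := by
        rw [← Subgroup.relIndex, ← QuotientGroup.ker_mk' M, Subgroup.relIndex_ker]
        exact hπ.of_dvd (Subgroup.card_dvd_of_le (Subgroup.map_mono inf_le_left))
      have hMC : IsPiNumber πᶜ (Nat.card (M.subgroupOf C)) := by
        rw [← Subgroup.inf_subgroupOf_left, inf_comm,
          Nat.card_congr (Subgroup.subgroupOfEquivOfLe inf_le_right).toEquiv]
        exact hM.of_dvd (Subgroup.card_dvd_of_le inf_le_left)
      obtain ⟨D, hD⟩ := Subgroup.exists_right_complement'_of_coprime (N := M.subgroupOf C)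
        (hMC.coprime (hCd.compl_compl)).symm.symm
      have hDc : IsPiNumber π (Nat.card D) := by rwa [← hD.symm.index_eq_card]
      -- `D` is the set of π-elements of `C`, hence normal in `Q`
      have hDπ : IsPiElements π D := by
        have hDn : D.Normal := by
          refine ⟨fun d hd c => ?_⟩
          obtain ⟨⟨z, e⟩, hze⟩ := hD.2 c
          have hze' : (z : C) * (e : C) = c := hze
          have hcomm : ∀ d ∈ D, (z : C) * d = d * z := fun d _ =>
            Subtype.ext (mem_centralizer_iff.mp (mem_inf.mp d.2).2 _ (mem_subgroupOf.mp z.2))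
          rw [← hze', show (z : C) * e * d * ((z : C) * e)⁻¹ = z * ((e : C) * d * (e : C)⁻¹) * (z : C)⁻¹ by group]
          have hm : (e : C) * d * (e : C)⁻¹ ∈ D := mul_mem (mul_mem e.2 hd) (inv_mem e.2)
          rw [hcomm _ hm, mul_inv_cancel_right]
          exact hm
        exact isPiElements_of_normal hDc (by rw [hD.index_eq_card]; exact hMC)
      have hDQn : (D.map C.subtype).Normal := by
        refine ⟨fun z hz d => ?_⟩
        obtain ⟨w, hw, rfl⟩ := hz
        refine ⟨⟨d * w * d⁻¹, hCn.conj_mem _ w.2 d⟩, (hDπ _).mpr ?_, rfl⟩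
        have := (hDπ w).mp hw
        rwa [← Subgroup.orderOf_coe, show ((⟨d * w * d⁻¹, hCn.conj_mem _ w.2 d⟩ : C) : Q) = MulAut.conj d (w : Q) from rfl,
          MulEquiv.orderOf_eq, Subgroup.orderOf_coe]
      have hDbot : D.map C.subtype = ⊥ := by
        rw [eq_bot_iff, ← hQ1]
        exact PiCore.le_piCore (Hall.isPiNumber_map hDc _)
      intro v hv
      obtain ⟨u, w, huw, huwc, hu, hw, huv⟩ := exists_pi_split π v
      have hvW : g v ∈ W := ⟨v, hv, rfl⟩
      have huV : u ∈ V := Subgroup.zpowers_le.mpr hv huv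
      have hwV : g w ∈ W := by
        refine ⟨w, ?_, rfl⟩
        have : w = u⁻¹ * v := by rw [← huw, inv_mul_cancel_left]
        rw [this]; exact mul_mem (inv_mem huV) hv
      have hwM : w ∈ M := by
        have h1 : orderOf (g w) = 1 :=
          (hπ.of_dvd (W.orderOf_dvd_natCard hwV)).eq_one (hw.of_dvd (orderOf_map_dvd g w))
        rw [orderOf_eq_one_iff] at h1
        exact (QuotientGroup.eq_one_iff w).mp h1
      have huC : u ∈ C := by
        refine mem_inf.mpr ⟨huV, mem_centralizer_iff.mpr fun m hm => ?_⟩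
        exact commute_piPrime_normal hhom L hL M hM hu m hm
      have hu1 : u = 1 := by
        have : (⟨u, huC⟩ : C) ∈ D := (hDπ _).mpr (by rwa [← Subgroup.orderOf_coe])
        have h2 : u ∈ D.map C.subtype := ⟨_, this, rfl⟩
        rw [hDbot] at h2
        exact Subgroup.mem_bot.mp h2
      rw [← huw, hu1, one_mul]
      exact hwM
    · -- a π'-factor lies in `M`
      intro v hv
      have hU : (W.comap g) ≤ M := by
        have : (W.comap g).Normal := hWn.comap g
        refine PiCore.le_piCore ?_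
        rw [PSolvable.card_comap_mk']
        exact hM.mul hπ'
      exact hU ⟨v, hv, rfl⟩

end Cfsg.Agent.Lib.Elem69
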