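import Mathlib
import Cfsg.Agent.Lib.Involution.BaerSuzuki
import Cfsg.Agent.Lib.Involution.Basic
import Cfsg.Agent.Lib.Elem69.Lift

/-!
# No nontrivial real element of odd order: the Sylow 2-subgroup is normal
-/

namespace Cfsg.Agent.Lib.Elem69

universe u

variable {G : Type u} [Group G] [Finite G]

/-- If no nontrivial element of odd order is conjugate to its inverse, every involution lies in a
normal `2`-subgroup. -/
theorem involution_mem_normal_two (h : ∀ x g : G, Odd (orderOf x) → g * x * g⁻¹ = x⁻¹ → x = 1)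
    {t : G} (ht : orderOf t = 2) : ∃ N : Subgroup G, N.Normal ∧ IsPGroup 2 N ∧ t ∈ N := by
  refine Involution.baer_suzuki_element t fun g => ?_
  set s := g * t * g⁻¹ with hs
  have ht' : t * t = 1 := Involution.mul_self_eq_one ht
  have hs' : s * s = 1 := Involution.mul_self_eq_one (by rw [hs, Involution.orderOf_conj_eq, ht])
  obtain ⟨u, v, huv, -, hu, ⟨k, hv⟩, huz, -⟩ := exists_prime_split (t * s) Nat.prime_two
  obtain ⟨i, rfl⟩ := huz
  have hu1 : (t * s) ^ i = 1 :=
    h _ t ((Nat.coprime_two_right).mp hu) (Involution.conj_zpow_pair ht' hs' i)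
  have hd : (t * s) ^ 2 ^ k = 1 := by
    simp only [hu1, one_mul] at huv
    rw [← huv, ← hv, pow_orderOf_eq_one]
  intro ⟨d, hd'⟩
  obtain ⟨j, rfl | rfl⟩ := (Involution.mem_closure_pair_iff ht' hs' d).mp hd'
  · refine ⟨k, Subtype.ext ?_⟩
    rw [Subgroup.coe_pow, Subgroup.coe_one]
    show ((t * s) ^ j) ^ 2 ^ k = 1
    rw [← zpow_natCast, ← zpow_mul, mul_comm, zpow_mul, zpow_natCast, hd, one_zpow]
  · refine ⟨1, Subtype.ext ?_⟩
    rw [Subgroup.coe_pow, Subgroup.coe_one, pow_one, pow_two]
    exact Involution.zpow_mul_mul_self ht' hs' j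

/-- If no nontrivial element of odd order is conjugate to its inverse, the Sylow 2-subgroup is
normal. -/
theorem sylow_two_normal_of_no_real_odd
    (h : ∀ x g : G, Odd (orderOf x) → g * x * g⁻¹ = x⁻¹ → x = 1) (P : Sylow 2 G) :
    (P : Subgroup G).Normal := by
  classical
  suffices key : ∀ n (G : Type u) [Group G] [Finite G], Nat.card G = n →
      (∀ x g : G, Odd (orderOf x) → g * x * g⁻¹ = x⁻¹ → x = 1) →
      ∀ P : Sylow 2 G, (P : Subgroup G).Normal from key _ G rfl h P
  intro n
  induction n using Nat.strong_induction_on with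
  | _ n ih =>
    intro G _ _ hn h P
    by_cases h2 : 2 ∣ Nat.card (P : Subgroup G)
    · obtain ⟨t, ht⟩ := exists_prime_orderOf_dvd_card' 2 h2
      obtain ⟨N, hN, hN2, htN⟩ := involution_mem_normal_two h
        (t := (t : G)) (by rw [Subgroup.orderOf_coe, ht])
      have hNne : N ≠ ⊥ := fun hb => by
        rw [hb, Subgroup.mem_bot, ← orderOf_eq_one_iff, Subgroup.orderOf_coe, ht] at htN
        omega
      have hlt : Nat.card (G ⧸ N) < n := by
        rw [← hn, Subgroup.card_eq_card_quotient_mul_card_subgroup N]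
        exact lt_mul_of_one_lt_right Nat.card_pos ((Subgroup.one_lt_card_iff_ne_bot N).mpr hNne)
      have hq : ∀ x g : G ⧸ N, Odd (orderOf x) → g * x * g⁻¹ = x⁻¹ → x = 1 := by
        intro x g hx hgx
        obtain ⟨m, hm⟩ := hN2.exists_card_eq
        have hcop : (orderOf x).Coprime (Nat.card N) := by
          rw [hm]; exact ((Nat.coprime_two_right).mpr hx).pow_right m
        obtain ⟨x₀, rfl, hx₀⟩ := exists_lift_same_order N x hcop
        obtain ⟨g₀, rfl⟩ := QuotientGroup.mk_surjective g
        obtain ⟨b, -, hb⟩ := exists_conj_lift N (u := x₀) (a := g₀) (-1) (by rwa [hx₀]) (by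
          rw [← QuotientGroup.eq_one_iff, QuotientGroup.mk_mul, QuotientGroup.mk_mul,
            QuotientGroup.mk_mul, QuotientGroup.mk_inv, QuotientGroup.mk_inv, hgx, zpow_neg_one,
            QuotientGroup.mk_inv]
          group)
        rw [zpow_neg_one] at hb
        rw [h x₀ (b * g₀) (hx₀ ▸ hx) hb, QuotientGroup.mk_one]
      have hsub : N ≤ (P : Subgroup G) := hN2.le_sylow_of_normal P
      have hPN := ih _ hlt (G ⧸ N) rfl hq (P.mapSurjective (QuotientGroup.mk'_surjective N))
      have he : ((P : Subgroup G).map (QuotientGroup.mk' N)).comap (QuotientGroup.mk' N) =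
          (P : Subgroup G) := Subgroup.comap_map_eq_self (by simpa using hsub)
      rw [← he]
      exact Subgroup.Normal.comap hPN _
    · have : (P : Subgroup G) = ⊥ := Subgroup.card_eq_one.mp
        ((P.isPGroup'.card_eq_or_dvd).resolve_right h2)
      rw [this]
      infer_instance

end Cfsg.Agent.Lib.Elem69
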