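import Mathlib
import Cfsg.Agent.Lib.SZ.Conjugacy
import Cfsg.Agent.Lib.MinimalNormal
import Cfsg.Agent.Lib.PSolvable.Core
import Cfsg.Agent.Lib.Elem69.PGroupSmall

/-!
# Conjugacy of subgroups of equal order in solvable groups
-/

namespace Cfsg.Agent.Lib.Elem69

universe u

variable {G : Type u} [Group G] [Finite G]

local notation:80 H " ^ᶜ " g:81 => Subgroup.map (MulEquiv.toMonoidHom (MulAut.conj g)) H

omit [Finite G] in
theorem cnj_cnj (H : Subgroup G) (a b : G) : (H ^ᶜ a) ^ᶜ b = H ^ᶜ (b * a) := by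
  rw [Subgroup.map_map]; congr 1; ext x; simp [mul_assoc]

omit [Finite G] in
theorem card_cnj (H : Subgroup G) (a : G) : Nat.card (H ^ᶜ a : Subgroup G) = Nat.card H :=
  Subgroup.card_map_of_injective (MulAut.conj a).injective

/-- Subgroups with conjugate images are conjugate, if they contain `N` or have coprime order to it. -/
theorem conj_of_image_conj (N : Subgroup G) [N.Normal] [Group.IsSolvable N] {H K : Subgroup G}
    (hcard : Nat.card H = Nat.card K)
    (hcase : (N ≤ H ∧ N ≤ K) ∨ (Nat.card H).Coprime (Nat.card N))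
    (g₀ : G ⧸ N) (hg : K.map (QuotientGroup.mk' N) = (H.map (QuotientGroup.mk' N)) ^ᶜ g₀) :
    ∃ g : G, K = H ^ᶜ g := by
  obtain ⟨g, rfl⟩ := QuotientGroup.mk_surjective g₀
  have himg : (H ^ᶜ g).map (QuotientGroup.mk' N) = K.map (QuotientGroup.mk' N) := by
    rw [hg, Subgroup.map_map, Subgroup.map_map]
    congr 1
  have hsup : (H ^ᶜ g) ⊔ N = K ⊔ N := by
    have := congrArg (Subgroup.comap (QuotientGroup.mk' N)) himg
    rwa [Subgroup.comap_map_eq, Subgroup.comap_map_eq, QuotientGroup.ker_mk'] at this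
  rcases hcase with ⟨hNH, hNK⟩ | hcop
  · refine ⟨g, ?_⟩
    have hn : N ≤ H ^ᶜ g := fun x hx =>
      ⟨g⁻¹ * x * g, hNH (by simpa using Subgroup.Normal.conj_mem (inferInstance : N.Normal) x hx g⁻¹), by simp [mul_assoc]⟩
    rw [sup_eq_left.mpr hn, sup_eq_left.mpr hNK] at hsup
    exact hsup.symm
  · set H' := H ^ᶜ g with hH'
    set L := K ⊔ N with hL
    have hH'L : H' ≤ L := hsup ▸ le_sup_left
    have hKL : K ≤ L := le_sup_left
    have hNL : N ≤ L := le_sup_right
    have hc : Nat.card H' = Nat.card K := by rw [hH', card_cnj, hcard]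
    have hidx : (N.subgroupOf L).index = Nat.card K := by
      have h1 := (N.subgroupOf L).card_mul_index
      rw [SZ.card_subgroupOf hNL, SZ.card_sup_of_coprime K N (hcard ▸ hcop), mul_comm (Nat.card K)] at h1
      exact Nat.eq_of_mul_eq_mul_left Nat.card_pos h1
    haveI : Group.IsSolvable (N.subgroupOf L) :=
      Group.isSolvable_of_isSolvable_injective (f := (Subgroup.subgroupOfEquivOfLe hNL).toMonoidHom)
        (MulEquiv.injective _)
    obtain ⟨a, ha⟩ := SZ.conj_of_card_eq_index (N.subgroupOf L) (H'.subgroupOf L) (K.subgroupOf L)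
      (by rw [SZ.card_subgroupOf hNL, hidx, ← hcard]; exact hcop.symm) (Or.inl inferInstance)
      (by rw [SZ.card_subgroupOf hH'L, hidx, hc]) (by rw [SZ.card_subgroupOf hKL, hidx])
    refine ⟨(a : G) * g, ?_⟩
    rw [← cnj_cnj, ← hH']
    exact (SZ.exists_conj_of_subgroupOf hH'L hKL a ha).symm

theorem exists_elementary_normal [Group.IsSolvable G] [Nontrivial G] :
    ∃ (N : Subgroup G) (p : ℕ), N.Normal ∧ N ≠ ⊥ ∧ p.Prime ∧ IsMulCommutative N ∧ IsPGroup p N := by
  obtain ⟨N, hNn, hN, -, hmin⟩ := MinimalNormal.exists_minimal_normal_le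
    (M := (⊤ : Subgroup G)) inferInstance top_ne_bot
  obtain ⟨hc, p, hp, hexp⟩ := MinimalNormal.elementaryAbelian N hN hmin
  exact ⟨N, p, hNn, hN, hp, hc, fun x => ⟨1, Subtype.ext (by rw [pow_one]; exact hexp x x.2)⟩⟩

/-- In a cyclic Sylow situation a normal subgroup of order `p` lies in every subgroup of order
divisible by `p`; here for a normal `p`-subgroup of prime order. -/
theorem le_of_cyclic_sylow {p : ℕ} [hp : Fact p.Prime] (N : Subgroup G) [N.Normal] (hN : IsPGroup p N)
    (hNe : ∀ x ∈ N, x ^ p = 1) (hcyc : ∀ P : Sylow p G, IsCyclic P) {H : Subgroup G}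
    (hpH : p ∣ Nat.card H) : N ≤ H := by
  obtain ⟨x, hx⟩ := exists_prime_orderOf_dvd_card' (G := H) p hpH
  have hxo : orderOf (x : G) = p := by rw [Subgroup.orderOf_coe, hx]
  obtain ⟨P, hP⟩ := (IsPGroup.of_card (p := p) (n := 1) (G := Subgroup.zpowers (x : G))
    (by rw [Nat.card_zpowers, hxo, pow_one])).exists_le_sylow
  haveI := hcyc P
  intro y hy
  have hyP : y ∈ (P : Subgroup G) := hN.le_sylow_of_normal P hy
  have hxP : (x : G) ∈ (P : Subgroup G) := hP (Subgroup.mem_zpowers _)
  by_cases hy1 : y = 1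
  · rw [hy1]; exact one_mem H
  have hyo : orderOf y = p := orderOf_eq_prime (hNe y hy) hy1
  have h1 : (⟨y, hyP⟩ : P) ∈ Subgroup.zpowers (⟨(x : G), hxP⟩ : P) := by
    refine mem_of_pow_card_eq_one _ ?_
    rw [Nat.card_zpowers, Subgroup.orderOf_mk, hxo]
    exact Subtype.ext (hNe y hy)
  obtain ⟨i, hi⟩ := h1
  have h2 : (x : G) ^ i = y := congrArg Subtype.val hi
  rw [← h2]
  exact zpow_mem x.2 i

omit [Finite G] in
theorem sylow_cyclic_quotient [Finite G] {q : ℕ} [Fact q.Prime] (N : Subgroup G) [N.Normal]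
    (h : ∀ P : Sylow q G, IsCyclic P) (P' : Sylow q (G ⧸ N)) : IsCyclic P' := by
  obtain ⟨P, rfl⟩ := Sylow.mapSurjective_surjective (QuotientGroup.mk'_surjective N) q P'
  haveI := h P
  exact isCyclic_of_surjective ((QuotientGroup.mk' N).subgroupMap (P : Subgroup G))
    (MonoidHom.subgroupMap_surjective _ _)

/-- Subgroups of equal order `m` in a solvable group with cyclic Sylow `q`-subgroups for `q ∣ m`
are conjugate. -/
theorem conj_of_cyclic_sylow [Group.IsSolvable G] {H K : Subgroup G} (hcard : Nat.card H = Nat.card K)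
    (hcyc : ∀ q : ℕ, q.Prime → q ∣ Nat.card H → ∀ P : Sylow q G, IsCyclic P) :
    ∃ g : G, K = H ^ᶜ g := by
  induction hn : Nat.card G using Nat.strong_induction_on generalizing G with
  | _ n ih =>
    by_cases hG : Subsingleton G
    · refine ⟨1, ?_⟩
      ext x
      simp [Subsingleton.elim x 1]
    haveI := not_subsingleton_iff_nontrivial.mp hG
    obtain ⟨N, p, hNn, hN, hp, hNc, hNp⟩ := exists_elementary_normal (G := G)
    haveI := Fact.mk hp
    haveI : Group.IsSolvable N := inferInstance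
    -- shrink `N` to exponent `p`
    let S : Subgroup G :=
      { carrier := {y | y ∈ N ∧ y ^ p = 1}
        one_mem' := ⟨one_mem N, one_pow p⟩
        mul_mem' := fun {c d} hc hd => ⟨mul_mem hc.1 hd.1, by
          rw [(show Commute c d from congrArg Subtype.val (hNc.is_comm.comm ⟨c, hc.1⟩ ⟨d, hd.1⟩)).mul_pow,
            hc.2, hd.2, one_mul]⟩
        inv_mem' := fun {c} hc => ⟨inv_mem hc.1, by rw [inv_pow, hc.2, inv_one]⟩ }
    haveI hSn : S.Normal := ⟨fun y hy g => ⟨hNn.conj_mem y hy.1 g, by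
      rw [conj_pow, hy.2, mul_one, mul_inv_cancel]⟩⟩
    have hSN : S ≤ N := fun y hy => hy.1
    have hSp : IsPGroup p S := hNp.to_le hSN
    haveI : Group.IsSolvable S :=
      Group.isSolvable_of_isSolvable_injective (f := Subgroup.inclusion hSN) (Subgroup.inclusion_injective hSN)
    have hSne : S ≠ ⊥ := by
      haveI : Nontrivial N := (Subgroup.nontrivial_iff_ne_bot N).mpr hN
      have hpN : p ∣ Nat.card N := by
        rcases hNp.card_eq_or_dvd with h | h
        · exact absurd h (Finite.one_lt_card).ne'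
        · exact h
      obtain ⟨x, hx⟩ := exists_prime_orderOf_dvd_card' (G := N) p hpN
      intro h
      have h1 : (x : G) ∈ S := ⟨x.2, congrArg Subtype.val (hx ▸ pow_orderOf_eq_one x)⟩
      rw [h, Subgroup.mem_bot] at h1
      rw [Subtype.ext h1 (a2 := (1 : N)), orderOf_one] at hx
      exact hp.ne_one hx.symm
    have hlt : Nat.card (G ⧸ S) < n := by
      rw [← hn, ← S.index_eq_card, ← S.card_mul_index]
      exact lt_mul_of_one_lt_left (Nat.pos_of_ne_zero Subgroup.index_ne_zero_of_finite)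
        (S.one_lt_card_iff_ne_bot.mpr hSne)
    have hcase : (S ≤ H ∧ S ≤ K) ∨ (Nat.card H).Coprime (Nat.card S) := by
      by_cases hpH : p ∣ Nat.card H
      · exact Or.inl ⟨le_of_cyclic_sylow S hSp (fun x hx => hx.2) (hcyc p hp hpH) hpH,
          le_of_cyclic_sylow S hSp (fun x hx => hx.2) (hcyc p hp hpH) (hcard ▸ hpH)⟩
      · obtain ⟨k, hk⟩ := IsPGroup.iff_card.mp hSp
        exact Or.inr (hk ▸ ((hp.coprime_iff_not_dvd.mpr hpH).pow_left k).symm)
    have himg : Nat.card (H.map (QuotientGroup.mk' S)) = Nat.card (K.map (QuotientGroup.mk' S)) := by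
      rcases hcase with ⟨h1, h2⟩ | hc
      · have e1 := SZ.card_map_of_ker_le (QuotientGroup.mk' S) H (by rw [QuotientGroup.ker_mk']; exact h1)
        have e2 := SZ.card_map_of_ker_le (QuotientGroup.mk' S) K (by rw [QuotientGroup.ker_mk']; exact h2)
        rw [hcard] at e1
        exact Nat.eq_of_mul_eq_mul_right Nat.card_pos (e1.trans e2.symm)
      · rw [SZ.card_map_of_coprime (QuotientGroup.mk' S) H (by rw [QuotientGroup.ker_mk']; exact hc),
          SZ.card_map_of_coprime (QuotientGroup.mk' S) K (by rw [QuotientGroup.ker_mk']; exact hcard ▸ hc), hcard]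
    obtain ⟨g₀, hg₀⟩ := ih _ hlt (G := G ⧸ S) himg (fun q hq hqd P' => by
      haveI := Fact.mk hq
      exact sylow_cyclic_quotient S (hcyc q hq (hqd.trans (Subgroup.card_map_dvd _ _))) P') rfl
    exact conj_of_image_conj S hcard hcase g₀ hg₀

/-- Conjugacy of equal-order `p`-subgroups passes to quotients. -/
theorem quotient_conj_pSubgroups {p : ℕ} [hp : Fact p.Prime] (N : Subgroup G) [N.Normal]
    (hN : IsPGroup p N ∨ ¬ p ∣ Nat.card N)
    (hD : ∀ H K : Subgroup G, IsPGroup p H → IsPGroup p K → Nat.card H = Nat.card K →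
      ∃ g : G, K = H ^ᶜ g)
    (X Y : Subgroup (G ⧸ N)) (hX : IsPGroup p X) (hY : IsPGroup p Y) (hc : Nat.card X = Nat.card Y) :
    ∃ g : G ⧸ N, Y = X ^ᶜ g := by
  classical
  set ρ := QuotientGroup.mk' N with hρ
  have hlift : ∀ Z : Subgroup (G ⧸ N), IsPGroup p Z → ∃ Q : Subgroup G, IsPGroup p Q ∧ Q.map ρ = Z ∧
      (Nat.card Q = Nat.card Z * (if IsPGroup p N then Nat.card N else 1)) := by
    intro Z hZ
    have hcard : Nat.card (Z.comap ρ) = Nat.card N * Nat.card Z := PSolvable.card_comap_mk' _ _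
    by_cases hNp : IsPGroup p N
    · refine ⟨Z.comap ρ, ?_, Subgroup.map_comap_eq_self_of_surjective (QuotientGroup.mk'_surjective N) Z, ?_⟩
      · exact hZ.comap_of_ker_isPGroup _ (by rw [hρ, QuotientGroup.ker_mk']; exact hNp)
      · rw [if_pos hNp, hcard, mul_comm]
    · have hnd := hN.resolve_left hNp
      obtain ⟨Q⟩ : Nonempty (Sylow p (Z.comap ρ)) := inferInstance
      obtain ⟨k, hk⟩ := IsPGroup.iff_card.mp hZ
      have hQc : Nat.card ((Q : Subgroup (Z.comap ρ)).map (Z.comap ρ).subtype) = Nat.card Z := by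
        rw [Subgroup.card_map_of_injective (Subgroup.subtype_injective _), Sylow.card_eq_multiplicity, hcard,
          Nat.factorization_mul Nat.card_pos.ne' Nat.card_pos.ne', Finsupp.add_apply,
          Nat.factorization_eq_zero_of_not_dvd hnd, zero_add, hk, hp.out.factorization_pow, Finsupp.single_eq_same]
      have hQp : IsPGroup p ((Q : Subgroup (Z.comap ρ)).map (Z.comap ρ).subtype) := Q.isPGroup'.map _
      refine ⟨_, hQp, ?_, by rw [if_neg hNp, mul_one, hQc]⟩
      refine Subgroup.eq_of_le_of_card_ge ((Subgroup.map_mono (Subgroup.map_subtype_le _)).trans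
        (Subgroup.map_comap_le _ _)) ?_
      rw [SZ.card_map_of_coprime ρ _ (by
        rw [hQc, hk, show ρ.ker = N from QuotientGroup.ker_mk' N]
        exact (hp.out.coprime_iff_not_dvd.mpr hnd).pow_left k), hQc]
  obtain ⟨Q1, hQ1, hm1, hc1⟩ := hlift X hX
  obtain ⟨Q2, hQ2, hm2, hc2⟩ := hlift Y hY
  obtain ⟨g, hg⟩ := hD Q1 Q2 hQ1 hQ2 (by rw [hc1, hc2, hc])
  refine ⟨(g : G ⧸ N), ?_⟩
  rw [← hm1, ← hm2, hg, Subgroup.map_map, Subgroup.map_map]
  congr 1

/-- Solvable groups in which equal-order `p`-subgroups are conjugate and all Sylow subgroups but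
those for one prime are cyclic: equal-order subgroups are conjugate. -/
theorem conj_of_card_eq [Group.IsSolvable G]
    (hD : ∀ p : ℕ, p.Prime → ∀ H K : Subgroup G, IsPGroup p H → IsPGroup p K →
      Nat.card H = Nat.card K → ∃ g : G, K = H ^ᶜ g)
    (r : ℕ) (hcyc : ∀ p : ℕ, p.Prime → p ≠ r → ∀ P : Sylow p G, IsCyclic P)
    (H K : Subgroup G) (hcard : Nat.card H = Nat.card K) : ∃ g : G, K = H ^ᶜ g := by
  induction hn : Nat.card G using Nat.strong_induction_on generalizing G with
  | _ n ih =>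
    by_cases hr : r.Prime ∧ r ∣ Nat.card H
    swap
    · exact conj_of_cyclic_sylow hcard fun q hq hqd => hcyc q hq fun e => hr ⟨e ▸ hq, e ▸ hqd⟩
    obtain ⟨hrp, hrH⟩ := hr
    by_cases hG : Subsingleton G
    · refine ⟨1, ?_⟩
      ext x
      simp [Subsingleton.elim x 1]
    haveI := not_subsingleton_iff_nontrivial.mp hG
    obtain ⟨N', p, hNn', hN', hp, hNc', hNp'⟩ := exists_elementary_normal (G := G)
    haveI := Fact.mk hp
    let N : Subgroup G :=
      { carrier := {y | y ∈ N' ∧ y ^ p = 1}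
        one_mem' := ⟨one_mem N', one_pow p⟩
        mul_mem' := fun {c d} hc hd => ⟨mul_mem hc.1 hd.1, by
          rw [(show Commute c d from congrArg Subtype.val (hNc'.is_comm.comm ⟨c, hc.1⟩ ⟨d, hd.1⟩)).mul_pow,
            hc.2, hd.2, one_mul]⟩
        inv_mem' := fun {c} hc => ⟨inv_mem hc.1, by rw [inv_pow, hc.2, inv_one]⟩ }
    haveI hNn : N.Normal := ⟨fun y hy g => ⟨hNn'.conj_mem y hy.1 g, by
      rw [conj_pow, hy.2, mul_one, mul_inv_cancel]⟩⟩
    have hNN' : N ≤ N' := fun y hy => hy.1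
    have hNp : IsPGroup p N := hNp'.to_le hNN'
    haveI := hNp.isNilpotent
    have hNne : N ≠ ⊥ := by
      haveI : Nontrivial N' := (Subgroup.nontrivial_iff_ne_bot N').mpr hN'
      have hpN : p ∣ Nat.card N' := by
        rcases hNp'.card_eq_or_dvd with h | h
        · exact absurd h (Finite.one_lt_card).ne'
        · exact h
      obtain ⟨x, hx⟩ := exists_prime_orderOf_dvd_card' (G := N') p hpN
      intro h
      have h1 : (x : G) ∈ N := ⟨x.2, congrArg Subtype.val (hx ▸ pow_orderOf_eq_one x)⟩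
      rw [h, Subgroup.mem_bot] at h1
      rw [Subtype.ext h1 (a2 := (1 : N')), orderOf_one] at hx
      exact hp.ne_one hx.symm
    have hlt : Nat.card (G ⧸ N) < n := by
      rw [← hn, ← N.index_eq_card, ← N.card_mul_index]
      exact lt_mul_of_one_lt_left (Nat.pos_of_ne_zero Subgroup.index_ne_zero_of_finite)
        (N.one_lt_card_iff_ne_bot.mpr hNne)
    have hNq : ∀ q : ℕ, q.Prime → IsPGroup q N ∨ ¬ q ∣ Nat.card N := fun q hq => by
      by_cases e : q = p
      · exact Or.inl (e ▸ hNp)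
      · obtain ⟨k, hk⟩ := IsPGroup.iff_card.mp hNp
        exact Or.inr fun h => e ((Nat.prime_dvd_prime_iff_eq hq hp).mp (hq.dvd_of_dvd_pow (hk ▸ h)))
    have finish : ((N ≤ H ∧ N ≤ K) ∨ (Nat.card H).Coprime (Nat.card N)) → ∃ g : G, K = H ^ᶜ g := by
      intro hcase
      have himg : Nat.card (H.map (QuotientGroup.mk' N)) = Nat.card (K.map (QuotientGroup.mk' N)) := by
        rcases hcase with ⟨h1, h2⟩ | hc
        · have e1 := SZ.card_map_of_ker_le (QuotientGroup.mk' N) H (by rw [QuotientGroup.ker_mk']; exact h1)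
          have e2 := SZ.card_map_of_ker_le (QuotientGroup.mk' N) K (by rw [QuotientGroup.ker_mk']; exact h2)
          rw [hcard] at e1
          exact Nat.eq_of_mul_eq_mul_right Nat.card_pos (e1.trans e2.symm)
        · rw [SZ.card_map_of_coprime (QuotientGroup.mk' N) H (by rw [QuotientGroup.ker_mk']; exact hc),
            SZ.card_map_of_coprime (QuotientGroup.mk' N) K (by rw [QuotientGroup.ker_mk']; exact hcard ▸ hc), hcard]
      obtain ⟨g₀, hg₀⟩ := ih _ hlt (G := G ⧸ N) (fun q hq => by
          haveI := Fact.mk hq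
          exact quotient_conj_pSubgroups N (hNq q hq) (hD q hq))
        (fun q hq hqr P' => by haveI := Fact.mk hq; exact sylow_cyclic_quotient N (hcyc q hq hqr) P')
        _ _ himg rfl
      exact conj_of_image_conj N hcard hcase g₀ hg₀
    by_cases hpH : p ∣ Nat.card H
    swap
    · obtain ⟨k, hk⟩ := IsPGroup.iff_card.mp hNp
      exact finish (Or.inr (hk ▸ ((hp.coprime_iff_not_dvd.mpr hpH).pow_left k).symm))
    by_cases hpr : p = r
    swap
    · exact finish (Or.inl ⟨le_of_cyclic_sylow N hNp (fun x hx => hx.2) (hcyc p hp hpr) hpH,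
        le_of_cyclic_sylow N hNp (fun x hx => hx.2) (hcyc p hp hpr) (hcard ▸ hpH)⟩)
    obtain ⟨a, ha⟩ := IsPGroup.iff_card.mp hNp
    -- `p`-subgroups are comparable with `N`
    have hge : ∀ X : Subgroup G, IsPGroup p X → Nat.card N ≤ Nat.card X → N ≤ X := by
      intro X hX hle
      obtain ⟨P, hP⟩ := hX.exists_le_sylow
      have hNP : N ≤ (P : Subgroup G) := hNp.le_sylow_of_normal P
      obtain ⟨b, hb⟩ := IsPGroup.iff_card.mp hX
      obtain ⟨c, hc⟩ := IsPGroup.iff_card.mp P.isPGroup'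
      have hbc : b ≤ c := by
        have := Subgroup.card_le_of_le hP
        rw [hb, hc] at this
        exact (Nat.pow_le_pow_iff_right hp.one_lt).mp this
      have hab : a ≤ b := by rw [ha, hb] at hle; exact (Nat.pow_le_pow_iff_right hp.one_lt).mp hle
      obtain ⟨Z, hZc, hNZ⟩ := Sylow.exists_subgroup_card_pow_prime_le (G := (P : Subgroup G)) p
        (show p ^ b ∣ Nat.card (P : Subgroup G) from hc ▸ Nat.pow_dvd_pow p hbc) (N.subgroupOf P)
        (by rw [SZ.card_subgroupOf hNP, ha]) hab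
      obtain ⟨g, hg⟩ := hD p hp (Z.map (P : Subgroup G).subtype) X ((P.isPGroup'.to_subgroup Z).map _) hX
        (by rw [Subgroup.card_map_of_injective (Subgroup.subtype_injective _), hZc, hb])
      intro x hx
      rw [hg]
      have hx' : g⁻¹ * x * g ∈ N := by simpa using hNn.conj_mem x hx g⁻¹
      exact ⟨g⁻¹ * x * g, ⟨⟨_, hNP hx'⟩, hNZ (Subgroup.mem_subgroupOf.mpr hx'), rfl⟩, by simp [mul_assoc]⟩
    have hle' : ∀ X : Subgroup G, IsPGroup p X → Nat.card X ≤ Nat.card N → X ≤ N := by
      intro X hX hle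
      obtain ⟨b, hb⟩ := IsPGroup.iff_card.mp hX
      have hab : b ≤ a := by rw [ha, hb] at hle; exact (Nat.pow_le_pow_iff_right hp.one_lt).mp hle
      obtain ⟨Z, hZc, -⟩ := Sylow.exists_subgroup_card_pow_prime_le (G := N) p
        (show p ^ b ∣ Nat.card N from ha ▸ Nat.pow_dvd_pow p hab) ⊥ (n := 0) (by simp) (Nat.zero_le _)
      obtain ⟨g, hg⟩ := hD p hp (Z.map N.subtype) X ((hNp.to_subgroup Z).map _) hX
        (by rw [Subgroup.card_map_of_injective (Subgroup.subtype_injective _), hZc, hb])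
      rw [hg]
      rintro _ ⟨_, ⟨z, -, rfl⟩, rfl⟩
      exact hNn.conj_mem _ z.2 g
    obtain ⟨RH⟩ : Nonempty (Sylow p H) := inferInstance
    obtain ⟨RK⟩ : Nonempty (Sylow p K) := inferInstance
    set A := (RH : Subgroup H).map H.subtype with hA
    set B := (RK : Subgroup K).map K.subtype with hB
    have hAH : A ≤ H := by rw [hA]; exact Subgroup.map_subtype_le _
    have hBK : B ≤ K := by rw [hB]; exact Subgroup.map_subtype_le _
    have hAB : Nat.card A = Nat.card B := by
      rw [hA, hB, Subgroup.card_map_of_injective H.subtype_injective,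
        Subgroup.card_map_of_injective K.subtype_injective, Sylow.card_eq_multiplicity, Sylow.card_eq_multiplicity,
        hcard]
    have hAp : IsPGroup p A := RH.isPGroup'.map _
    have hBp : IsPGroup p B := RK.isPGroup'.map _
    rcases le_total (Nat.card N) (Nat.card A) with hbig | hsmall
    · exact finish (Or.inl ⟨(hge A hAp hbig).trans hAH, (hge B hBp (hAB ▸ hbig)).trans hBK⟩)
    -- the small case: `A` and `B` are the intersections with `N`
    have hAeq : A = H ⊓ N := by
      refine le_antisymm (le_inf hAH (hle' A hAp hsmall)) ?_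
      have h1 : IsPGroup p ((H ⊓ N).subgroupOf H) :=
        (hNp.to_le inf_le_right).of_equiv (Subgroup.subgroupOfEquivOfLe inf_le_left).symm
      have h2 : (RH : Subgroup H) ≤ (H ⊓ N).subgroupOf H := fun x hx =>
        Subgroup.mem_inf.mpr ⟨x.2, hle' A hAp hsmall ⟨x, hx, rfl⟩⟩
      rw [hA, ← RH.is_maximal' h1 h2, Subgroup.subgroupOf_map_subtype, inf_eq_left.mpr inf_le_left]
    have hBeq : B = K ⊓ N := by
      refine le_antisymm (le_inf hBK (hle' B hBp (hAB ▸ hsmall))) ?_
      have h1 : IsPGroup p ((K ⊓ N).subgroupOf K) :=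
        (hNp.to_le inf_le_right).of_equiv (Subgroup.subgroupOfEquivOfLe inf_le_left).symm
      have h2 : (RK : Subgroup K) ≤ (K ⊓ N).subgroupOf K := fun x hx =>
        Subgroup.mem_inf.mpr ⟨x.2, hle' B hBp (hAB ▸ hsmall) ⟨x, hx, rfl⟩⟩
      rw [hB, ← RK.is_maximal' h1 h2, Subgroup.subgroupOf_map_subtype, inf_eq_left.mpr inf_le_left]
    obtain ⟨g, hg⟩ := hD p hp A B hAp hBp hAB
    set H' := H ^ᶜ g with hH'
    set M := Subgroup.normalizer (B : Set G) with hM
    have hKM : K ≤ M := by
      intro k hk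
      rw [hM, hBeq, Subgroup.mem_normalizer_iff]
      intro x
      simp only [Subgroup.mem_inf]
      constructor
      · exact fun hx => ⟨mul_mem (mul_mem hk hx.1) (inv_mem hk), hNn.conj_mem x hx.2 k⟩
      · intro hx
        have h1 := hNn.conj_mem _ hx.2 k⁻¹
        have h2 := mul_mem (mul_mem (inv_mem hk) hx.1) hk
        simp only [mul_assoc, inv_inv, inv_mul_cancel_left, inv_mul_cancel, mul_one] at h1 h2
        exact ⟨h2, h1⟩
    have hHA : H ≤ Subgroup.normalizer (A : Set G) := by
      intro k hk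
      rw [hAeq, Subgroup.mem_normalizer_iff]
      intro x
      simp only [Subgroup.mem_inf]
      constructor
      · exact fun hx => ⟨mul_mem (mul_mem hk hx.1) (inv_mem hk), hNn.conj_mem x hx.2 k⟩
      · intro hx
        have h1 := hNn.conj_mem _ hx.2 k⁻¹
        have h2 := mul_mem (mul_mem (inv_mem hk) hx.1) hk
        simp only [mul_assoc, inv_inv, inv_mul_cancel_left, inv_mul_cancel, mul_one] at h1 h2
        exact ⟨h2, h1⟩
    have hH'M : H' ≤ M := by
      rw [hM, hg, ← Subgroup.map_equiv_normalizer_eq]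
      exact Subgroup.map_mono hHA
    have hBH' : B ≤ H' := hg ▸ Subgroup.map_mono hAH
    haveI hBn : (B.subgroupOf M).Normal := Subgroup.normal_in_normalizer
    have hBM : B ≤ M := Subgroup.le_normalizer
    haveI := (hBp.of_equiv (Subgroup.subgroupOfEquivOfLe hBM).symm).isNilpotent
    have hcard' : Nat.card (H'.subgroupOf M) = Nat.card (K.subgroupOf M) := by
      rw [SZ.card_subgroupOf hH'M, SZ.card_subgroupOf hKM, hH', card_cnj, hcard]
    have hBH'' : B.subgroupOf M ≤ H'.subgroupOf M := fun x hx => hBH' hx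
    have hBK'' : B.subgroupOf M ≤ K.subgroupOf M := fun x hx => hBK hx
    set ρ := QuotientGroup.mk' (B.subgroupOf M) with hρ
    have e1 := SZ.card_map_of_ker_le ρ (H'.subgroupOf M) (by rw [hρ, QuotientGroup.ker_mk']; exact hBH'')
    have e2 := SZ.card_map_of_ker_le ρ (K.subgroupOf M) (by rw [hρ, QuotientGroup.ker_mk']; exact hBK'')
    have himg : Nat.card ((H'.subgroupOf M).map ρ) = Nat.card ((K.subgroupOf M).map ρ) := by
      rw [hcard'] at e1
      exact Nat.eq_of_mul_eq_mul_right Nat.card_pos (e1.trans e2.symm)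
    obtain ⟨m₀, hm₀⟩ := conj_of_cyclic_sylow himg fun q hq hqd P' => by
      haveI := Fact.mk hq
      have hqp : q ≠ r := by
        rintro rfl
        subst hpr
        have h1 : p * Nat.card B ∣ Nat.card K := by
          rw [hρ, QuotientGroup.ker_mk', SZ.card_subgroupOf hBM, SZ.card_subgroupOf hKM] at e2
          rw [← e2]
          exact Nat.mul_dvd_mul_right (himg ▸ hqd) _
        rw [hB, Subgroup.card_map_of_injective K.subtype_injective, Sylow.card_eq_multiplicity, ← pow_succ'] at h1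
        exact absurd ((Nat.Prime.pow_dvd_iff_le_factorization hp Nat.card_pos.ne').mp h1) (by omega)
      refine sylow_cyclic_quotient (B.subgroupOf M) (fun P => ?_) P'
      obtain ⟨S, hS⟩ := (P.isPGroup'.map M.subtype).exists_le_sylow
      haveI := hcyc q hq hqp S
      haveI : IsCyclic ((P : Subgroup M).map M.subtype) := Subgroup.isCyclic_of_le hS
      exact ((P : Subgroup M).equivMapOfInjective _ M.subtype_injective).isCyclic.mpr inferInstance
    obtain ⟨m, hm⟩ := conj_of_image_conj (B.subgroupOf M) hcard' (Or.inl ⟨hBH'', hBK''⟩) m₀ hm₀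
    refine ⟨(m : G) * g, ?_⟩
    rw [← cnj_cnj, ← hH']
    exact (SZ.exists_conj_of_subgroupOf hH'M hKM m hm.symm).symm

end Cfsg.Agent.Lib.Elem69
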