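import Mathlib
import Cfsg.Agent.Lib.Burnside.Paqb
import Cfsg.Agent.Lib.PSolvable.Core
import Cfsg.Agent.Lib.Frobenius.FPF
import Cfsg.Agent.Lib.Elem69.EngelTwo
import Cfsg.Prelude.Def_Transfer

/-!
# Groups all of whose element orders are at most four
-/

namespace Cfsg.Agent.Lib.Elem69

open Cfsg (pCore)
open scoped commutatorElement

universe u

variable {G : Type u} [Group G] [Finite G]

omit [Finite G] in
theorem comm_of_sq_eq_one {H : Type u} [Group H] (h : ∀ a : H, a ^ 2 = 1) (a b : H) : a * b = b * a := by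
  have hi : ∀ c : H, c⁻¹ = c := fun c => inv_eq_of_mul_eq_one_right (by rw [← pow_two, h])
  calc a * b = (a * b)⁻¹ := (hi _).symm
    _ = b * a := by rw [mul_inv_rev, hi, hi]

theorem pow_cases (h : ∀ x : G, orderOf x ≤ 4) (x : G) :
    x ^ 3 = 1 ∨ x ^ 4 = 1 := by
  have h1 := h x
  have h0 := orderOf_pos x
  have h2 := pow_orderOf_eq_one x
  interval_cases hk : orderOf x
  · exact Or.inl (by rw [← orderOf_dvd_iff_pow_eq_one, hk]; norm_num)
  · exact Or.inr (by rw [← orderOf_dvd_iff_pow_eq_one, hk]; norm_num)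
  · exact Or.inl h2
  · exact Or.inr h2

/-- No element of order six: commuting elements of orders two-power and three. -/
theorem eq_one_of_commute (h : ∀ x : G, orderOf x ≤ 4) {a b : G} (hab : Commute a b) (ha : a ^ 4 = 1)
    (hb : b ^ 3 = 1) : a = 1 ∨ b = 1 := by
  rcases pow_cases h (a * b) with h1 | h1
  · left
    rw [hab.mul_pow, hb, mul_one] at h1
    calc a = a ^ 4 * (a ^ 3)⁻¹ := by group
      _ = 1 := by rw [ha, h1, inv_one, mul_one]
  · right
    rw [hab.mul_pow, ha, one_mul] at h1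
    calc b = b ^ 4 * (b ^ 3)⁻¹ := by group
      _ = 1 := by rw [hb, h1, inv_one, mul_one]

theorem pow_four_of_isPGroup (h : ∀ x : G, orderOf x ≤ 4) {P : Subgroup G} (hP : IsPGroup 2 P) {x : G}
    (hx : x ∈ P) : x ^ 4 = 1 := by
  obtain ⟨k, hk⟩ := hP ⟨x, hx⟩
  have hk' : x ^ 2 ^ k = 1 := congrArg Subtype.val hk
  rcases pow_cases h x with h1 | h1
  · have hd := Nat.dvd_gcd (orderOf_dvd_of_pow_eq_one hk') (orderOf_dvd_of_pow_eq_one h1)
    rw [Nat.Coprime.gcd_eq_one (Nat.Coprime.pow_left k (by norm_num)), Nat.dvd_one, orderOf_eq_one_iff] at hd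
    rw [hd, one_pow]
  · exact h1

theorem pow_three_of_isPGroup (h : ∀ x : G, orderOf x ≤ 4) {P : Subgroup G} (hP : IsPGroup 3 P) {x : G}
    (hx : x ∈ P) : x ^ 3 = 1 := by
  obtain ⟨k, hk⟩ := hP ⟨x, hx⟩
  have hk' : x ^ 3 ^ k = 1 := congrArg Subtype.val hk
  rcases pow_cases h x with h1 | h1
  · exact h1
  · have hd := Nat.dvd_gcd (orderOf_dvd_of_pow_eq_one hk') (orderOf_dvd_of_pow_eq_one h1)
    rw [Nat.Coprime.gcd_eq_one (Nat.Coprime.pow_left k (by norm_num)), Nat.dvd_one, orderOf_eq_one_iff] at hd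
    rw [hd, one_pow]

theorem orderOf_le_quotient (h : ∀ x : G, orderOf x ≤ 4) (N : Subgroup G) [N.Normal] (x : G ⧸ N) :
    orderOf x ≤ 4 := by
  obtain ⟨g, rfl⟩ := QuotientGroup.mk_surjective x
  exact (Nat.le_of_dvd (orderOf_pos g) (orderOf_map_dvd (QuotientGroup.mk' N) g)).trans (h g)

theorem card_eq_two_pow_mul_three_pow (h : ∀ x : G, orderOf x ≤ 4) :
    ∃ a b : ℕ, Nat.card G = 2 ^ a * 3 ^ b := by
  refine ⟨(Nat.card G).factorization 2, (Nat.card G).factorization 3, ?_⟩
  apply Nat.eq_of_factorization_eq Nat.card_pos.ne' (by positivity)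
  intro q
  rw [Nat.factorization_mul (by positivity) (by positivity), Nat.Prime.factorization_pow Nat.prime_two,
    Nat.Prime.factorization_pow Nat.prime_three, Finsupp.add_apply, Finsupp.single_apply, Finsupp.single_apply]
  by_cases h2 : 2 = q
  · subst h2; norm_num
  by_cases h3 : 3 = q
  · subst h3; norm_num
  rw [if_neg h2, if_neg h3, add_zero, Nat.factorization_eq_zero_iff]
  by_contra hcon
  push Not at hcon
  obtain ⟨hq, hd, -⟩ := hcon
  haveI := Fact.mk hq
  obtain ⟨x, hx⟩ := exists_prime_orderOf_dvd_card' (G := G) q hd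
  have := hx ▸ h x
  have := hq.two_le
  interval_cases q <;> first | omega | exact absurd hq (by decide)

/-- A nontrivial group with these orders has a nontrivial `2`- or `3`-core. -/
theorem pCore_ne_bot_or [Nontrivial G] (h : ∀ x : G, orderOf x ≤ 4) :
    pCore 2 G ≠ ⊥ ∨ pCore 3 G ≠ ⊥ := by
  obtain ⟨a, b, hab⟩ := card_eq_two_pow_mul_three_pow h
  haveI := Burnside.isSolvable_of_card_eq_prime_pow_mul Nat.prime_two Nat.prime_three hab
  obtain ⟨n, hn⟩ := (Group.isSolvable_def (G := G)).mp inferInstance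
  have hex : ∃ j, derivedSeries G j ≠ ⊥ ∧ derivedSeries G (j + 1) = ⊥ := by
    classical
    have hex : ∃ j, derivedSeries G j = ⊥ := ⟨n, hn⟩
    have h0 : Nat.find hex ≠ 0 := by
      intro h0
      have := Nat.find_spec hex
      rw [h0, derivedSeries_zero] at this
      exact top_ne_bot this
    exact ⟨Nat.find hex - 1, Nat.find_min hex (by omega), by
      rw [Nat.sub_add_cancel (by omega)]; exact Nat.find_spec hex⟩
  obtain ⟨j, hj, hj1⟩ := hex
  set A := derivedSeries G j with hA
  haveI : A.Normal := derivedSeries_normal G j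
  haveI hAc : IsMulCommutative A := by
    refine ⟨⟨fun x y => Subtype.ext ?_⟩⟩
    have h1 : ⁅(x : G), (y : G)⁆ ∈ derivedSeries G (j + 1) :=
      Subgroup.commutator_mem_commutator x.2 y.2
    rw [hj1, Subgroup.mem_bot] at h1
    exact (commutatorElement_eq_one_iff_commute.mp h1).eq
  obtain ⟨q, hq, hqd⟩ := Nat.exists_prime_and_dvd
    (show Nat.card A ≠ 1 from fun h1 => hj (Subgroup.card_eq_one.mp h1))
  haveI := Fact.mk hq
  obtain ⟨x, hx⟩ := exists_prime_orderOf_dvd_card' (G := A) q hqd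
  let S : Subgroup G :=
    { carrier := {y | y ∈ A ∧ y ^ q = 1}
      one_mem' := ⟨one_mem A, one_pow q⟩
      mul_mem' := fun {c d} hc hd => ⟨mul_mem hc.1 hd.1, by
        rw [(show Commute c d from congrArg Subtype.val (hAc.is_comm.comm ⟨c, hc.1⟩ ⟨d, hd.1⟩)).mul_pow,
          hc.2, hd.2, one_mul]⟩
      inv_mem' := fun {c} hc => ⟨inv_mem hc.1, by rw [inv_pow, hc.2, inv_one]⟩ }
  have hSn : S.Normal := ⟨fun y hy g => ⟨Subgroup.Normal.conj_mem inferInstance y hy.1 g, by
    rw [conj_pow, hy.2, mul_one, mul_inv_cancel]⟩⟩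
  have hSp : IsPGroup q S := fun y => ⟨1, Subtype.ext (by rw [pow_one]; exact y.2.2)⟩
  have hne : pCore q G ≠ ⊥ := by
    intro h1
    have h2 : (x : G) ∈ S := ⟨x.2, congrArg Subtype.val (hx ▸ pow_orderOf_eq_one x)⟩
    have h3 := PSolvable.le_pCore (hN := hSn) hSp h2
    rw [h1, Subgroup.mem_bot] at h3
    have : x = 1 := Subtype.ext h3
    rw [this, orderOf_one] at hx
    exact hq.ne_one hx.symm
  have hq4 : q ≤ 4 := by
    have := h (x : G)
    rwa [Subgroup.orderOf_coe, hx] at this
  have := hq.two_le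
  interval_cases q
  · exact Or.inl hne
  · exact Or.inr hne
  · exact absurd hq (by decide)

omit [Finite G] in
/-- Centralisers of the core are small. -/
theorem fpf_inf {p : ℕ} (N : Subgroup G) (a : G)
    (h : ∀ v ∈ N, Commute v a → v = 1) : N ⊓ Subgroup.centralizer {a} = ⊥ :=
  (Subgroup.eq_bot_iff_forall _).mpr fun v hv => h v hv.1 (Subgroup.mem_centralizer_singleton_iff.mp hv.2)

/-- The `2`-core case: the quotient is cyclic of order three or `S₃`. -/
theorem structure_two (h : ∀ x : G, orderOf x ≤ 4) (h3 : ∃ x : G, orderOf x = 3) (h2 : pCore 2 G ≠ ⊥) :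
    ((pCore 2 G).index = 3 ∨ Nonempty (G ⧸ pCore 2 G ≃* Equiv.Perm (Fin 3))) ∧
    (∀ x : G, Subgroup.centralizer (pCore 2 G : Set G) ≤ pCore 2 G ∧
      (orderOf x = 3 → ∀ v ∈ pCore 2 G, Commute v x → v = 1)) := by
  haveI : Fact (Nat.Prime 2) := ⟨Nat.prime_two⟩
  haveI : Fact (Nat.Prime 3) := ⟨Nat.prime_three⟩
  set N := pCore 2 G with hN
  have hNp : IsPGroup 2 N := PSolvable.pCore_isPGroup
  obtain ⟨v0, hv0, hv0ne⟩ : ∃ v ∈ N, v ≠ (1 : G) := N.ne_bot_iff_exists_ne_one.mp h2 |>.elim
    fun v hv => ⟨v, v.2, fun e => hv (Subtype.ext e)⟩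
  have hfpf : ∀ x : G, x ^ 3 = 1 → x ≠ 1 → ∀ v ∈ N, Commute v x → v = 1 := fun x hx hx1 v hv hc =>
    (eq_one_of_commute h hc (pow_four_of_isPGroup h hNp hv) hx).resolve_right hx1
  have hC : Subgroup.centralizer (N : Set G) ≤ N := by
    haveI : (Subgroup.centralizer (N : Set G)).Normal := Subgroup.normal_centralizer
    refine PSolvable.le_pCore ?_
    rintro ⟨c, hc⟩
    refine ⟨2, Subtype.ext ?_⟩
    show c ^ 4 = 1
    rcases pow_cases h c with h1 | h1
    · by_cases hc1 : c = 1
      · rw [hc1, one_pow]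
      · exact absurd (hfpf c h1 hc1 v0 hv0 (Subgroup.mem_centralizer_iff.mp hc v0 hv0)) hv0ne
    · exact h1
  refine ⟨?_, fun x => ⟨hC, fun hx => hfpf x (hx ▸ pow_orderOf_eq_one x) (fun e => by
    rw [e, orderOf_one] at hx; exact absurd hx (by norm_num))⟩⟩
  obtain ⟨x0, hx0⟩ := h3
  have hx0N : x0 ∉ N := fun hmem => by
    have := pow_four_of_isPGroup h hNp hmem
    rw [← orderOf_dvd_iff_pow_eq_one, hx0] at this
    exact absurd this (by norm_num)
  set Q := G ⧸ N
  have hq := orderOf_le_quotient h N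
  haveI : Nontrivial Q := ⟨⟨(x0 : Q), 1, fun e => hx0N ((QuotientGroup.eq_one_iff x0).mp e)⟩⟩
  have hbot : pCore 2 Q = ⊥ := PSolvable.pCore_quotient_eq_bot
  have h3ne : pCore 3 Q ≠ ⊥ := (pCore_ne_bot_or hq).resolve_left (fun hh => hh hbot)
  set M := pCore 3 Q with hM
  have hMp : IsPGroup 3 M := PSolvable.pCore_isPGroup
  -- `M` has order three
  have hMcard : Nat.card M = 3 := by
    haveI := hMp.isNilpotent
    haveI : Nontrivial M := (Subgroup.nontrivial_iff_ne_bot M).mpr h3ne
    haveI := hMp.center_nontrivial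
    obtain ⟨z, hz⟩ := exists_ne (1 : Subgroup.center M)
    -- lift to a Sylow 3-subgroup
    set L := M.comap (QuotientGroup.mk' N) with hL
    obtain ⟨R⟩ : Nonempty (Sylow 3 L) := inferInstance
    set R' := (R : Subgroup L).map L.subtype with hR'
    have hR3 : IsPGroup 3 R' := R.isPGroup'.map _
    have hRfpf : ∀ a ∈ R', a ≠ 1 → N ⊓ Subgroup.centralizer {a} = ⊥ := fun a ha ha1 =>
      fpf_inf (p := 2) N a (hfpf a (pow_three_of_isPGroup h hR3 ha) ha1)
    have hRN : R' ≤ Subgroup.normalizer (N : Set G) := by rw [Subgroup.normalizer_eq_top N]; exact le_top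
    letI := Frobenius.FPF.conjAction R' N hRN
    have hf := Frobenius.FPF.isFPF_conjAction R' N hRN hRfpf
    -- the fixed-point-free action on the centre of `N`
    haveI : Nontrivial N := (Subgroup.nontrivial_iff_ne_bot N).mpr h2
    haveI := hNp.center_nontrivial
    set V := (Subgroup.center N).map N.subtype with hV
    haveI : Subgroup.Normal V := by rw [hV]; infer_instance
    letI : CommGroup V :=
      { (inferInstance : Group V) with
        mul_comm := fun a b => by
          obtain ⟨a', ha', hae⟩ := a.2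
          apply Subtype.ext
          show (a : G) * b = b * a
          obtain ⟨b', hb', hbe⟩ := b.2
          rw [← hae, ← hbe]
          exact congrArg Subtype.val (Subgroup.mem_center_iff.mp hb' a') }
    haveI : Nontrivial V := by
      obtain ⟨c, hc⟩ := exists_ne (1 : Subgroup.center N)
      exact ⟨⟨⟨_, c.1, c.2, rfl⟩, 1, fun e => by
        have h1 : ((c.1 : N) : G) = 1 := congrArg (fun w : V => (w : G)) e
        exact hc (Subtype.ext (Subtype.ext h1))⟩⟩
    have hRV : R' ≤ Subgroup.normalizer (V : Set G) := by rw [Subgroup.normalizer_eq_top V]; exact le_top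
    letI := Frobenius.FPF.conjAction R' V hRV
    have hf' := Frobenius.FPF.isFPF_conjAction R' V hRV fun a ha ha1 =>
      le_bot_iff.mp ((inf_le_inf_right _ (Subgroup.map_subtype_le _)).trans (hRfpf a ha ha1).le)
    -- `R'` has order dividing three
    have hRcard : Nat.card R' ∣ 3 := by
      by_cases hRb : Subsingleton R'
      · rw [Nat.card_of_subsingleton (1 : R')]; norm_num
      haveI : Nontrivial R' := not_subsingleton_iff_nontrivial.mp hRb
      haveI := hR3.center_nontrivial
      obtain ⟨w, hw⟩ := exists_ne (1 : Subgroup.center R')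
      have hw1 : (w : R') ≠ 1 := fun e => hw (Subtype.ext e)
      have hall : ∀ a : R', a ∈ Subgroup.zpowers (w : R') := fun a =>
        Frobenius.FPF.mem_zpowers_of_commute hf' Nat.prime_three (Subtype.ext (pow_three_of_isPGroup h hR3 a.2))
          (Subtype.ext (pow_three_of_isPGroup h hR3 w.1.2)) hw1 ((Subgroup.mem_center_iff.mp w.2 a))
      rw [← Subgroup.card_top (G := R'), ← (eq_top_iff.mpr fun a _ => hall a : Subgroup.zpowers (w : R') = ⊤),
        Nat.card_zpowers]
      exact orderOf_dvd_of_pow_eq_one (Subtype.ext (pow_three_of_isPGroup h hR3 w.1.2))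
    -- `M` is the image of `R'`
    obtain ⟨k, hk⟩ := IsPGroup.iff_card.mp hMp
    have hMd : Nat.card M ∣ Nat.card R' := by
      have h1 : Nat.card R' = 3 ^ (Nat.card L).factorization 3 := by
        rw [hR', Subgroup.card_map_of_injective L.subtype_injective, Sylow.card_eq_multiplicity]
      rw [h1, hk]
      refine Nat.pow_dvd_pow 3 ((Nat.Prime.pow_dvd_iff_le_factorization Nat.prime_three Nat.card_pos.ne').mp ?_)
      rw [← hk, hL, PSolvable.card_comap_mk']
      exact dvd_mul_left _ _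
    rcases (Nat.dvd_prime Nat.prime_three).mp (hMd.trans hRcard) with h1 | h1
    · exact absurd (Subgroup.card_eq_one.mp h1) h3ne
    · exact h1
  obtain ⟨m, hm⟩ := exists_prime_orderOf_dvd_card' (G := M) 3 (by rw [hMcard])
  have hm' : orderOf (m : Q) = 3 := by rw [Subgroup.orderOf_coe, hm]
  have hMm : Subgroup.zpowers (m : Q) = M := Subgroup.eq_of_le_of_card_ge (Subgroup.zpowers_le.mpr m.2)
    (by rw [Nat.card_zpowers, hm', hMcard])
  have hCm : Subgroup.centralizer ({(m : Q)} : Set Q) = M := by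
    refine le_antisymm (fun y hy => ?_) (hMm.ge.trans (Subgroup.zpowers_le.mpr (Subgroup.mem_centralizer_singleton_iff.mpr rfl)))
    have hc : Commute y (m : Q) := Subgroup.mem_centralizer_singleton_iff.mp hy
    rcases pow_cases hq y with h1 | h1
    · -- the elements of order three centralising `M` form a normal subgroup
      let T : Subgroup Q := Subgroup.centralizer (M : Set Q)
      haveI : T.Normal := Subgroup.normal_centralizer
      refine PSolvable.le_pCore (N := T) ?_ ?_
      · rintro ⟨c, hc'⟩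
        refine ⟨1, Subtype.ext ?_⟩
        show c ^ 3 ^ 1 = 1
        rcases pow_cases hq c with h2 | h2
        · simpa using h2
        · rcases eq_one_of_commute hq (show Commute c (m : Q) from (Subgroup.mem_centralizer_iff.mp hc' m m.2).symm)
            h2 (hm' ▸ pow_orderOf_eq_one _) with h4 | h4
          · simp [h4]
          · rw [h4, orderOf_one] at hm'; exact absurd hm' (by norm_num)
      · rw [Subgroup.mem_centralizer_iff]
        intro w hw
        rw [← hMm] at hw
        obtain ⟨i, rfl⟩ := hw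
        exact (hc.zpow_right i).eq.symm
    · rcases eq_one_of_commute hq hc h1 (hm' ▸ pow_orderOf_eq_one _) with h4 | h4
      · rw [h4]; exact one_mem M
      · rw [h4, orderOf_one] at hm'; exact absurd hm' (by norm_num)
  have hcard : Nat.card Q = 3 ∨ Nat.card Q = 6 := by
    have hle : M.index ≤ 2 := by
      rw [Subgroup.index_eq_card]
      let f : Q ⧸ M → ({(m : Q), (m : Q)⁻¹} : Set Q) := fun c => ⟨c.out * m * c.out⁻¹, by
        have h1 : c.out * m * c.out⁻¹ ∈ M :=
          Subgroup.Normal.conj_mem (inferInstance : M.Normal) _ m.2 _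
        obtain ⟨i, hi : (m : Q) ^ i = _⟩ := hMm.ge h1
        have hi3 : (m : Q) ^ (i % 3) = c.out * m * c.out⁻¹ := by
          rw [← hi]
          have := zpow_mod_orderOf (m : Q) i
          rw [hm'] at this
          simpa using this
        rcases (by omega : i % 3 = 0 ∨ i % 3 = 1 ∨ i % 3 = 2) with e | e | e <;> rw [e] at hi3
        · exfalso
          rw [zpow_zero, eq_comm, mul_inv_eq_one, mul_eq_left] at hi3
          rw [hi3, orderOf_one] at hm'
          exact absurd hm' (by norm_num)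
        · rw [← hi3, zpow_one]; exact Or.inl rfl
        · rw [← hi3]
          refine Or.inr ?_
          rw [Set.mem_singleton_iff, eq_inv_iff_mul_eq_one, ← zpow_add_one]
          rw [show (2 : ℤ) + 1 = ((3 : ℕ) : ℤ) by norm_num, zpow_natCast, ← hm', pow_orderOf_eq_one]⟩
      have hf : Function.Injective f := by
        intro c d hcd
        rw [← QuotientGroup.out_eq' c, ← QuotientGroup.out_eq' d, QuotientGroup.eq]
        refine hCm.le ?_
        rw [Subgroup.mem_centralizer_singleton_iff]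
        have h1 : c.out * m * c.out⁻¹ = d.out * m * d.out⁻¹ := congrArg Subtype.val hcd
        calc c.out⁻¹ * d.out * m = c.out⁻¹ * (d.out * m * d.out⁻¹) * d.out := by group
          _ = c.out⁻¹ * (c.out * m * c.out⁻¹) * d.out := by rw [h1]
          _ = m * (c.out⁻¹ * d.out) := by group
      refine (Nat.card_le_card_of_injective f hf).trans ?_
      rw [Nat.card_coe_set_eq]
      exact (Set.ncard_insert_le _ _).trans (by rw [Set.ncard_singleton])
    have h1 := M.card_mul_index
    have h2 : M.index ≠ 0 := Subgroup.index_ne_zero_of_finite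
    rw [hMcard] at h1
    omega
  rcases hcard with h1 | h1
  · left; rw [Subgroup.index_eq_card]; exact h1
  right
  haveI : Fact (Nat.Prime 2) := ⟨Nat.prime_two⟩
  obtain ⟨t, ht⟩ := exists_prime_orderOf_dvd_card' (G := Q) 2 (by rw [h1]; norm_num)
  have hidx : Nat.card (Q ⧸ Subgroup.zpowers t) = 3 := by
    have := (Subgroup.zpowers t).card_mul_index
    rw [Nat.card_zpowers, ht, h1, Subgroup.index_eq_card] at this
    omega
  have hinj : Function.Injective (MulAction.toPermHom Q (Q ⧸ Subgroup.zpowers t)) := by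
    rw [← MonoidHom.ker_eq_bot_iff, ← Subgroup.normalCore_eq_ker]
    by_contra hne
    have hle := (Subgroup.zpowers t).normalCore_le
    have heq : (Subgroup.zpowers t).normalCore = Subgroup.zpowers t := by
      refine Subgroup.eq_of_le_of_card_ge hle ?_
      rw [Nat.card_zpowers, ht]
      exact (Subgroup.one_lt_card_iff_ne_bot _).mpr hne
    have htn : (Subgroup.zpowers t).Normal := heq ▸ Subgroup.normalCore_normal _
    have hcomm : Commute t (m : Q) := by
      refine Subgroup.commute_of_normal_of_disjoint _ _ htn (inferInstance : M.Normal) ?_ t m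
        (Subgroup.mem_zpowers t) m.2
      exact Subgroup.disjoint_of_coprime_natCard (by rw [Nat.card_zpowers, ht, hMcard]; norm_num)
    rcases eq_one_of_commute hq hcomm (by rw [← orderOf_dvd_iff_pow_eq_one, ht]; norm_num)
      (hm' ▸ pow_orderOf_eq_one _) with h4 | h4
    · rw [h4, orderOf_one] at ht; exact absurd ht (by norm_num)
    · rw [h4, orderOf_one] at hm'; exact absurd hm' (by norm_num)
  have hbij : Function.Bijective (MulAction.toPermHom Q (Q ⧸ Subgroup.zpowers t)) := by
    refine hinj.bijective_of_nat_card_le ?_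
    rw [Nat.card_perm, hidx, h1]
    norm_num [Nat.factorial]
  exact ⟨(MulEquiv.ofBijective _ hbij).trans (Equiv.permCongrHom (Finite.equivFinOfCardEq hidx))⟩

/-- The `3`-core case. -/
theorem structure_three (h : ∀ x : G, orderOf x ≤ 4) (h2 : ∃ x : G, orderOf x = 2) (h3 : pCore 3 G ≠ ⊥) :
    Cfsg.IsElementaryAbelian 3 (pCore 3 G) ∧
      ∃ z : G ⧸ pCore 3 G, z ≠ 1 ∧ ∀ y : G ⧸ pCore 3 G, y ^ 4 = 1 ∧ (y ^ 2 = 1 → y = 1 ∨ y = z) := by
  haveI : Fact (Nat.Prime 2) := ⟨Nat.prime_two⟩
  haveI : Fact (Nat.Prime 3) := ⟨Nat.prime_three⟩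
  set N := pCore 3 G with hN
  have hNp : IsPGroup 3 N := PSolvable.pCore_isPGroup
  haveI : Nontrivial N := (Subgroup.nontrivial_iff_ne_bot N).mpr h3
  have hfpf : ∀ x : G, x ^ 4 = 1 → x ≠ 1 → ∀ v ∈ N, Commute x v → v = 1 := fun x hx hx1 v hv hc =>
    (eq_one_of_commute h hc hx (pow_three_of_isPGroup h hNp hv)).resolve_left hx1
  obtain ⟨t, ht⟩ := h2
  have ht2 : t ^ 2 = 1 := ht ▸ pow_orderOf_eq_one t
  have ht1 : t ≠ 1 := fun e => by rw [e, orderOf_one] at ht; exact absurd ht (by norm_num)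
  -- every involution inverts `N`
  have hinv : ∀ s : G, s ^ 2 = 1 → s ≠ 1 → ∀ v ∈ N, s * v * s⁻¹ = v⁻¹ := by
    intro s hs hs1 v hv
    have hs4 : s ^ 4 = 1 := by rw [show (4 : ℕ) = 2 * 2 from rfl, pow_mul, hs, one_pow]
    have hNn : N.Normal := inferInstance
    let f : N → N := fun w => ⟨(w : G)⁻¹ * (s * w * s⁻¹), mul_mem (inv_mem w.2) (hNn.conj_mem _ w.2 s)⟩
    have hfi : Function.Injective f := by
      intro a b hab
      have h1 : (a : G)⁻¹ * (s * a * s⁻¹) = (b : G)⁻¹ * (s * b * s⁻¹) := congrArg Subtype.val hab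
      have hc : Commute s ((a : G) * (b : G)⁻¹) := by
        show s * ((a : G) * (b : G)⁻¹) = (a : G) * (b : G)⁻¹ * s
        calc s * ((a : G) * (b : G)⁻¹) = (a : G) * ((a : G)⁻¹ * (s * a * s⁻¹)) * (s * (b : G)⁻¹) := by group
          _ = (a : G) * ((b : G)⁻¹ * (s * b * s⁻¹)) * (s * (b : G)⁻¹) := by rw [h1]
          _ = (a : G) * (b : G)⁻¹ * s := by group
      exact Subtype.ext (mul_inv_eq_one.mp (hfpf s hs4 hs1 _ (mul_mem a.2 (inv_mem b.2)) hc))
    obtain ⟨w, hw⟩ := Finite.surjective_of_injective hfi ⟨v, hv⟩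
    have hw' : (w : G)⁻¹ * (s * w * s⁻¹) = v := congrArg Subtype.val hw
    have hss : s * s = 1 := by rw [← pow_two, hs]
    rw [← hw']
    calc s * ((w : G)⁻¹ * (s * w * s⁻¹)) * s⁻¹
        = s * (w : G)⁻¹ * s⁻¹ * ((s * s) * w * (s * s)⁻¹) := by group
      _ = s * (w : G)⁻¹ * s⁻¹ * w := by rw [hss, one_mul, inv_one, mul_one]
      _ = ((w : G)⁻¹ * (s * w * s⁻¹))⁻¹ := by group
  have hNc : IsMulCommutative N := by
    refine ⟨⟨fun a b => Subtype.ext ?_⟩⟩
    have h1 := hinv t ht2 ht1 _ (mul_mem a.2 b.2)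
    rw [← conj_mul, hinv t ht2 ht1 _ a.2, hinv t ht2 ht1 _ b.2, ← mul_inv_rev, inv_inj] at h1
    exact h1.symm
  refine ⟨⟨hNc, fun a ha => pow_three_of_isPGroup h hNp ha⟩, (t : G ⧸ N), ?_, ?_⟩
  · intro e
    have := pow_three_of_isPGroup h hNp ((QuotientGroup.eq_one_iff t).mp e)
    rw [← orderOf_dvd_iff_pow_eq_one, ht] at this
    exact absurd this (by norm_num)
  -- the image of `t` is the unique involution and is central
  have huniq : ∀ s : G, s ^ 2 = 1 → s ≠ 1 → (s : G ⧸ N) = (t : G ⧸ N) := by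
    intro s hs hs1
    rw [QuotientGroup.eq]
    -- `s⁻¹ t` centralises `N`
    have hC : Subgroup.centralizer (N : Set G) ≤ N := by
      haveI : (Subgroup.centralizer (N : Set G)).Normal := Subgroup.normal_centralizer
      refine PSolvable.le_pCore ?_
      rintro ⟨c, hc⟩
      refine ⟨1, Subtype.ext ?_⟩
      show c ^ 3 ^ 1 = 1
      rcases pow_cases h c with h4 | h4
      · simpa using h4
      · obtain ⟨v, hv⟩ := exists_ne (1 : N)
        by_cases hc1 : c = 1
        · simp [hc1]
        · exact absurd (Subtype.ext (hfpf c h4 hc1 v v.2 (Subgroup.mem_centralizer_iff.mp hc v v.2).symm)) hv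
    refine hC ?_
    rw [Subgroup.mem_centralizer_iff]
    intro v hv
    have e1 := hinv t ht2 ht1 v hv
    have e2 := hinv s hs hs1 v hv
    have : s⁻¹ * t * v * (s⁻¹ * t)⁻¹ = v := by
      calc s⁻¹ * t * v * (s⁻¹ * t)⁻¹ = s⁻¹ * (t * v * t⁻¹) * s := by group
        _ = s⁻¹ * (s * v * s⁻¹) * s := by rw [e1, e2]
        _ = v := by group
    exact (mul_inv_eq_iff_eq_mul.mp this).symm
  have hcentral : ∀ y : G, (y : G ⧸ N) * (t : G ⧸ N) = (t : G ⧸ N) * (y : G ⧸ N) := by
    intro y
    have h1 := huniq (y * t * y⁻¹) (by rw [conj_pow, ht2, mul_one, mul_inv_cancel]) (fun e => ht1 (by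
      have := congrArg (fun w => y⁻¹ * w * y) e
      simpa [mul_assoc] using this))
    rw [QuotientGroup.mk_mul, QuotientGroup.mk_mul, QuotientGroup.mk_inv] at h1
    exact mul_inv_eq_iff_eq_mul.mp h1
  intro y
  obtain ⟨y, rfl⟩ := QuotientGroup.mk_surjective y
  have hq := orderOf_le_quotient h N
  have h4 : (y : G ⧸ N) ^ 4 = 1 := by
    rcases pow_cases hq (y : G ⧸ N) with h1 | h1
    · rcases eq_one_of_commute hq (show Commute (t : G ⧸ N) (y : G ⧸ N) from (hcentral y).symm)
        (by rw [← QuotientGroup.mk_pow, show (4 : ℕ) = 2 * 2 from rfl, pow_mul, ht2, one_pow, QuotientGroup.mk_one])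
        h1 with h5 | h5
      · exfalso
        have := pow_three_of_isPGroup h hNp ((QuotientGroup.eq_one_iff t).mp h5)
        rw [← orderOf_dvd_iff_pow_eq_one, ht] at this
        exact absurd this (by norm_num)
      · rw [h5, one_pow]
    · exact h1
  refine ⟨h4, fun hy2 => ?_⟩
  by_cases hy : y ∈ N
  · exact Or.inl ((QuotientGroup.eq_one_iff y).mpr hy)
  right
  -- lift to an involution
  rw [← QuotientGroup.mk_pow, QuotientGroup.eq_one_iff] at hy2
  have hy3 : (y ^ 3) ^ 2 = 1 := by rw [← pow_mul, mul_comm, pow_mul]; exact pow_three_of_isPGroup h hNp hy2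
  have he : ((y ^ 3 : G) : G ⧸ N) = (y : G ⧸ N) := by
    rw [pow_succ', QuotientGroup.mk_mul, (QuotientGroup.eq_one_iff (y ^ 2)).mpr hy2, mul_one]
  rw [← he]
  refine huniq _ hy3 fun e => hy ?_
  rw [← QuotientGroup.eq_one_iff, ← he, e, QuotientGroup.mk_one]

end Cfsg.Agent.Lib.Elem69
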