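import Mathlib
import Cfsg.Agent.Lib.Elem69.EngelTwo

/-!
# A normal `2`-subgroup of exponent four under `S₃` acting fixed-point-freely

If `G ≥ N` has exponent dividing `4` on `N t`, where `x` of order three acts fixed-point-freely on the
`2`-group `N` and the involution `t` inverts `x`, then `N` is elementary abelian.
-/

namespace Cfsg.Agent.Lib.Elem69

open scoped commutatorElement

universe u

variable {G : Type u} [Group G] [Finite G]

theorem sq_eq_one_of_symThree {N : Subgroup G} [hNn : N.Normal] (hN : IsPGroup 2 N) {x t : G}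
    (hx : x ^ 3 = 1) (ht : t * t = 1) (htx : t * x * t⁻¹ = x⁻¹)
    (hfpf : ∀ v ∈ N, Commute v x → v = 1) (h4 : ∀ v ∈ N, v ^ 4 = 1)
    (hcoset : ∀ v ∈ N, ∀ i : ℕ, (v * (x ^ i * t)) ^ 4 = 1) : ∀ v ∈ N, v ^ 2 = 1 := by
  -- `N` has class at most two
  have hxv : ∀ v ∈ N, x * v * x⁻¹ ∈ N := fun v hv => hNn.conj_mem v hv x
  have hfix : ∀ v : N, MulAut.conjNormal x v = v → v = 1 := fun v hv => by
    have h1 : x * (v : G) * x⁻¹ = v := (MulAut.conjNormal_apply x v).symm.trans (congrArg Subtype.val hv)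
    exact Subtype.ext (hfpf v v.2 (mul_inv_eq_iff_eq_mul.mp h1).symm)
  have h3' : ∀ v : N, MulAut.conjNormal x (MulAut.conjNormal x (MulAut.conjNormal x v)) = v := fun v => by
    rw [← MulAut.mul_apply, ← MulAut.mul_apply, ← map_mul, ← map_mul, mul_assoc x x x,
      show x * (x * x) = 1 by rw [← mul_assoc, ← pow_two, ← pow_succ, hx], map_one, MulAut.one_apply]
  have hcl := class_le_two_of_fpf_three hN (MulAut.conjNormal x) h3' hfix
  have hcen : ∀ a ∈ N, ∀ b ∈ N, ∀ c ∈ N, Commute ⁅a, b⁆ c := by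
    intro a ha b hb c hc
    haveI : Fact (Nat.Prime 2) := ⟨Nat.prime_two⟩
    haveI := hN.isNilpotent
    have h1 : Subgroup.lowerCentralSeries (⊤ : Subgroup N) 2 = ⊥ :=
      Subgroup.lowerCentralSeries_eq_bot_iff_nilpotencyClass_le.mpr hcl
    have h3 : ⁅⁅(⟨a, ha⟩ : N), (⟨b, hb⟩ : N)⁆, (⟨c, hc⟩ : N)⁆ ∈ Subgroup.lowerCentralSeries (⊤ : Subgroup N) 2 :=
      Subgroup.commutator_mem_commutator
        (Subgroup.commutator_mem_commutator (Subgroup.mem_top _) (Subgroup.mem_top _)) (Subgroup.mem_top _)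
    rw [h1] at h3
    exact (commutatorElement_eq_one_iff_commute.mp (Subgroup.mem_bot.mp h3)).map N.subtype
  -- central elements of `N` square to one
  let Z : Subgroup G := N ⊓ Subgroup.centralizer (N : Set G)
  have hZcomm : ∀ z ∈ Z, ∀ v ∈ N, Commute z v := fun z hz v hv =>
    (Subgroup.mem_centralizer_iff.mp hz.2 v hv).symm
  have hti : t⁻¹ = t := inv_eq_of_mul_eq_one_right ht
  have hsi : ∀ i : ℕ, (x ^ i * t) * (x ^ i * t) = 1 := fun i => by
    have h1 : t * x ^ i * t = (x ^ i)⁻¹ := by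
      calc t * x ^ i * t = (t * x * t⁻¹) ^ i := by rw [conj_pow, hti]
        _ = (x ^ i)⁻¹ := by rw [htx, inv_pow]
    calc (x ^ i * t) * (x ^ i * t) = x ^ i * (t * x ^ i * t) := by group
      _ = 1 := by rw [h1, mul_inv_cancel]
  have hvv : ∀ v ∈ N, ∀ i : ℕ, (v * ((x ^ i * t) * v * (x ^ i * t)⁻¹)) ^ 2 = 1 := fun v hv i => by
    have h1 := hcoset v hv i
    have hsinv : (x ^ i * t)⁻¹ = x ^ i * t := inv_eq_of_mul_eq_one_right (hsi i)
    rw [show (4 : ℕ) = 2 * 2 from rfl, pow_mul] at h1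
    rw [hsinv]
    calc (v * ((x ^ i * t) * v * (x ^ i * t))) ^ 2 = ((v * (x ^ i * t)) ^ 2) ^ 2 := by
          rw [pow_two (v * (x ^ i * t))]; group
      _ = 1 := h1
  have hZ2 : ∀ z ∈ Z, z ^ 2 = 1 := by
    intro z hz
    have hz2 : z ^ 2 ∈ N := pow_mem hz.1 2
    have hfixi : ∀ i : ℕ, (x ^ i * t) * z ^ 2 * (x ^ i * t)⁻¹ = z ^ 2 := fun i => by
      have hmem : (x ^ i * t) * z * (x ^ i * t)⁻¹ ∈ N := hNn.conj_mem z hz.1 _
      have h1 := hvv z hz.1 i
      rw [(hZcomm z hz _ hmem).mul_pow, conj_pow] at h1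
      have h2 : z ^ 2 * z ^ 2 = 1 := by rw [← pow_add]; exact h4 z hz.1
      exact mul_left_cancel (h1.trans h2.symm)
    refine hfpf _ hz2 ?_
    have h0 := hfixi 0
    have h1 := hfixi 1
    rw [pow_zero, one_mul] at h0
    rw [pow_one] at h1
    have h2 : x * z ^ 2 * x⁻¹ = z ^ 2 := by
      calc x * z ^ 2 * x⁻¹ = x * (t * z ^ 2 * t⁻¹) * x⁻¹ := by rw [h0]
        _ = (x * t) * z ^ 2 * (x * t)⁻¹ := by group
        _ = z ^ 2 := h1
    exact (mul_inv_eq_iff_eq_mul.mp h2).symm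
  have hc2 : ∀ a ∈ N, ∀ b ∈ N, ⁅a, b⁆ ∈ Z ∧ ⁅a, b⁆ ^ 2 = 1 := fun a ha b hb => by
    have hm : ⁅a, b⁆ ∈ Z := by
      refine Subgroup.mem_inf.mpr ⟨?_, Subgroup.mem_centralizer_iff.mpr fun c hc => ((hcen a ha b hb c hc).eq).symm⟩
      rw [commutatorElement_def]
      exact N.mul_mem (N.mul_mem (N.mul_mem ha hb) (N.inv_mem ha)) (N.inv_mem hb)
    exact ⟨hm, hZ2 _ hm⟩
  -- lifts of the fixed vectors of `t`
  let S : Set G := {u | ∃ z ∈ Z, ∃ v ∈ N, u = z * (v * (t * v * t⁻¹))}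
  have hS2 : ∀ u ∈ S, u ∈ N ∧ u ^ 2 = 1 := by
    rintro u ⟨z, hz, v, hv, rfl⟩
    have hm : v * (t * v * t⁻¹) ∈ N := mul_mem hv (hNn.conj_mem v hv t)
    refine ⟨mul_mem hz.1 hm, ?_⟩
    rw [(hZcomm z hz _ hm).mul_pow, hZ2 z hz, one_mul]
    simpa using hvv v hv 0
  have hSmul : ∀ u ∈ S, ∀ u' ∈ S, u * u' ∈ S := by
    rintro u ⟨z, hz, v, hv, rfl⟩ u' ⟨z', hz', v', hv', rfl⟩
    have hTv : t * v * t⁻¹ ∈ N := hNn.conj_mem v hv t
    have hTv' : t * v' * t⁻¹ ∈ N := hNn.conj_mem v' hv' t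
    have hm : v * (t * v * t⁻¹) ∈ N := mul_mem hv hTv
    refine ⟨z * z' * ⁅t * v * t⁻¹, v'⁆, mul_mem (mul_mem hz hz') (hc2 _ hTv _ hv').1, v * v', mul_mem hv hv', ?_⟩
    have e1 := (hZcomm z' hz' _ hm).eq
    have e2 := (hcen _ hTv _ hv' v hv).eq
    calc z * (v * (t * v * t⁻¹)) * (z' * (v' * (t * v' * t⁻¹)))
        = z * ((v * (t * v * t⁻¹)) * z') * (v' * (t * v' * t⁻¹)) := by group
      _ = z * (z' * (v * (t * v * t⁻¹))) * (v' * (t * v' * t⁻¹)) := by rw [← e1]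
      _ = z * z' * (v * ⁅t * v * t⁻¹, v'⁆) * v' * (t * v * t⁻¹) * (t * v' * t⁻¹) := by
          simp only [commutatorElement_def]; group
      _ = z * z' * (⁅t * v * t⁻¹, v'⁆ * v) * v' * (t * v * t⁻¹) * (t * v' * t⁻¹) := by rw [e2]
      _ = z * z' * ⁅t * v * t⁻¹, v'⁆ * (v * v' * (t * (v * v') * t⁻¹)) := by group
  -- `U` and its translate commute
  let A : MulAut G := MulAut.conj x
  have hA : ∀ g, A g = x * g * x⁻¹ := fun g => rfl
  have hAN : ∀ g ∈ N, A g ∈ N := fun g hg => hxv g hg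
  have hSS : ∀ u ∈ S, ∀ u' ∈ S, Commute u u' := by
    intro u hu u' hu'
    have h := (hS2 _ (hSmul u hu u' hu')).2
    have h1 := (hS2 u hu).2
    have h2 := (hS2 u' hu').2
    rw [pow_two] at h h1 h2
    show u * u' = u' * u
    calc u * u' = (u * u')⁻¹ := (inv_eq_of_mul_eq_one_right h).symm
      _ = u' * u := by rw [mul_inv_rev, inv_eq_of_mul_eq_one_right h1, inv_eq_of_mul_eq_one_right h2]
  have hprod : ∀ g ∈ N, g * A g * A (A g) = 1 ∧ Commute g (A g) := by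
    intro g hg
    have hk := engel_of_fpf_three (MulAut.conjNormal x) h3' hfix
    have hsurj : Function.Surjective fun w : N => w⁻¹ * MulAut.conjNormal x w := by
      refine Finite.surjective_of_injective fun a b hab => ?_
      have h2 : a⁻¹ * MulAut.conjNormal x a = b⁻¹ * MulAut.conjNormal x b := hab
      have h1 : MulAut.conjNormal x (b * a⁻¹) = b * a⁻¹ := by
        rw [map_mul, map_inv]
        calc MulAut.conjNormal x b * (MulAut.conjNormal x a)⁻¹
            = b * (b⁻¹ * MulAut.conjNormal x b) * (MulAut.conjNormal x a)⁻¹ := by group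
          _ = b * (a⁻¹ * MulAut.conjNormal x a) * (MulAut.conjNormal x a)⁻¹ := by rw [h2]
          _ = b * a⁻¹ := by group
      exact (mul_inv_eq_one.mp (hfix _ h1)).symm
    have hp : ∀ w : N, (w : G) * A w * A (A w) = 1 := by
      intro w
      obtain ⟨a, rfl⟩ := hsurj w
      have h5 : A (A (A (a : G))) = a := congrArg Subtype.val (h3' a)
      simp only [Subgroup.coe_mul, Subgroup.coe_inv, map_mul, map_inv, MulAut.conjNormal_apply, ← hA, h5]
      group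
    refine ⟨hp ⟨g, hg⟩, ?_⟩
    have h1 := hp ⟨g, hg⟩
    have h2 := congrArg Inv.inv (hp ⟨g, hg⟩⁻¹)
    simp only [Subgroup.coe_inv, map_inv, mul_inv_rev, inv_inv, inv_one] at h2
    exact (eq_inv_of_mul_eq_one_left h1).trans (eq_inv_of_mul_eq_one_right h2).symm
  have hcomml : ∀ a ∈ N, ∀ b ∈ N, ∀ c ∈ N, ⁅a * b, c⁆ = ⁅a, c⁆ * ⁅b, c⁆ ∧ ⁅a, b * c⁆ = ⁅a, b⁆ * ⁅a, c⁆ := by
    intro a ha b hb c hc
    constructor
    · calc ⁅a * b, c⁆ = a * ⁅b, c⁆ * (c * a⁻¹ * c⁻¹) := by simp only [commutatorElement_def]; group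
        _ = ⁅b, c⁆ * a * (c * a⁻¹ * c⁻¹) := by rw [(hcen b hb c hc a ha).eq]
        _ = ⁅b, c⁆ * ⁅a, c⁆ := by simp only [commutatorElement_def]; group
        _ = ⁅a, c⁆ * ⁅b, c⁆ := (hZcomm _ (hc2 b hb c hc).1 _ (hc2 a ha c hc).1.1).eq
    · calc ⁅a, b * c⁆ = ⁅a, b⁆ * (b * ⁅a, c⁆) * b⁻¹ := by simp only [commutatorElement_def]; group
        _ = ⁅a, b⁆ * (⁅a, c⁆ * b) * b⁻¹ := by rw [(hcen a ha c hc b hb).eq]
        _ = ⁅a, b⁆ * ⁅a, c⁆ := by group
  have hSA : ∀ u ∈ S, ∀ u' ∈ S, Commute u (A u') := by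
    intro u hu u' hu'
    have hu1 := (hS2 u hu).1
    have hu1' := (hS2 u' hu').1
    have hAu := hAN u hu1
    have hAu' := hAN u' hu1'
    have hsymm : ⁅u, A u'⁆ = ⁅A u, u'⁆ := by
      have h1 : ⁅u * u', A (u * u')⁆ = 1 :=
        commutatorElement_eq_one_iff_commute.mpr (hprod _ (mul_mem hu1 hu1')).2
      rw [map_mul, (hcomml u hu1 u' hu1' _ (mul_mem hAu hAu')).1, (hcomml u hu1 _ hAu _ hAu').2,
        (hcomml u' hu1' _ hAu _ hAu').2, commutatorElement_eq_one_iff_commute.mpr (hprod u hu1).2,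
        commutatorElement_eq_one_iff_commute.mpr (hprod u' hu1').2, one_mul, mul_one] at h1
      rw [eq_inv_of_mul_eq_one_left h1, commutatorElement_inv]
    have hfixc : A ⁅u, A u'⁆ = ⁅u, A u'⁆ := by
      rw [map_commutatorElement]
      have h2 : A (A u') = (A u')⁻¹ * u'⁻¹ := by
        rw [← mul_inv_rev]; exact eq_inv_of_mul_eq_one_right (hprod u' hu1').1
      have hui : u'⁻¹ = u' := inv_eq_of_mul_eq_one_right (by rw [← pow_two]; exact (hS2 u' hu').2)
      have hAui : (A u')⁻¹ = A u' := by rw [← map_inv, hui]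
      rw [h2, hui, hAui, (hcomml _ hAu _ hAu' _ hu1').2, ← map_commutatorElement,
        commutatorElement_eq_one_iff_commute.mpr (hSS u hu u' hu'), map_one, one_mul, hsymm]
    have hm := (hc2 u hu1 _ hAu').1.1
    have : Commute ⁅u, A u'⁆ x := by
      have h1 : x * ⁅u, A u'⁆ * x⁻¹ = ⁅u, A u'⁆ := hfixc
      exact (mul_inv_eq_iff_eq_mul.mp h1).symm
    exact commutatorElement_eq_one_iff_commute.mp (hfpf _ hm this)
  set H := Subgroup.closure (S ∪ A '' S) with hH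
  have hgen : ∀ a ∈ S ∪ A '' S, ∀ b ∈ S ∪ A '' S, a * b = b * a := by
    rintro a (ha | ⟨a, ha, rfl⟩) b (hb | ⟨b, hb, rfl⟩)
    · exact (hSS a ha b hb).eq
    · exact (hSA a ha b hb).eq
    · exact (hSA b hb a ha).eq.symm
    · rw [← map_mul, ← map_mul, (hSS a ha b hb).eq]
  have hHexp : ∀ g ∈ H, g ^ 2 = 1 := by
    haveI hc := Subgroup.isMulCommutative_closure hgen
    intro g hg
    induction hg using Subgroup.closure_induction with
    | mem a ha =>
      rcases ha with ha | ⟨a, ha, rfl⟩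
      · exact (hS2 a ha).2
      · rw [← map_pow, (hS2 a ha).2, map_one]
    | one => exact one_pow 2
    | mul a b ha hb h1 h2 =>
      rw [(show Commute a b from congrArg Subtype.val (hc.is_comm.comm ⟨a, ha⟩ ⟨b, hb⟩)).mul_pow, h1, h2, one_mul]
    | inv a _ h1 => rw [inv_pow, h1, inv_one]
  have hS0 : ∀ z ∈ Z, z ∈ H := fun z hz =>
    Subgroup.subset_closure (Or.inl ⟨z, hz, 1, one_mem N, by simp⟩)
  have hA2 : ∀ u ∈ S, A (A u) ∈ H := by
    intro u hu
    rw [eq_inv_of_mul_eq_one_right (hprod u (hS2 u hu).1).1]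
    exact inv_mem (mul_mem (Subgroup.subset_closure (Or.inl hu)) (Subgroup.subset_closure (Or.inr ⟨u, hu, rfl⟩)))
  intro v hv
  -- `v ^ 3` is congruent modulo `Z` to a product of translates of lifts
  let u : G → G := fun w => w * (t * w * t⁻¹)
  have hu : ∀ w ∈ N, u w ∈ S := fun w hw => ⟨1, one_mem Z, w, hw, (one_mul _).symm⟩
  have hA3 : ∀ g, A (A (A g)) = g := fun g => by
    simp only [hA]
    calc x * (x * (x * g * x⁻¹) * x⁻¹) * x⁻¹ = (x * x * x) * g * (x * x * x)⁻¹ := by group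
      _ = g := by rw [show x * x * x = 1 by rw [← pow_two, ← pow_succ, hx]]; group
  have hTA : ∀ g, t * (A g) * t⁻¹ = A (A (t * g * t⁻¹)) := fun g => by
    simp only [hA]
    have hxx : x * x = x⁻¹ := eq_inv_of_mul_eq_one_left (by rw [← pow_two, ← pow_succ, hx])
    calc t * (x * g * x⁻¹) * t⁻¹ = (t * x * t⁻¹) * (t * g * t⁻¹) * (t * x * t⁻¹)⁻¹ := by group
      _ = x⁻¹ * (t * g * t⁻¹) * x⁻¹⁻¹ := by rw [htx]
      _ = (x * x) * (t * g * t⁻¹) * (x * x)⁻¹ := by rw [hxx]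
      _ = x * (x * (t * g * t⁻¹) * x⁻¹) * x⁻¹ := by group
  set w := t * v * t⁻¹ with hw
  have hwN : w ∈ N := hNn.conj_mem v hv t
  have hP : u v * A (u (A (A v))) * A (A (u (A v))) ∈ H :=
    mul_mem (mul_mem (Subgroup.subset_closure (Or.inl (hu v hv)))
      (Subgroup.subset_closure (Or.inr ⟨_, hu _ (hAN _ (hAN v hv)), rfl⟩))) (hA2 _ (hu _ (hAN v hv)))
  have e1 : A (u (A (A v))) = v * A (A w) := by
    simp only [u]
    rw [map_mul, hA3, hTA, hTA, hA3, ← hw]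
  have e2 : A (A (u (A v))) = v * A w := by
    simp only [u]
    rw [map_mul, map_mul, hA3, hTA, hA3, ← hw]
  rw [e1, e2] at hP
  -- reorder modulo `Z`
  have hAw := hAN w hwN
  have hAAw := hAN _ hAw
  have key : u v * (v * A (A w)) * (v * A w) =
      ⁅w, v⁆ * ⁅w * A (A w), v⁆ * (v * v * v * (w * A (A w) * A w)) := by
    have z1 := (hZcomm _ (hc2 w hwN v hv).1)
    have z2 := (hZcomm _ (hc2 (w * A (A w)) (mul_mem hwN hAAw) v hv).1)
    calc u v * (v * A (A w)) * (v * A w) = v * (⁅w, v⁆ * v) * (w * A (A w)) * v * A w := by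
          simp only [u, hw, commutatorElement_def]; group
      _ = ⁅w, v⁆ * (v * v) * ((w * A (A w)) * v) * A w := by
          rw [← mul_assoc v, ← (z1 v hv).eq]; group
      _ = ⁅w, v⁆ * (v * v * ⁅w * A (A w), v⁆) * (v * (w * A (A w)) * A w) := by
          simp only [commutatorElement_def]; group
      _ = ⁅w, v⁆ * (⁅w * A (A w), v⁆ * (v * v)) * (v * (w * A (A w)) * A w) := by
          rw [(z2 _ (mul_mem hv hv)).eq]
      _ = ⁅w, v⁆ * ⁅w * A (A w), v⁆ * (v * v * v * (w * A (A w) * A w)) := by group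
  have hrest : w * A (A w) * A w = ⁅A (A w), A w⁆ * (w * A w * A (A w)) := by
    have z3 := hZcomm _ (hc2 _ hAAw _ hAw).1
    calc w * A (A w) * A w = w * (⁅A (A w), A w⁆ * (A w * A (A w))) := by
          simp only [commutatorElement_def]; group
      _ = (w * ⁅A (A w), A w⁆) * (A w * A (A w)) := by group
      _ = (⁅A (A w), A w⁆ * w) * (A w * A (A w)) := by rw [(z3 w hwN).eq]
      _ = ⁅A (A w), A w⁆ * (w * A w * A (A w)) := by group
  rw [key, hrest, (hprod w hwN).1, mul_one] at hP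
  have h1 := mul_mem (inv_mem (hS0 _ (mul_mem (hc2 w hwN v hv).1 (hc2 (w * A (A w)) (mul_mem hwN hAAw) v hv).1))) hP
  rw [inv_mul_cancel_left] at h1
  have h2 := mul_mem h1 (inv_mem (hS0 _ (hc2 _ hAAw _ hAw).1))
  rw [mul_inv_cancel_right] at h2
  have h3 : v * v * v = v⁻¹ := eq_inv_of_mul_eq_one_left (by rw [← pow_two, ← pow_succ, ← pow_succ]; exact h4 v hv)
  rw [h3] at h2
  exact hHexp v (inv_inv v ▸ inv_mem h2)

end Cfsg.Agent.Lib.Elem69
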