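import Mathlib

/-!
# Derived length of `p`-groups of linear maps in characteristic `p`
-/

namespace Cfsg.Agent.Lib.Elem69

open Module

variable {F V P : Type*} [Field F] [AddCommGroup V] [Module F V] [Group P]

/-- The ascending series of iterated fixed vectors. -/
def fixedSeries (ρ : P →* Module.End F V) : ℕ → Submodule F V
  | 0 => ⊥
  | k + 1 => ⨅ g : P, (fixedSeries ρ k).comap (ρ g - 1)

theorem mem_fixedSeries_succ {ρ : P →* Module.End F V} {k : ℕ} {v : V} :
    v ∈ fixedSeries ρ (k + 1) ↔ ∀ g : P, ρ g v - v ∈ fixedSeries ρ k := by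
  simp [fixedSeries, Submodule.mem_iInf]

theorem fixedSeries_invariant (ρ : P →* Module.End F V) :
    ∀ (k : ℕ) (g : P) (v : V), v ∈ fixedSeries ρ k → ρ g v ∈ fixedSeries ρ k := by
  intro k
  induction k with
  | zero => intro g v hv; simp [fixedSeries] at hv ⊢; simp [hv]
  | succ k ih =>
    intro g v hv
    rw [mem_fixedSeries_succ] at hv ⊢
    intro h
    have e : ρ h (ρ g v) - ρ g v = (ρ (h * g) v - v) - (ρ g v - v) := by
      rw [map_mul, Module.End.mul_apply]; abel
    rw [e]
    exact sub_mem (hv _) (hv g)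

theorem fixedSeries_mono (ρ : P →* Module.End F V) : Monotone (fixedSeries ρ) := by
  refine monotone_nat_of_le_succ fun k v hv => ?_
  rw [mem_fixedSeries_succ]
  exact fun g => sub_mem (fixedSeries_invariant ρ k g v hv) hv

theorem exists_mem_fixedSeries_succ [Finite P] {p : ℕ} [hp : Fact p.Prime] [CharP F p] (hP : IsPGroup p P)
    (ρ : P →* Module.End F V) (k : ℕ) (hk : fixedSeries ρ k ≠ ⊤) :
    ∃ v, v ∈ fixedSeries ρ (k + 1) ∧ v ∉ fixedSeries ρ k := by
  classical
  set W := fixedSeries ρ k with hW
  obtain ⟨w, hw⟩ : ∃ w, w ∉ W := by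
    by_contra h
    push Not at h
    exact hk (eq_top_iff.mpr fun x _ => h x)
  let q : V → V ⧸ W := fun x => Submodule.Quotient.mk x
  let S : AddSubgroup (V ⧸ W) := AddSubgroup.closure (Set.range fun g : P => q (ρ g w))
  have htor : ∀ x : S, p • x = 0 := fun x => Subtype.ext (by
    show p • (x : V ⧸ W) = 0
    rw [← Nat.cast_smul_eq_nsmul F, CharP.cast_eq_zero, zero_smul])
  have hfg : AddGroup.FG S := (AddGroup.fg_iff_addSubgroup_fg S).mpr
    ⟨(Set.finite_range fun g : P => q (ρ g w)).toFinset, by simp [S]⟩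
  have hfin : Finite S := AddCommGroup.finite_of_fg_isAddTorsion S fun x =>
    isOfFinAddOrder_iff_nsmul_eq_zero.mpr ⟨p, hp.out.pos, htor x⟩
  let act : P → S → S := fun g x => ⟨W.mapQ W (ρ g) (fun y hy => fixedSeries_invariant ρ k g y hy) x, by
    obtain ⟨x, hx⟩ := x
    induction hx using AddSubgroup.closure_induction with
    | mem y hy =>
      obtain ⟨h, rfl⟩ := hy
      refine AddSubgroup.subset_closure ⟨g * h, ?_⟩
      simp [q, Submodule.mapQ_apply, map_mul]
    | zero => simpa using S.zero_mem
    | add y z _ _ hy hz => rw [map_add]; exact S.add_mem hy hz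
    | neg y _ hy => rw [map_neg]; exact S.neg_mem hy⟩
  letI : MulAction P S :=
    { smul := act
      one_smul := fun x => by
        obtain ⟨x, hx⟩ := x
        induction x using Submodule.Quotient.induction_on with
        | H y => exact Subtype.ext (by show W.mapQ W (ρ 1) _ (Submodule.Quotient.mk y) = _; simp [Submodule.mapQ_apply])
      mul_smul := fun g h x => by
        obtain ⟨x, hx⟩ := x
        induction x using Submodule.Quotient.induction_on with
        | H y =>
          exact Subtype.ext (by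
            show W.mapQ W (ρ (g * h)) _ (Submodule.Quotient.mk y) =
              W.mapQ W (ρ g) _ (W.mapQ W (ρ h) _ (Submodule.Quotient.mk y))
            simp [Submodule.mapQ_apply, map_mul]) }
  have hne : Nontrivial S := by
    refine ⟨⟨⟨q w, AddSubgroup.subset_closure ⟨1, by simp⟩⟩, 0, fun h => hw ?_⟩⟩
    exact (Submodule.Quotient.mk_eq_zero W).mp (congrArg Subtype.val h)
  have hd : p ∣ Nat.card S := by
    by_contra hd
    obtain ⟨x, y, hxy⟩ := hne
    have : ∀ z : S, z = 0 := fun z => by
      have h1 : addOrderOf z ∣ p := addOrderOf_dvd_of_nsmul_eq_zero (htor z)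
      have h2 : addOrderOf z ∣ Nat.card S := addOrderOf_dvd_natCard z
      rw [← AddMonoid.addOrderOf_eq_one_iff]
      exact Nat.eq_one_of_dvd_coprimes (hp.out.coprime_iff_not_dvd.mpr hd) h1 h2
    exact hxy ((this x).trans (this y).symm)
  have h0 : (0 : S) ∈ MulAction.fixedPoints P S := fun g => Subtype.ext (map_zero _)
  obtain ⟨⟨b, hb'⟩, hb, hb0⟩ := hP.exists_fixed_point_of_prime_dvd_card_of_fixed_point S hd h0
  induction b using Submodule.Quotient.induction_on with
  | H y =>
    refine ⟨y, mem_fixedSeries_succ.mpr fun g => ?_, fun hy => hb0 ?_⟩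
    · have := congrArg Subtype.val (hb g)
      have h2 : W.mapQ W (ρ g) (fun z hz => fixedSeries_invariant ρ k g z hz) (Submodule.Quotient.mk y) =
          Submodule.Quotient.mk y := this
      rw [Submodule.mapQ_apply] at h2
      exact (Submodule.Quotient.eq W).mp h2
    · exact Subtype.ext ((Submodule.Quotient.mk_eq_zero W).mpr hy).symm

theorem fixedSeries_finrank [Finite P] [FiniteDimensional F V] {p : ℕ} [Fact p.Prime] [CharP F p]
    (hP : IsPGroup p P) (ρ : P →* Module.End F V) : fixedSeries ρ (finrank F V) = ⊤ := by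
  have key : ∀ k, fixedSeries ρ k = ⊤ ∨ k ≤ finrank F (fixedSeries ρ k) := by
    intro k
    induction k with
    | zero => exact Or.inr (Nat.zero_le _)
    | succ k ih =>
      by_cases htop : fixedSeries ρ k = ⊤
      · exact Or.inl (top_le_iff.mp (htop ▸ fixedSeries_mono ρ k.le_succ))
      · obtain ⟨v, hv, hv'⟩ := exists_mem_fixedSeries_succ hP ρ k htop
        have hlt : fixedSeries ρ k < fixedSeries ρ (k + 1) :=
          lt_of_le_of_ne (fixedSeries_mono ρ k.le_succ) fun h => hv' (h ▸ hv)
        have := Submodule.finrank_lt_finrank_of_lt hlt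
        exact Or.inr (by have := ih.resolve_left htop; omega)
  rcases key (finrank F V) with h | h
  · exact h
  · exact Submodule.eq_top_of_finrank_eq (le_antisymm (Submodule.finrank_le _) h)

/-- Elements acting as the identity modulo a drop of `a` steps. -/
def levelSubgroup (ρ : P →* Module.End F V) (a : ℕ) : Subgroup P where
  carrier := {g | ∀ j v, v ∈ fixedSeries ρ j → ρ g v - v ∈ fixedSeries ρ (j - a)}
  one_mem' := fun j v _ => by simp
  mul_mem' := fun {g h} hg hh j v hv => by
    have e : ρ (g * h) v - v = ρ g (ρ h v - v) + (ρ g v - v) := by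
      rw [map_mul, Module.End.mul_apply, map_sub]; abel
    rw [e]
    exact add_mem (fixedSeries_invariant ρ _ g _ (hh j v hv)) (hg j v hv)
  inv_mem' := fun {g} hg j v hv => by
    have e : ρ g⁻¹ v - v = - ρ g⁻¹ (ρ g v - v) := by
      rw [map_sub, ← Module.End.mul_apply, ← map_mul, inv_mul_cancel, map_one, Module.End.one_apply]; abel
    rw [e]
    exact neg_mem (fixedSeries_invariant ρ _ _ _ (hg j v hv))

theorem derivedSeries_le_levelSubgroup (ρ : P →* Module.End F V) (i : ℕ) :
    derivedSeries P i ≤ levelSubgroup ρ (2 ^ i) := by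
  induction i with
  | zero =>
    intro g _ j v hv
    match j with
    | 0 => simp [fixedSeries] at hv; simp [hv]
    | j + 1 => simpa using mem_fixedSeries_succ.mp hv g
  | succ i ih =>
    rw [derivedSeries_succ]
    refine (Subgroup.commutator_mono ih ih).trans (Subgroup.commutator_le.mpr fun g hg h hh j v hv => ?_)
    set w := ρ (g⁻¹ * h⁻¹) v with hw
    have hwj : w ∈ fixedSeries ρ j := fixedSeries_invariant ρ j _ v hv
    have h1 : ρ h w - w ∈ fixedSeries ρ (j - 2 ^ i) := hh j w hwj
    have h2 : ρ g w - w ∈ fixedSeries ρ (j - 2 ^ i) := hg j w hwj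
    have h3 : ρ g (ρ h w - w) - (ρ h w - w) ∈ fixedSeries ρ (j - 2 ^ i - 2 ^ i) := hg _ _ h1
    have h4 : ρ h (ρ g w - w) - (ρ g w - w) ∈ fixedSeries ρ (j - 2 ^ i - 2 ^ i) := hh _ _ h2
    have e : ρ (g * h * g⁻¹ * h⁻¹) v - v =
        (ρ g (ρ h w - w) - (ρ h w - w)) - (ρ h (ρ g w - w) - (ρ g w - w)) := by
      have e1 : ρ (g * h * g⁻¹ * h⁻¹) v = ρ g (ρ h w) := by
        rw [hw, ← Module.End.mul_apply (ρ h), ← map_mul, ← Module.End.mul_apply, ← map_mul]
        congr 2; group
      have e2 : ρ h (ρ g w) = v := by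
        rw [hw, ← Module.End.mul_apply (ρ g), ← map_mul, ← Module.End.mul_apply, ← map_mul]
        rw [show h * (g * (g⁻¹ * h⁻¹)) = 1 by group, map_one, Module.End.one_apply]
      rw [e1, map_sub, map_sub, e2]
      abel
    rw [commutatorElement_def, e, pow_succ, mul_two, ← Nat.sub_sub]
    exact sub_mem h3 h4

/-- In characteristic `p` the derived length of a linear `p`-group of degree `≤ 2 ^ i` is at most `i`. -/
theorem derivedSeries_eq_bot_of_charP [Finite P] [FiniteDimensional F V] {p : ℕ} [Fact p.Prime]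
    [CharP F p] (hP : IsPGroup p P) (ρ : P →* Module.End F V) (hρ : Function.Injective ρ) {i : ℕ}
    (hi : finrank F V ≤ 2 ^ i) : derivedSeries P i = ⊥ := by
  rw [eq_bot_iff]
  intro g hg
  rw [Subgroup.mem_bot]
  apply hρ
  rw [map_one]
  ext v
  have hv : v ∈ fixedSeries ρ (finrank F V) := by rw [fixedSeries_finrank hP ρ]; trivial
  have := derivedSeries_le_levelSubgroup ρ i hg _ v hv
  rw [Nat.sub_eq_zero_of_le hi, fixedSeries, Submodule.mem_bot, sub_eq_zero] at this
  simpa using this

end Cfsg.Agent.Lib.Elem69
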